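/-
Groups with an elementary abelian Sylow 2-subgroup of order 8: covers.
-/
import Cfsg.Agent.H3.Transfer
import Cfsg.Agent.H13.SL2Syl
import Cfsg.Agent.H22.Linear
import Cfsg.Agent.S4593
import Cfsg.Agent.S0542
import Cfsg.Agent.H1.Cores

set_option autoImplicit false
set_option linter.unusedSectionVars false
set_option linter.style.haveILetI false

namespace H5

open Subgroup Cfsg
open scoped commutatorElement IsMulCommutative Pointwise

variable {G : Type*} [Group G] [Finite G]

theorem fix_eq_one_of_abelian_sylow {p : ℕ} [Fact p.Prime] (P : Sylow p G)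
    [hP : IsMulCommutative (P : Subgroup G)] {s : G} (hs : s ∈ (P : Subgroup G))
    (hc : s ∈ commutator G)
    (hfix : ∀ g ∈ normalizer ((P : Subgroup G) : Set G), g * s = s * g) : s = 1 := by
  set N := normalizer ((P : Subgroup G) : Set G) with hN
  have hPN : (P : Subgroup G) ≤ N := le_normalizer
  have h1 : s ∈ ⁅(P : Subgroup G), N⁆ := by
    have := H3.commutator_inf_eq_of_abelian P
    exact this.le ⟨hc, hs⟩
  have h2 : s ∈ (commutator N).map N.subtype := by
    rw [_root_.commutator_def, Subgroup.map_commutator, ← MonoidHom.range_eq_map, range_subtype]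
    exact commutator_mono hPN le_rfl h1
  obtain ⟨s', hs', rfl⟩ := h2
  let Q : Sylow p N := P.subtype hPN
  haveI : IsMulCommutative (Q : Subgroup N) := ⟨⟨fun a b => by
    have := congrArg Subtype.val
      (hP.is_comm.comm (⟨a.1.1, a.2⟩ : (P : Subgroup G)) ⟨b.1.1, b.2⟩)
    exact Subtype.ext (Subtype.ext this)⟩⟩
  have h3 : s' = 1 := by
    refine H3.eq_one_of_mem_abelian_hall (H := (Q : Subgroup N)) Q.card_coprime_index hs hs' ?_
    rw [mem_center_iff]
    intro g
    exact Subtype.ext (hfix g.1 g.2)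
  rw [h3]; rfl

theorem comm_of_index_le_two {C H : Subgroup G}
    (hc : ∀ h ∈ H, ∀ c ∈ C, h * c = c * h) (hi : H.relIndex C ≤ 2) :
    ∀ a ∈ C, ∀ b ∈ C, a * b = b * a := by
  intro a ha b hb
  by_cases h1 : a ∈ H
  · exact hc a h1 b hb
  by_cases h2 : b ∈ H
  · exact (hc b h2 a ha).symm
  have h0 : H.relIndex C ≠ 0 := index_ne_zero_of_finite
  have h3 : H.relIndex C ≠ 1 := fun h => h1 (relIndex_eq_one.1 h ha)
  have h4 : (H.subgroupOf C).index = 2 := by
    change H.relIndex C = 2
    omega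
  have h5 : a⁻¹ * b ∈ H := by
    have := (Subgroup.mul_mem_iff_of_index_two h4 (a := ⟨a⁻¹, inv_mem ha⟩) (b := ⟨b, hb⟩)).2
      (by simp [mem_subgroupOf, h1, h2])
    exact this
  have h6 := hc _ h5 a ha
  calc a * b = a * (a * (a⁻¹ * b)) := by group
    _ = a * (a⁻¹ * b * a) := by rw [h6]
    _ = b * a := by group

theorem relIndex_centralizer_le_card {K T : Subgroup G} (hK : K ≤ center G)
    (hcomm : ∀ x ∈ T, ∀ y ∈ T, ⁅x, y⁆ ∈ K) {a : G} (ha : a ∈ T) :
    (centralizer ({a} : Set G)).relIndex T ≤ Nat.card K := by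
  let f : T →* K :=
    { toFun := fun b => ⟨⁅(b : G), a⁆, hcomm _ b.2 _ ha⟩
      map_one' := by ext; simp
      map_mul' := fun b c => by
        ext
        have hc := mem_center_iff.1 (hK (hcomm _ c.2 _ ha))
        simp only [Subgroup.coe_mul]
        have : ⁅(b : G) * c, a⁆ = b * ⁅(c : G), a⁆ * (b : G)⁻¹ * ⁅(b : G), a⁆ := by
          simp only [commutatorElement_def]; group
        rw [this, hc b, mul_inv_cancel_right, ← hc] }
  have hker : f.ker = (centralizer ({a} : Set G)).subgroupOf T := by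
    ext b
    rw [MonoidHom.mem_ker, mem_subgroupOf, mem_centralizer_singleton_iff, Subtype.ext_iff]
    exact commutatorElement_eq_one_iff_mul_comm
  rw [relIndex, ← hker, index_ker]
  exact Subgroup.card_le_card_group _

theorem card_center_sixteen {K T : Subgroup G} (hK : K ≤ center G) (hKT : K ≤ T)
    (h2 : Nat.card K = 2) (h16 : Nat.card T = 16)
    (hcomm : ∀ x ∈ T, ∀ y ∈ T, ⁅x, y⁆ ∈ K) {x y : G} (hx : x ∈ T) (hy : y ∈ T)
    (hxy : x * y ≠ y * x) : Nat.card (T ⊓ centralizer (T : Set G) : Subgroup G) = 4 := by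
  set W : Subgroup G := T ⊓ centralizer (T : Set G) with hW
  have hWc : ∀ w ∈ W, ∀ c ∈ T, w * c = c * w := fun w hw c hc =>
    (mem_centralizer_iff.1 hw.2 c hc).symm
  have hW4 : 2 < W.relIndex T := by
    by_contra h
    exact hxy (comm_of_index_le_two hWc (not_lt.1 h) x hx y hy)
  have hWT := H1.card_mul_relIndex (inf_le_left : W ≤ T)
  rw [h16] at hWT
  set C : Subgroup G := centralizer ({x} : Set G) ⊓ T with hC
  have hCi := relIndex_centralizer_le_card hK hcomm hx
  have hyC : y ∉ centralizer ({x} : Set G) := fun h =>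
    hxy (mem_centralizer_singleton_iff.1 h).symm
  have hCi2 : (centralizer ({x} : Set G)).relIndex T = 2 := by
    have h0 : (centralizer ({x} : Set G)).relIndex T ≠ 0 := index_ne_zero_of_finite
    have h3 : (centralizer ({x} : Set G)).relIndex T ≠ 1 := fun h => hyC (relIndex_eq_one.1 h hy)
    omega
  have hC8 : Nat.card C = 8 := by
    have := H1.card_inf_mul_relIndex (centralizer ({x} : Set G)) T
    rw [hCi2, h16] at this
    rw [hC]; omega
  let Y : Subgroup G := C ⊓ centralizer (C : Set G)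
  have hKY : K < Y := by
    refine lt_of_le_of_ne (fun k hk => ⟨⟨mem_centralizer_singleton_iff.2
      (mem_center_iff.1 (hK hk) x).symm, hKT hk⟩, fun c _ => mem_center_iff.1 (hK hk) c⟩) ?_
    intro h
    have hxY : x ∈ Y := ⟨⟨mem_centralizer_singleton_iff.2 rfl, hx⟩,
      fun c hc => mem_centralizer_singleton_iff.1 hc.1⟩
    rw [← h] at hxY
    exact hxy (mem_center_iff.1 (hK hxY) y).symm
  have hY4 : Y.relIndex C ≤ 2 := by
    have h1 := H1.card_mul_relIndex (inf_le_left : Y ≤ C)
    have h3 := H1.card_mul_relIndex hKY.le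
    have h4 : K.relIndex Y ≠ 1 := fun h => hKY.not_ge (relIndex_eq_one.1 h)
    have h5 : K.relIndex Y ≠ 0 := index_ne_zero_of_finite
    rw [h2] at h3
    rw [hC8] at h1
    change Nat.card Y * Y.relIndex C = 8 at h1
    have : 4 ≤ Nat.card Y := by omega
    nlinarith
  have hCab := comm_of_index_le_two (C := C) (H := Y)
    (fun h hh c hc => (mem_centralizer_iff.1 hh.2 c hc).symm) hY4
  let D : Subgroup G := centralizer ({y} : Set G) ⊓ C
  have hD4 : 4 ≤ Nat.card D := by
    have h1 := H1.card_inf_mul_relIndex (centralizer ({y} : Set G)) C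
    have h3 := relIndex_centralizer_le_card hK hcomm hy
    have h4 : (centralizer ({y} : Set G)).relIndex C ≤ (centralizer ({y} : Set G)).relIndex T :=
      relIndex_le_of_le_right inf_le_right index_ne_zero_of_finite
    rw [hC8] at h1
    change Nat.card D * _ = 8 at h1
    nlinarith
  have hDW : D ≤ W := by
    intro d hd
    refine ⟨hd.2.2, mem_centralizer_iff.2 fun g (hg : g ∈ T) => ?_⟩
    have hdy : d * y = y * d := mem_centralizer_singleton_iff.1 hd.1
    by_cases hgC : g ∈ centralizer ({x} : Set G)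
    · exact hCab g ⟨hgC, hg⟩ d hd.2
    · have h5 : g * y⁻¹ ∈ centralizer ({x} : Set G) := by
        have := (Subgroup.mul_mem_iff_of_index_two hCi2 (a := ⟨g, hg⟩)
          (b := ⟨y⁻¹, inv_mem hy⟩)).2 (by simp [mem_subgroupOf, hgC, hyC])
        exact this
      have h6 := hCab _ ⟨h5, T.mul_mem hg (T.inv_mem hy)⟩ d hd.2
      calc g * d = g * y⁻¹ * (y * d) := by group
        _ = (g * y⁻¹ * d) * y := by rw [← hdy]; group
        _ = d * g := by rw [h6]; group
  have hW5 : 4 ≤ Nat.card W := hD4.trans (Subgroup.card_le_of_le hDW)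
  have hW6 : Nat.card W ≤ 5 := by nlinarith
  have : Nat.card W ≠ 5 := by intro h; rw [h] at hWT; omega
  omega

theorem no_double_cover {L : Type*} [Group L] [Finite L] (π : L →* G)
    (hπ : Function.Surjective π) (hZ : π.ker ≤ center L) (h2 : Nat.card π.ker = 2)
    (hL : commutator L = ⊤) (S : Sylow 2 G) [hS : IsMulCommutative (S : Subgroup G)]
    (h8 : Nat.card (S : Subgroup G) = 8) : False := by
  have hG : commutator G = ⊤ := by
    have := Subgroup.map_commutator (⊤ : Subgroup L) ⊤ π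
    rw [← _root_.commutator_def, hL, map_top_of_surjective π hπ] at this
    exact this.symm
  have hkp : IsPGroup 2 π.ker := IsPGroup.of_card (n := 1) (by simpa using h2)
  let T : Sylow 2 L := S.comapOfKerIsPGroup π hkp (by rw [π.range_eq_top.2 hπ]; exact le_top)
  have hT : (T : Subgroup L) = (S : Subgroup G).comap π := rfl
  have hk : π.ker ≤ (T : Subgroup L) := by rw [hT]; exact MonoidHom.ker_le_comap π _
  have hcomm : ∀ x ∈ (T : Subgroup L), ∀ y ∈ (T : Subgroup L), ⁅x, y⁆ ∈ π.ker := by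
    intro x hx y hy
    rw [MonoidHom.mem_ker, map_commutatorElement, commutatorElement_eq_one_iff_mul_comm]
    exact congrArg Subtype.val (hS.is_comm.comm (⟨π x, hx⟩ : (S : Subgroup G)) ⟨π y, hy⟩)
  have hcard : ∀ X : Subgroup L, π.ker ≤ X → Nat.card X = 2 * Nat.card (X.map π) := by
    intro X hX
    rw [← H1.card_mul_relIndex hX, h2, Subgroup.relIndex_ker]
  have hcardT : Nat.card (T : Subgroup L) = 16 := by
    rw [hcard _ hk, hT, map_comap_eq_self_of_surjective hπ, h8]
  by_cases hab : ∀ x ∈ (T : Subgroup L), ∀ y ∈ (T : Subgroup L), x * y = y * x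
  · haveI : IsMulCommutative (T : Subgroup L) :=
      ⟨⟨fun a b => Subtype.ext (hab _ a.2 _ b.2)⟩⟩
    have : π.ker = ⊥ := by
      rw [eq_bot_iff]
      intro z hzk
      exact H3.eq_one_of_mem_abelian_hall (H := (T : Subgroup L)) T.card_coprime_index (hk hzk)
        (hL ▸ mem_top z) (hZ hzk)
    rw [this] at h2; simp at h2
  push Not at hab
  obtain ⟨x, hx, y, hy, hxy⟩ := hab
  have hW := card_center_sixteen hZ hk h2 hcardT hcomm hx hy hxy
  set W : Subgroup L := (T : Subgroup L) ⊓ centralizer ((T : Subgroup L) : Set L) with hWd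
  have hkW : π.ker ≤ W := fun z hz => ⟨hk hz, fun c _ => mem_center_iff.1 (hZ hz) c⟩
  have hR : Nat.card (W.map π) = 2 := by
    have := hcard W hkW
    omega
  obtain ⟨a, ha, hu⟩ := (Nat.card_eq_two_iff' (1 : W.map π)).1 hR
  apply ha
  apply Subtype.ext
  obtain ⟨w, hw, hwa⟩ := a.2
  refine fix_eq_one_of_abelian_sylow S (by rw [← hwa]; exact hw.1) (hG ▸ mem_top _) ?_
  intro g hg
  obtain ⟨l, rfl⟩ := hπ g
  have hl : ∀ t, t ∈ (T : Subgroup L) ↔ l * t * l⁻¹ ∈ (T : Subgroup L) := by
    intro t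
    rw [hT, mem_comap, mem_comap, map_mul, map_mul, map_inv]
    exact mem_normalizer_iff.1 hg (π t)
  have hw' : l * w * l⁻¹ ∈ W := by
    refine ⟨(hl w).1 hw.1, fun c hc => ?_⟩
    have h1 : l⁻¹ * c * l ∈ (T : Subgroup L) := by
      rw [hl]; simpa [mul_assoc] using hc
    have h3 := mem_centralizer_iff.1 hw.2 _ h1
    calc c * (l * w * l⁻¹) = l * (l⁻¹ * c * l * w) * l⁻¹ := by group
      _ = l * w * l⁻¹ * c := by rw [h3]; group
  have h4 : (⟨π (l * w * l⁻¹), mem_map_of_mem π hw'⟩ : W.map π) = a := by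
    apply hu
    intro h
    apply ha
    apply Subtype.ext
    have h5 : π (l * w * l⁻¹) = 1 := congrArg Subtype.val h
    rw [map_mul, map_mul, map_inv, hwa, mul_inv_eq_one, mul_eq_left] at h5
    exact h5
  have h5 : π (l * w * l⁻¹) = a := congrArg Subtype.val h4
  rw [map_mul, map_mul, map_inv, hwa, mul_inv_eq_iff_eq_mul] at h5
  exact h5

theorem no_two_cover {L : Type*} [Group L] [Finite L] (π : L →* G)
    (hπ : Function.Surjective π) (hZ : π.ker ≤ center L) (h2 : IsPGroup 2 π.ker)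
    (hL : commutator L = ⊤) (S : Sylow 2 G) [hS : IsMulCommutative (S : Subgroup G)]
    (h8 : Nat.card (S : Subgroup G) = 8) : π.ker = ⊥ := by
  by_contra hne
  obtain ⟨n, hn⟩ := IsPGroup.iff_card.1 h2
  have hn0 : n ≠ 0 := by
    rintro rfl
    exact hne (Subgroup.card_eq_one.1 (by simpa using hn))
  obtain ⟨m, rfl⟩ := Nat.exists_eq_succ_of_ne_zero hn0
  obtain ⟨Z₀, hZ₀⟩ := Sylow.exists_subgroup_card_pow_prime (G := π.ker) 2 (n := m)
    (by rw [hn]; exact pow_dvd_pow 2 (Nat.le_succ m))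
  let Z₁ : Subgroup L := Z₀.map π.ker.subtype
  have hZ₁ : Z₁ ≤ π.ker := map_subtype_le _
  haveI : Z₁.Normal := ⟨fun z hz g => by
    rw [mem_center_iff.1 (hZ (hZ₁ hz)) g, mul_inv_cancel_right]; exact hz⟩
  let π' : L ⧸ Z₁ →* G := QuotientGroup.lift Z₁ π hZ₁
  have hk' : π'.ker = π.ker.map (QuotientGroup.mk' Z₁) := QuotientGroup.ker_lift Z₁ π hZ₁
  refine no_double_cover π' ?_ ?_ ?_ ?_ S h8
  · intro g
    obtain ⟨l, rfl⟩ := hπ g
    exact ⟨QuotientGroup.mk l, rfl⟩
  · rw [hk']
    rintro _ ⟨z, hz, rfl⟩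
    rw [mem_center_iff]
    intro g
    obtain ⟨l, rfl⟩ := QuotientGroup.mk'_surjective Z₁ g
    rw [← map_mul, ← map_mul, mem_center_iff.1 (hZ hz) l]
  · have h1 := H1.card_mul_relIndex hZ₁
    have h3 : Nat.card Z₁ = 2 ^ m := by
      rw [← hZ₀]; exact card_map_of_injective π.ker.subtype_injective
    have h4 := Subgroup.relIndex_ker π.ker (QuotientGroup.mk' Z₁)
    rw [QuotientGroup.ker_mk'] at h4
    rw [hk', ← h4]
    rw [h3, hn, pow_succ] at h1
    exact Nat.eq_of_mul_eq_mul_left (by positivity) h1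
  · have := Subgroup.map_commutator (⊤ : Subgroup L) ⊤ (QuotientGroup.mk' Z₁)
    rw [← _root_.commutator_def, hL,
      map_top_of_surjective _ (QuotientGroup.mk'_surjective Z₁)] at this
    exact this.symm

theorem sylow_le_of_psl_normal {E : Type*} [Group E] [Finite E] (R : Sylow 2 E)
    [hR : IsMulCommutative (R : Subgroup E)] {F : Type*} [Field F] [Fintype F]
    (hFo : Odd (Fintype.card F)) (hF3 : 3 < Fintype.card F) (N : Subgroup E) [hN : N.Normal]
    (e : N ≃* Matrix.ProjectiveSpecialLinearGroup (Fin 2) F)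
    (hNc : centralizer (N : Set E) = ⊥) : Nat.card (R : Subgroup E) = 4 := by
  obtain ⟨Q, hQ⟩ := Cfsg.Agent.S0542.result 2 N hN.isSubnormal R
  haveI hQc : IsMulCommutative (Q : Subgroup N) := ⟨⟨fun a b => by
    have ha : a.1.1 ∈ (R : Subgroup E) := hQ.le a.2
    have hb : b.1.1 ∈ (R : Subgroup E) := hQ.le b.2
    have := congrArg Subtype.val (hR.is_comm.comm (⟨a.1.1, ha⟩ : (R : Subgroup E)) ⟨b.1.1, hb⟩)
    exact Subtype.ext (Subtype.ext this)⟩⟩
  haveI hs : IsSimpleGroup (Matrix.ProjectiveSpecialLinearGroup (Fin 2) F) :=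
    H22.PSL_fin_isSimpleGroup 2 le_rfl (fun _ => hF3)
  haveI hsN : IsSimpleGroup N := e.isSimpleGroup
  have hQ4 : Nat.card (Q : Subgroup N) = 4 := by
    let Q' := Q.mapSurjective (f := e.toMonoidHom) e.surjective
    obtain ⟨k, -, ⟨d⟩⟩ := H13.psl2_dihedral hFo Q'
    let e' : (Q : Subgroup N) ≃*
        (Q' : Subgroup (Matrix.ProjectiveSpecialLinearGroup (Fin 2) F)) :=
      Subgroup.equivMapOfInjective (Q : Subgroup N) e.toMonoidHom e.injective
    have hc : IsMulCommutative (DihedralGroup (2 ^ (k + 1))) := ⟨⟨fun a b => by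
      obtain ⟨a, rfl⟩ := (e'.trans d).surjective a
      obtain ⟨b, rfl⟩ := (e'.trans d).surjective b
      rw [← map_mul, ← map_mul, hQc.is_comm.comm]⟩⟩
    have h2 : 2 ^ (k + 1) = 2 := by
      rcases DihedralGroup.commutative_iff.1 hc with h | h
      · have : 2 ∣ 2 ^ (k + 1) := dvd_pow_self 2 (by omega)
        omega
      · exact h
    rw [Nat.card_congr (e'.trans d).toEquiv, DihedralGroup.nat_card, h2]
  have hZ : center N = ⊥ := by
    rw [eq_bot_iff]
    intro z hz
    have : (z : E) ∈ centralizer (N : Set E) := fun n hn =>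
      congrArg Subtype.val (mem_center_iff.1 hz ⟨n, hn⟩)
    rw [hNc] at this
    exact Subtype.ext this
  have hO : pPrimeCore 2 N = ⊥ := by
    rcases (inferInstance : (pPrimeCore 2 N).Normal).eq_bot_or_eq_top with h | h
    · exact h
    · exfalso
      have h1 := (H1.coprime_card_pPrimeCore (G := N) 2)
      rw [h, card_top] at h1
      have h3 : 4 ∣ Nat.card N := hQ4 ▸ card_subgroup_dvd_card (Q : Subgroup N)
      have := Nat.Coprime.coprime_dvd_left (Dvd.dvd.trans (by norm_num : 2 ∣ 4) h3) h1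
      simp at this
  have hRN : (R : Subgroup E) ≤ N := by
    intro r hr
    have key := Cfsg.Agent.S4593.result hZ hO Q hQc (MulAut.conjNormal r) ?_ ?_
    · obtain ⟨g, hg⟩ := key
      have : (g : E)⁻¹ * r ∈ centralizer (N : Set E) := by
        intro n hn
        have h1 : r * n * r⁻¹ = g * n * (g : E)⁻¹ := congrArg Subtype.val (hg ⟨n, hn⟩)
        calc n * ((g : E)⁻¹ * r) = (g : E)⁻¹ * (g * n * (g : E)⁻¹) * r := by group
          _ = (g : E)⁻¹ * r * n := by rw [← h1]; group
      rw [hNc, mem_bot, inv_mul_eq_one] at this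
      rw [← this]; exact g.2
    · obtain ⟨k, hk⟩ := R.isPGroup' ⟨r, hr⟩
      have h1 : r ^ 2 ^ k = 1 := congrArg Subtype.val hk
      have h3 : orderOf (MulAut.conjNormal r : MulAut N) ∣ 2 ^ k :=
        orderOf_dvd_of_pow_eq_one (by rw [← map_pow, h1, map_one])
      obtain ⟨j, -, hj⟩ := (Nat.dvd_prime_pow Nat.prime_two).1 h3
      exact ⟨j, hj⟩
    · intro x hx
      rw [hQ] at hx
      apply Subtype.ext
      have := congrArg Subtype.val (hR.is_comm.comm (⟨r, hr⟩ : (R : Subgroup E)) ⟨x.1, hx⟩)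
      simp only [MulAut.conjNormal_apply]
      rw [mul_inv_eq_iff_eq_mul]; exact this
  rw [← hQ4, hQ]
  exact (Nat.card_congr (subgroupOfEquivOfLe hRN).toEquiv).symm

end H5
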