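import Cfsg.Agent.H5.RA
import Cfsg.Agent.H15.CJ3
import Cfsg.Agent.S4593

/-! Automorphisms of odd prime power order centralising a Sylow subgroup. -/

set_option autoImplicit false
set_option linter.unusedSectionVars false

namespace H15.CJ

open Subgroup _root_.Cfsg H1 _root_.H15 H16 H16.GD H26.J H4
open scoped MatrixGroups

variable {F : Type*} [Field F] [Fintype F] {r k : ℕ} [hr : Fact r.Prime]

theorem fld_trivial (h2 : r ≠ 2) {β : MulAut PSL(2, F)} (hβ : β ^ r ^ k = 1) (hd : r ∣ Nat.card PSL(2, F))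
    (R : Sylow r PSL(2, F)) (hR : ∀ x ∈ R.1, β x = x) {a : PGL(2, F)} {σ : F ≃+* F}
    (h : ∀ y, psl2pgl (β y) = a * fld σ (psl2pgl y) * a⁻¹) : σ = 1 := by
  have conj : ∀ Q : Subgroup PSL(2, F), IsPGroup r Q → ∃ g, ∀ y ∈ Q, β (g * y * g⁻¹) = g * y * g⁻¹ := fun Q hQ => by
    obtain ⟨P, hP⟩ := hQ.exists_le_sylow
    obtain ⟨g, rfl⟩ := MulAction.exists_smul_eq PSL(2, F) P R
    exact ⟨g, fun y hy => hR _ ⟨y, hP hy, rfl⟩⟩
  obtain ⟨p, hp⟩ := CharP.exists F
  obtain ⟨n, pp, hF⟩ := FiniteField.card F p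
  have fp := Fact.mk pp
  by_cases e : r = p
  · subst e
    obtain ⟨g, hg⟩ := conj (uu F).range (IsPGroup.of_card (n := n) (by
      rw [← Nat.card_congr (MonoidHom.ofInjective uu_inj).toEquiv, Nat.card_eq_fintype_card, Fintype.card_multiplicative,
        hF]))
    have k : ∀ t : F, psl2pgl (uu F (.ofAdd t)) = (psl2pgl g)⁻¹ * a * fld σ (psl2pgl g) *
        fld σ (psl2pgl (uu F (.ofAdd t))) * ((psl2pgl g)⁻¹ * a * fld σ (psl2pgl g))⁻¹ := fun t => by
      have := h (g * uu F (.ofAdd t) * g⁻¹)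
      rw [hg _ ⟨_, rfl⟩] at this
      simp only [map_mul, map_inv] at this
      calc _ = (psl2pgl g)⁻¹ * (psl2pgl g * psl2pgl (uu F (.ofAdd t)) * (psl2pgl g)⁻¹) * psl2pgl g := by group
        _ = _ := by rw [this]; group
    ext t
    simpa using (uu_conj (k 1) (k t)).2
  have ta : ∀ y, tau (psl2pgl (β y)) = σ (tau (psl2pgl y)) := fun y => by rw [h, tau_conj, tau_fld]
  have tn : ∀ m y, tau (psl2pgl ((β ^ m) y)) = (σ ^ m) (tau (psl2pgl y)) := fun m => by
    induction m with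
    | zero => simp
    | succ m ih => intro y; rw [pow_succ', pow_succ', MulAut.mul_apply, ta, ih]; rfl
  have sq : ∀ t : F, (σ ^ r ^ k) t = t ∨ (σ ^ r ^ k) t = -t := fun t => by
    obtain ⟨u, hu⟩ : ∃ u : SL(2, F), u.1.trace = t := ⟨⟨!![t, -1; 1, 0], by simp⟩, by simp⟩
    have := tn (r ^ k) u
    rw [hβ, MulAut.one_apply, psl2pgl_mk, tau_smk, hu, map_pow] at this
    exact sq_eq_sq_iff_eq_or_eq_neg.1 this.symm
  have hσ : σ ^ r ^ k = 1 := by
    ext t
    rcases sq t with e | e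
    · exact e
    rcases sq (1 + t) with e' | e' <;> rw [map_add, map_one, e] at e'
    · rw [e, add_left_cancel e']; rfl
    · rw [e, RingAut.one_apply]
      linear_combination (-t) * e'
  obtain ⟨j, -, hj⟩ := (Nat.dvd_prime_pow hr.out).1 (orderOf_dvd_of_pow_eq_one hσ)
  obtain ⟨E, hE, hc⟩ := exists_fixed σ
  by_contra hne
  obtain ⟨j, rfl⟩ := Nat.exists_eq_succ_of_ne_zero (n := j) fun e => hne (orderOf_eq_one_iff.1 (by rw [hj, e, pow_zero]))
  rw [hj] at hc
  have cop : r.Coprime (Nat.card E) := by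
    refine (Nat.coprime_pow_right_iff (pow_pos hr.out.pos (j + 1)) _ _).1 ?_
    rw [← hc, Nat.card_eq_fintype_card, hF]
    exact ((Nat.coprime_primes hr.out pp).2 e).pow_right _
  have od : ∀ c, Odd (r ^ c) := fun c => (hr.out.odd_of_ne_two h2).pow
  have key : ∀ (y : PGL(2, F)) c, orderOf y = r ^ (c + 1) → r ^ (c + 1) ∣ Nat.card E ^ 2 - 1 := fun y c hy => by
    obtain ⟨z, rfl⟩ := mem_pL_of_odd (hy ▸ od _ : Odd (orderOf y))
    change orderOf (psl2pgl z) = _ at hy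
    obtain ⟨g, hg⟩ := conj (zpowers z) (IsPGroup.of_card (n := c + 1) (by
      rw [Nat.card_zpowers, ← hy, orderOf_injective _ psl2pgl_injective]))
    have k := ta (g * z * g⁻¹)
    rw [hg z (mem_zpowers z), map_mul, map_mul, map_inv, tau_conj] at k
    refine (cop.pow_left _).dvd_of_dvd_mul_left (hy ▸ orderOf_dvd_of_tau (fun e => ?_) ((hE _).2 k.symm))
    have := (dvd_pow_self r (Nat.succ_ne_zero c)).trans (hy ▸ orderOf_dvd_of_pow_eq_one (n := 2) (by rw [pow_two, e]))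
    exact h2 ((Nat.prime_dvd_prime_iff_eq hr.out Nat.prime_two).1 this)
  obtain ⟨x, hx⟩ := exists_prime_orderOf_dvd_card' r hd
  rw [← orderOf_injective _ psl2pgl_injective] at hx
  obtain ⟨g, hg⟩ : ∃ g, pmk g = psl2pgl x := Matrix.ProjGenLinGroup.mk_surjective _
  rw [← hg] at hx
  have dg := disc_ne_zero_of_pow p (H10.ne_one_of_orderOf_eq hx) (n := r)
    (fun k => e ((Nat.prime_dvd_prime_iff_eq pp hr.out).1 k).symm) (hx ▸ pow_orderOf_eq_one _)
  have k1 := key _ 0 (hx.trans (pow_one r).symm)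
  have k0 : 1 < Nat.card E := Finite.one_lt_card
  generalize Nat.card E = q at *
  have q2 : 1 < q ^ 2 := Nat.one_lt_pow two_ne_zero k0
  obtain ⟨c, m, hm, k2⟩ := Nat.exists_eq_pow_mul_and_not_dvd (n := q ^ 2 - 1) (by omega) r hr.out.ne_one
  have k3 : r ^ (c + 1) ∣ (Fintype.card F - 1) * (Fintype.card F + 1) := by
    have k4 : r ∣ ∑ i ∈ Finset.range r, (q ^ 2) ^ i := by
      rw [zero_add, pow_one] at k1
      have := ((Nat.modEq_iff_dvd' q2.le).2 k1).symm
      rw [← ZMod.natCast_eq_zero_iff, Nat.cast_sum]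
      simp [(ZMod.natCast_eq_natCast_iff _ _ _).2 this, -Nat.cast_pow, Nat.cast_pow (q ^ 2)]
    have k5 : r ^ (c + 1) ∣ (q ^ 2) ^ r - 1 := by
      rw [← geom_sum_mul_of_one_le q2.le, k2, pow_succ']
      exact mul_dvd_mul k4 (Dvd.intro _ rfl)
    rw [mul_comm, ← Nat.sq_sub_sq, ← Nat.card_eq_fintype_card, hc, one_pow, ← pow_mul, mul_comm, pow_mul,
      Nat.pow_succ' (n := j), pow_mul]
    exact k5.trans (Nat.sub_one_dvd_pow_sub_one _ _)
  have k4 : r ∣ Nat.card (pT g) := hx ▸ orderOf_dvd_natCard _ (pmk_mem_pT_self g)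
  have k5 : r ^ (c + 1) ∣ Nat.card (pT g) := by
    have f1 : 1 ≤ Fintype.card F := Fintype.card_pos
    have k6 : r ∣ Fintype.card F + 1 → r ∣ Fintype.card F - 1 → False := fun a b => h2
      ((Nat.prime_dvd_prime_iff_eq hr.out Nat.prime_two).1 (by simpa [Nat.sub_sub_self, f1] using Nat.dvd_sub a b))
    rcases card_pT dg with k | k <;> rw [k] at k4 ⊢
    · exact (((Nat.Prime.coprime_iff_not_dvd hr.out).2 (k6 k4)).pow_left _).dvd_of_dvd_mul_left k3
    · exact (((Nat.Prime.coprime_iff_not_dvd hr.out).2 (k6 · k4)).pow_left _).dvd_of_dvd_mul_right k3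
  have := isCyclic_pT dg
  obtain ⟨y, hy⟩ : ∃ y : pT g, orderOf y = r ^ (c + 1) := by
    obtain ⟨y, hy⟩ := IsCyclic.exists_ofOrder_eq_natCard (α := pT g)
    exact ⟨y ^ (orderOf y / r ^ (c + 1)), orderOf_pow_orderOf_div (orderOf_pos y).ne' (hy ▸ k5)⟩
  have := key y c ((orderOf_coe y).trans hy)
  rw [k2, pow_succ] at this
  exact hm (Nat.dvd_of_mul_dvd_mul_left (pow_pos hr.out.pos c) this)

universe u

variable {G : Type u} [Group G] [Finite G]

theorem psl_inner (h2 : r ≠ 2) (e : G ≃* PSL(2, F)) {α : MulAut G} (hα : orderOf α = r ^ k) (hd : r ∣ Nat.card G)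
    (R : Sylow r G) (hR : ∀ x ∈ R.1, α x = x) : α ∈ Inn G := by
  let β := MulAut.congr e α
  obtain ⟨a, σ, h⟩ := exists_semi_psl β
  obtain rfl := fld_trivial h2 (β := β) (k := k) (by rw [← map_pow, ← hα, pow_orderOf_eq_one, map_one])
    (Nat.card_congr e.toEquiv ▸ hd) (R.mapSurjective (f := e.toMonoidHom) e.surjective)
    (by rintro _ ⟨x, hx, rfl⟩; simp [β, hR x hx]) h
  obtain ⟨b, hb⟩ := mul_self_mem_pL a
  refine mem_of_sq (hα ▸ (hr.out.odd_of_ne_two h2).pow) ⟨e.symm b, MulEquiv.ext fun x => e.injective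
    (psl2pgl_injective ?_)⟩
  have k1 := h (β (e x))
  rw [fld_one, h (e x), fld_one] at k1
  change psl2pgl b = _ at hb
  simp only [β, MulAut.congr_apply, MulEquiv.trans_apply, MulEquiv.symm_apply_apply] at k1
  simp only [MulAut.conj_apply, map_mul, map_inv, MulEquiv.apply_symm_apply, MulAut.mul_apply, k1, hb]
  group

theorem inner_of_comm [hs : IsSimpleGroup G] (hn : ¬ IsMulCommutative G)
    (hA : ∀ p : ℕ, p.Prime → ∀ P : Sylow p G, IsMulCommutative P) (h2 : r ≠ 2) {α : MulAut G}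
    (hα : orderOf α = r ^ k) (hd : r ∣ Nat.card G) (R : Sylow r G) (hR : ∀ x ∈ R.1, α x = x) : α ∈ Inn G := by
  have hZ : center G = ⊥ := (hs.eq_bot_or_eq_top_of_normal _ inferInstance).resolve_right fun e =>
    hn ⟨⟨fun a b => mem_center_iff.1 (e.ge (mem_top b)) a⟩⟩
  have : (Inn G).Normal := ⟨by rintro _ ⟨g, rfl⟩ β; exact ⟨β g, by ext; simp⟩⟩
  let X := Inn G ⊔ zpowers α
  let M := (Inn G).subgroupOf X
  let e : G ≃* M := (MonoidHom.ofInjective (conj_inj hZ)).trans (subgroupOfEquivOfLe le_sup_left).symm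
  have hM := e.symm.isSimpleGroup
  have hB : ∀ p : ℕ, p.Prime → ∀ P : Sylow p M, IsMulCommutative P := fun p hp P => by
    have := Fact.mk hp
    have := hA p hp (P.mapSurjective (f := e.symm.toMonoidHom) e.symm.surjective)
    exact ⟨⟨fun a b => Subtype.ext (e.symm.injective ((map_mul _ _ _).trans ((congrArg Subtype.val
      (this.1.1 ⟨_, mem_map_of_mem _ a.2⟩ ⟨_, mem_map_of_mem _ b.2⟩)).trans (map_mul e.symm _ _).symm)))⟩⟩
  obtain ⟨S⟩ : Nonempty (Sylow 2 M) := inferInstance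
  rcases walter hM (fun k => hn ⟨⟨fun a b => e.injective (by rw [map_mul, map_mul, k.1.1])⟩⟩) (H10.isSylowIn_top S)
    (comm_iff.1 (hB 2 Nat.prime_two S)) with ⟨-, F, _, _, _, -, -, ⟨f⟩⟩ | ⟨F, _, _, -, -, ⟨f⟩⟩ | ⟨_, _, _, _, _, j⟩
  · exact psl_inner h2 (e.trans f) hα hd R hR
  · exact psl_inner h2 (e.trans f) hα hd R hR
  rcases j.three_or with rfl | rfl
  · obtain ⟨t, ht, h1⟩ := j.exists_inv
    obtain ⟨s, P, Y, c⟩ := j.exists_c3 rfl ht h1
    obtain ⟨Q, B, q⟩ := j.exists_uq c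
    obtain ⟨T, hT⟩ := (pg_iff.1 (q.pg j c)).exists_le_sylow
    exact (q.not_comm j c (hT.trans ((comm_iff.1 (hB 3 Nat.prime_three T)).trans (cent_anti hT)))).elim
  obtain ⟨rfl, rfl, rfl, rfl⟩ := j.params
  have k1 : C[M] = ⊥ := eq_bot_iff.2 fun x hx => mem_bot.2 (Subtype.ext (MulEquiv.ext fun g => conj_inj hZ (by
    have : MulAut.conj g * x.1 = x.1 * MulAut.conj g := congrArg Subtype.val (hx _ (e g).2)
    ext y
    simpa using congrArg (fun γ : MulAut G => γ (x.1⁻¹ y)) this.symm)))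
  have k2 : M.index ∣ r ^ k := by
    rw [← hα, ← Nat.card_zpowers]
    exact (relIndex_sup_left _ _).dvd.trans (relIndex_dvd_card _ _)
  exact subgroupOf_eq_top.1 (top_of_j1 k1 j ((hr.out.odd_of_ne_two h2).pow.of_dvd_nat k2))
    (mem_sup_right (mem_zpowers α))

end H15.CJ
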