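import Cfsg.Agent.H26.JRx
import Cfsg.Agent.H26.JR5
import Cfsg.Agent.H10.GD2
import Cfsg.Agent.H7.CycInt
import Cfsg.Agent.H7.Semireg
import Cfsg.Agent.H2.Sm3
import Cfsg.Agent.S0252
import Cfsg.Agent.S0253

/-! Groups with small Sylow `2`-intersections. -/

set_option autoImplicit false
set_option linter.unusedSectionVars false

namespace H5.Gd

open Subgroup Cfsg
open scoped commutatorElement MatrixGroups
open H10 (IsSylowIn)

universe u

variable {G : Type u} [Group G] [Finite G] {S E X L Q V K W : Subgroup G} {g t : G}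

/-- a four-group containing an involution of `Z(S)` lies in a unique Sylow `2`-subgroup -/
def RK (G : Type u) [Group G] : Prop :=
  ∀ S T : Subgroup G, IsSylowIn 2 S ⊤ → IsSylowIn 2 T ⊤ → ∀ a ∈ S ⊓ T, ∀ b ∈ S ⊓ T, a ∈ 𝒞(S) →
    orderOf a = 2 → orderOf b = 2 → a ≠ b → S = T

/-- `L₂(2 ^ n)`, `Sz(2 ^ n)`, `U₃(2 ^ n)`, `L₂(q)` with `q ≡ ± 3 (mod 8)`, or `J₁` -/
def Five (G : Type*) [Group G] : Prop :=
  (∃ (n : ℕ) (F : Type) (_ : Field F) (_ : Fintype F), 2 ≤ n ∧ Fintype.card F = 2 ^ n ∧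
    Nonempty (G ≃* PSL(2, F))) ∨
  (∃ (m : ℕ) (F : Type) (_ : Field F) (_ : Fintype F), 1 ≤ m ∧ Fintype.card F = 2 ^ (2 * m + 1) ∧
    Nonempty (G ≃* Lie.Sz F (2 ^ (m + 1)))) ∨
  (∃ (n : ℕ) (F : Type) (_ : Field F) (_ : Fintype F), 2 ≤ n ∧ Fintype.card F = 4 ^ n ∧
    Nonempty (G ≃* PSU 3 F (2 ^ n))) ∨
  (∃ (F : Type) (_ : Field F) (_ : Fintype F), (Fintype.card F % 8 = 3 ∨ Fintype.card F % 8 = 5) ∧
    5 < Fintype.card F ∧ Nonempty (G ≃* PSL(2, F))) ∨ IsJ1 G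

theorem Five.of_equiv {A B : Type*} [Group A] [Group B] (h : Five A) (f : B ≃* A) : Five B := by
  rcases h with ⟨n, F, i, j, h1, h2, ⟨e⟩⟩ | ⟨n, F, i, j, h1, h2, ⟨e⟩⟩ | ⟨n, F, i, j, h1, h2, ⟨e⟩⟩ |
    ⟨F, i, j, h1, h2, ⟨e⟩⟩ | ⟨h1, h2⟩
  · exact Or.inl ⟨n, F, i, j, h1, h2, ⟨f.trans e⟩⟩
  · exact Or.inr (Or.inl ⟨n, F, i, j, h1, h2, ⟨f.trans e⟩⟩)
  · exact Or.inr (Or.inr (Or.inl ⟨n, F, i, j, h1, h2, ⟨f.trans e⟩⟩))
  · exact Or.inr (Or.inr (Or.inr (Or.inl ⟨F, i, j, h1, h2, ⟨f.trans e⟩⟩)))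
  · exact Or.inr (Or.inr (Or.inr (Or.inr ⟨f.isSimpleGroup, (Nat.card_congr f.toEquiv).trans h2⟩)))

theorem rk_of (h : ∀ S T : Sylow 2 G, S ≠ T → ∀ z ∈ (S : Subgroup G) ⊓ T, orderOf z = 2 → z ∈ 𝒞((S : Subgroup G)) →
    PRankLE 2 1 ((S : Subgroup G) ⊓ T : Subgroup G)) : RK G := fun S T hS hT a ha b hb hc oa ob e => by
  obtain ⟨S, rfl⟩ := hS.exists_sylow_top
  obtain ⟨T, rfl⟩ := hT.exists_sylow_top
  by_contra k
  have h4 : H4.Four (⟨a, ha⟩ : ((S : Subgroup G) ⊓ T : Subgroup G)) ⟨b, hb⟩ :=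
    ⟨by rwa [← orderOf_coe], by rwa [← orderOf_coe], fun k => e (congrArg Subtype.val k),
      Subtype.ext (hc b hb.1).symm⟩
  have k4 := h4.klein
  have := h S T (fun e => k (e ▸ rfl)) a ha oa hc _ k4.isMulCommutative fun x hx =>
    (sq x).trans (congrArg Subtype.val (k4.mul_self ⟨x, hx⟩))
  rw [IsKleinFour.card_four] at this
  omega

theorem RK.types (hs : IsSimpleGroup G) (hn : ¬ IsMulCommutative G) (h : RK G) : TB G ∨ TD G ∨ TR G := by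
  obtain ⟨S, hS⟩ := H10.exists_isSylowIn 2 (⊤ : Subgroup G)
  refine types_of_center hs hn hS fun a ha oa g hg => ?_
  set x := g * a * g⁻¹
  by_cases e : a = x
  · exact e ▸ ha.2
  obtain ⟨U, hU, k⟩ := H10.exists_isSylowIn_ge hS.isPGroup.to_inf_left (inf_le_right : S ⊓ _ ≤ 𝒞₁(x))
  have hg' : cj g S ≤ 𝒞₁(x) := by
    rw [show 𝒞₁(x) = cj g 𝒞₁(a) from (cj_centralizer_singleton g a).symm]
    exact cj_mono fun s hs => mem_centralizer_singleton_iff.2 (ha.2 s hs)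
  obtain rfl := h S U hS (H10.isSylowIn_of_card_ge (hS.cj_top g) hU.isPGroup le_top
    (hU.card_eq ((hS.cj_top g).of_le hg' le_top)).ge) a
    ⟨ha.1, k ⟨ha.1, mem_centralizer_singleton_iff.2 (ha.2 x hg).symm⟩⟩ x ⟨hg, k ⟨hg, mem_C1.2 rfl⟩⟩ ha.2 oa
    (H6.ord2_conj oa g) e
  exact fun s hs => mem_centralizer_singleton_iff.1 (hU.le hs)

theorem RK.rho {p n ρ τ f : ℕ} (h : RK G) (hS : IsSylowIn 2 S ⊤) (j : H26.J.JR S p n ρ τ f) : ρ = 1 := by
  obtain ⟨u, hu, u1⟩ := j.exists_inv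
  obtain ⟨d, c⟩ := j.exists_cf' hu u1
  have h1 := j.cf_le c
  have h4 := j.cf_card c
  obtain ⟨w, hw, w1, v, hv, hL, v1⟩ := j.exists_pair h1 h4
  rw [← j.card_rw h1 h4, card_eq_one, eq_bot_iff_forall]
  intro x hx
  have k : _ ≤ cj x S := (cj_eq_of_mem_normalizer (centralizer_le_normalizer _ (j.rw_le_cent h1 h4 hx))).ge.trans
    (cj_mono h1)
  have e := h S _ hS (hS.cj_top x) w ⟨h1 hw, k hw⟩ v ⟨h1 hv, k hv⟩ (j.comm (h1 hw)) (j.ord (h1 hw) w1)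
    (j.ord (h1 hv) v1) fun e => j.not_mem_Lt (j.ord (h1 hw) w1) (e ▸ hL)
  have h2 := mul_mem (e.ge (H10.conj_mem_cj hu)) (inv_mem hu)
  rw [show x * u * x⁻¹ * u⁻¹ = x * (u * x * u⁻¹)⁻¹ by group, j.rw_inv h1 h4 hu (j.cf_not_mem c) hx, inv_inv] at h2
  have h3 := (j.rw_odd h1 h4).of_dvd_nat (orderOf_dvd_natCard _ hx)
  exact orderOf_eq_one_iff.1 (Nat.Coprime.eq_one_of_dvd (Nat.Coprime.pow_right 2 (Nat.coprime_two_right.2 h3))
    (orderOf_dvd_of_pow_eq_one (by rw [← j.rf.sq _ h2]; simp [pow_succ, mul_assoc])))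

theorem RK.five (hs : IsSimpleGroup G) (hn : ¬ IsMulCommutative G) (h : RK G) : Five G := by
  rcases h.types hs hn with k | k | k
  · rcases k.1.tri hs hn with ⟨F, i, j, n, h1, h2, e⟩ | ⟨F, _, _, m, h1, h2, e⟩ | ⟨F, _, _, n, h1, h2, e⟩
    · exact Or.inl ⟨n, F, i, j, h1, h2, e⟩
    · exact Or.inr (Or.inl ⟨m, F, _, _, h1, h2, e⟩)
    · exact Or.inr (Or.inr (Or.inl ⟨n, F, _, _, h1, by rw [h2, ← pow_mul, mul_comm, pow_mul]; rfl, e⟩))
  · obtain ⟨F, i, j, h1, h2, ⟨e⟩⟩ := H16.GD.l2d_of_td k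
    by_cases h5 : Fintype.card F = 5
    · let _ := Fintype.ofFinite (GaloisField 2 2)
      have h4 : Fintype.card (GaloisField 2 2) = 2 ^ 2 := by
        rw [← Nat.card_eq_fintype_card, GaloisField.card 2 2 two_ne_zero]
      exact Or.inl ⟨2, _, _, _, le_rfl, h4,
        ⟨e.trans ((Agent.S0253.result h5).some.trans (Agent.S0252.result h4).some.symm)⟩⟩
    · exact Or.inr (Or.inr (Or.inr (Or.inl ⟨F, i, j, h1, by omega, ⟨e⟩⟩)))
  · obtain ⟨S, hS⟩ := H10.exists_isSylowIn 2 (⊤ : Subgroup G)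
    obtain ⟨p, n, ρ, τ, f, j⟩ := H26.J.jr_of_tr hs k hS
    obtain rfl := h.rho hS j
    exact Or.inr (Or.inr (Or.inr (Or.inr ⟨hs, j.five.1⟩)))

theorem _root_.H17.BF.irrQ (h : H17.BF L Q V K W t) (h1 : V ≤ X) (h2 : X ≤ Q) (h3 : K ⊔ W ≤ 𝒩(X)) :
    X = V ∨ X = Q := by
  rcases h.kind with ⟨e, -⟩ | ⟨-, -, -, -, k⟩ | ⟨k1, k2, -⟩
  · exact Or.inl (le_antisymm (e ▸ h2) h1)
  · refine h1.eq_or_lt.imp Eq.symm fun k1 => le_antisymm h2 fun y hy => ?_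
    obtain ⟨x, hx, x0⟩ := SetLike.exists_of_lt k1
    by_cases y0 : y ∈ V
    · exact h1 y0
    obtain ⟨l, hl, u, hu, rfl⟩ := k x (h2 hx) x0 y hy y0
    exact mul_mem (H16.conj_mem' (h3 (mem_sup_left hl)) hx) (h1 hu)
  have h4 := H7.card_dvd_sub_of_semireg h3 h.DNV h1 fun d hd d1 =>
    (inf_le_inf_right _ h2).trans (h.inf_cent_D hd d1)
  have h5 : Nat.card (K ⊔ W : Subgroup G) = Nat.card K * Nat.card W := H16.card_sup_of_inf_bot
    (Or.inl (le_sup_left.trans (h.commD.trans ((centralizer_anti le_sup_right).trans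
      (centralizer_le_normalizer _))))) h.K_inf_W
  obtain ⟨n, hn⟩ := IsPGroup.iff_card.1 (h.pg.to_le h.VQ)
  obtain ⟨m, hm⟩ := IsPGroup.iff_card.1 (h.pg.to_le h2)
  obtain ⟨k, rfl⟩ := Nat.exists_eq_add_of_le ((Nat.pow_le_pow_iff_right one_lt_two).1 (hn ▸ hm ▸ card_le_of_le h1))
  have h6 : n + k ≤ n * 3 := (Nat.pow_le_pow_iff_right one_lt_two).1 (by
    rw [← hm, pow_mul, ← hn, ← k2]; exact card_le_of_le h2)
  rw [hm, hn, pow_add, ← Nat.mul_sub_one] at h4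
  replace h4 := (Nat.Coprime.pow_right n (Nat.coprime_two_right.2 h.odd)).dvd_of_dvd_mul_left h4
  have h7 : Nat.card K = 2 ^ n - 1 := by rw [← hn, h.cardK]; rfl
  have h8 : 2 ≤ n := (Nat.pow_le_pow_iff_right one_lt_two).1 (hn ▸ h.four)
  rw [h5, h7] at h4
  have h9 : n ∣ k := by
    have := Nat.gcd_eq_left ((dvd_mul_right _ _).trans h4)
    rw [Nat.pow_sub_one_gcd_pow_sub_one] at this
    have h10 := Nat.one_le_two_pow (n := n)
    have h11 := Nat.one_le_two_pow (n := n.gcd k)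
    exact Nat.gcd_eq_left_iff_dvd.1 (Nat.pow_right_injective le_rfl (by omega : 2 ^ n.gcd k = 2 ^ n))
  obtain ⟨c, rfl⟩ := h9
  have hc : c ≤ 2 := by nlinarith
  interval_cases c
  · exact Or.inl (eq_of_le_of_card_ge h1 (by simp [hm, hn])).symm
  · have := Nat.le_of_dvd (Nat.sub_pos_of_lt (Nat.one_lt_two_pow (by omega))) h4
    have := (one_lt_card_iff_ne_bot _).2 k1
    have := Nat.sub_pos_of_lt (Nat.one_lt_two_pow (n := n) (by omega))
    rw [mul_one] at *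
    nlinarith
  · exact Or.inr (eq_of_le_of_card_ge h2 (by rw [hm, k2, hn, ← pow_mul]; exact le_of_eq (by ring)))

section
variable (h : H7.CI G)
include h

theorem ci_sub (H : Subgroup G) : H7.CI H := fun P R e => by
  obtain ⟨S, hS⟩ := P.exists_comap_subtype_eq
  obtain ⟨T, hT⟩ := R.exists_comap_subtype_eq
  have := h S T (by rintro rfl; exact e (Sylow.ext (hS.symm.trans hT)))
  have : IsCyclic (((P : Subgroup H) ⊓ R).map H.subtype) :=
    isCyclic_of_le (H' := (S : Subgroup G) ⊓ T) (by rw [map_le_iff_le_comap, comap_inf, hS, hT])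
  exact (equivMapOfInjective _ _ H.subtype_injective).isCyclic.2 this

theorem ci_rk : RK G := rk_of fun S T e _ _ _ _ => H16.prk1_of_cyclic Nat.prime_two (h S T e)

theorem ci_norm (hS : IsSylowIn 2 S ⊤) (hX : X ≤ S) (hc : ¬ IsCyclic X) : 𝒩(X) ≤ 𝒩(S) := fun g hg => by
  obtain ⟨T, hT⟩ := (hS.cj_top g).exists_sylow_top
  obtain ⟨S, rfl⟩ := hS.exists_sylow_top
  by_contra k
  have := h S T fun e => k (H10.mem_NN.2 (by rw [← hT, e]))
  exact hc (isCyclic_of_le (le_inf hX (((cj_eq_of_mem_normalizer hg).ge.trans (cj_mono hX)).trans hT.ge)))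

omit h in
theorem syl_not_cyc (hs : IsSimpleGroup E) (hn : ¬ IsMulCommutative E) (hQ : IsSylowIn 2 Q E) : ¬ IsCyclic Q :=
  fun k => H2.sm_sylow_two_not_cyclic hn hQ.toSylow ((subgroupOfEquivOfLe hQ.le).isCyclic.2 k)

theorem ci_as [Nontrivial G] (s : H10.SS G) : ∃ E : Subgroup G, AS E := by
  obtain ⟨S, hS⟩ := H10.exists_isSylowIn 2 (⊤ : Subgroup G)
  have k : ∀ L, CompOf L ⊤ → IsSylowIn 2 (S ⊓ L) L ∧ ¬ IsCyclic (S ⊓ L : Subgroup G) := fun L hL =>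
    have := hS.inf_subn (H10.subnIn_top.2 (hL.sn.isSubnormal .top))
    ⟨this, syl_not_cyc (s.simple hL).1 (s.simple hL).2 this⟩
  have u : ∀ L M : Subgroup G, CompOf L ⊤ → CompOf M ⊤ → M = L := fun L M hL hM => by
    by_contra e
    rcases qs_normal hM.qs inf_le_right (le_normalizer_inf (((H10.comp_comm hM hL e).trans
      ((centralizer_anti inf_le_right).trans (centralizer_le_normalizer _))).trans
      (ci_norm h hS inf_le_left (k L hL).2)) le_normalizer) with e | e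
    · exact qs_not_solvable hM.qs (e ▸ H15.Cfsg.IsPiSubgroup.solvable (H15.IsPGroup.isPi (k M hM).1.isPGroup))
    · exact (k M hM).2 (by rw [le_bot_iff.1 ((le_inf inf_le_right e).trans (s.inf_CC hM).le)]; infer_instance)
  obtain ⟨x, hx⟩ := exists_ne (1 : G)
  obtain ⟨E, hE, -⟩ : ∃ L, CompOf L ⊤ ∧ x ∉ 𝒞(L) := by
    by_contra! k
    exact hx (s.eq_one k)
  exact ⟨E, normalizer_eq_top_iff.1 (top_le_iff.1 fun g _ => cj_eq_self_iff.1
    (u _ _ hE (hE.cj_of_mem (H10.NN_top.ge trivial)))),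
    (eq_bot_iff_forall _).2 fun x hx => s.eq_one fun L hL => u _ _ hE hL ▸ hx, (s.simple hE).1, (s.simple hE).2⟩

theorem ci_le (hE : AS E) (hS : IsSylowIn 2 S ⊤) : S ≤ E := by
  have := hE.normal
  have hs := hE.simple
  have hQ : IsSylowIn 2 (S ⊓ E) E := hS.inf_normal le_top (normalizer_eq_top_iff.2 hE.normal).ge
  have hc := syl_not_cyc hs hE.nab hQ
  have hN := ci_norm h hS inf_le_left hc
  have hSN : S ≤ 𝒩((S ⊓ E : Subgroup G)) := le_normalizer_inf le_normalizer (H10.le_NN_of_normal _ _)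
  obtain ⟨z, hz, zc, oz⟩ := exists_central_of_isPGroup hS.isPGroup hQ.isPGroup hSN
    fun e => hc (by rw [e]; infer_instance)
  have z1 := H10.ne_one_of_orderOf_eq oz
  have cen : ∀ g ∈ 𝒩((S ⊓ E : Subgroup G)), g * z * g⁻¹ ∈ 𝒞(S) := fun g hg =>
    H10.conj_mem_of_mem_NN (normalizer_le_normalizer_centralizer S (hN hg)) zc
  have ab : ∀ ρ ∈ 𝒩((S ⊓ E : Subgroup G)), Tr (S ⊓ E) ρ → S ≤ E := fun ρ hρ tr s hs => by
    have k : S ≤ 𝒞((S ⊓ E : Subgroup G)) := le_centralizer_iff.1 fun a ha => by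
      by_cases a1 : a = 1
      · exact a1 ▸ one_mem _
      obtain ⟨n, rfl⟩ := tr z hz z1 a ha a1
      exact cen _ (pow_mem hρ n)
    exact (hE.inner hQ (inf_le_left.trans k) (hS.isPGroup.to_le (zpowers_le.2 hs)) (k hs)).2
  obtain ⟨⟨M, hM⟩, -⟩ | k | k := (ci_rk (ci_sub h E)).types hs hE.nab
  rotate_left
  · obtain ⟨ρ, h1, -, h2, -⟩ := hE.d_rho k hQ
    exact ab ρ h1.2 h2
  · obtain ⟨ρ, h1, -, h2⟩ := hE.r_rho k hQ
    exact ab ρ h1.2 h2
  obtain ⟨V, K, W, t, b⟩ := H17.exists_bf hM hE.nab (H16.sy_of_max hQ.1 (H16.pg_iff.2 hQ.2.1)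
    fun P h1 h2 h3 => hQ.2.2 P (H16.pg_iff.1 h2) h3 h1)
  have hV : S ≤ 𝒞(V) := le_centralizer_iff.1 fun a ha => by
    by_cases a1 : a = 1
    · exact a1 ▸ one_mem _
    obtain ⟨k, hk, rfl⟩ := b.trans z ((b.memV z).2 ⟨hz, H6.ord2_mul_self oz⟩) z1 a ha a1
    simpa using cen _ (inv_mem (b.DN (mem_sup_left hk)))
  have hT : S ⊓ 𝒞((K ⊔ W : Subgroup G)) = ⊥ := by
    by_contra e
    obtain ⟨y, hy, oy⟩ := H10.exists_orderOf_eq_of_ne_bot hS.isPGroup.to_inf_left e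
    have y2 := H6.ord2_mul_self oy
    have yi := inv_eq_of_mul_eq_one_right y2
    have yQ : ∀ x ∈ S ⊓ E, y⁻¹ * x * y ∈ S ⊓ E := fun x hx => H16.conj_mem' (hSN hy.1) hx
    let X : Subgroup G :=
      { carrier := {x | x ∈ S ⊓ E ∧ x⁻¹ * (y⁻¹ * x * y) ∈ V}
        one_mem' := ⟨one_mem _, by simp⟩
        mul_mem' := fun {a c} ha hc => ⟨mul_mem ha.1 hc.1, by
          rw [show (a * c)⁻¹ * (y⁻¹ * (a * c) * y) = c⁻¹ * (a⁻¹ * (y⁻¹ * a * y)) * (y⁻¹ * c * y) by group, ← b.cen _ ha.2 _ (inv_mem hc.1),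
            mul_assoc]
          exact mul_mem ha.2 hc.2⟩
        inv_mem' := fun {a} ha => ⟨inv_mem ha.1, by
          rw [show a⁻¹⁻¹ * (y⁻¹ * a⁻¹ * y) = a * (a⁻¹ * (y⁻¹ * a * y))⁻¹ * a⁻¹ by group, ← b.cen _ (inv_mem ha.2) _ ha.1,
            mul_inv_cancel_right]
          exact inv_mem ha.2⟩ }
    have hX : ∀ x ∈ S ⊓ E, x⁻¹ * (y⁻¹ * x * y) ∈ V := fun x hx => by
      by_contra x0
      have hu := mul_mem (inv_mem hx) (yQ x hx)
      rcases b.irrQ (X := X) (fun v hv => ⟨b.VQ hv, by rw [mul_assoc y⁻¹, hV hy.1 v hv]; simp⟩) (fun _ k => k.1)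
        (fun d hd => H10.mem_NN_of_conj_mem fun a ha => ⟨H10.conj_mem_of_mem_NN (b.DN hd) ha.1, by
          convert H10.conj_mem_of_mem_NN (b.DNV hd) ha.2 using 1
          calc _ = (d * a * d⁻¹)⁻¹ * (y⁻¹ * d * a * (y⁻¹ * d)⁻¹) := by group
            _ = _ := by rw [← (show Commute d y from hy.2 d hd).inv_right.eq]; group⟩) with e | e
      · refine x0 (e.le ⟨hu, ?_⟩)
        have := b.sq _ (inv_mem hu)
        rw [yi] at this ⊢
        convert this using 1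
        calc _ = (x⁻¹ * (y * x * y))⁻¹ * (y * x⁻¹ * y * x * (y * y)) := by group
          _ = _ := by rw [y2]; simp [yi, mul_assoc]
      · exact x0 (e.ge hx).2
    obtain ⟨v, hv, k⟩ := b.aut (H10.le_NN_of_normal ⊤ E trivial) (b.cent_of_stab hy.2 (hV hy.1) hX)
    rw [hE.cent, mem_bot, mul_eq_one_iff_eq_inv] at k
    obtain ⟨l, hl, l1⟩ := H16.exists_ne_one b.K_ne
    exact l1 (b.K_eq_one hl (b.VQ (k ▸ inv_mem hv)) (H10.ne_one_of_orderOf_eq oy) (hy.2 l (mem_sup_left hl)).symm)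
  intro s hs
  obtain ⟨c, h1, x, hx, rfl⟩ := H1.exists_centralizer_mul_commutator (b.DN.trans hN)
    (H10.coprime_card_of_isPGroup hS.isPGroup (Nat.coprime_two_right.2 b.odd)).symm (Or.inl (H16.GD.sol_odd b.odd)) hs
  rw [hT, mem_bot] at h1
  rw [h1, one_mul]
  exact (commutator_mono le_top b.DL).trans (commutator_le_right _ _) hx

theorem ci_main [Nontrivial G] (s : H10.SS G) :
    ∃ E : Subgroup G, E.Normal ∧ Odd E.index ∧ IsSimpleGroup E ∧ ¬ IsMulCommutative E ∧ Five E := by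
  obtain ⟨E, hE⟩ := ci_as h s
  obtain ⟨S⟩ : Nonempty (Sylow 2 G) := inferInstance
  exact ⟨E, hE.normal, Nat.odd_iff.2 (Nat.two_dvd_ne_zero.1 fun k => S.not_dvd_index
    (k.trans (index_dvd_of_le (ci_le h hE (H10.isSylowIn_top S))))), hE.simple, hE.nab,
    (ci_rk (ci_sub h E)).five hE.simple hE.nab⟩

end

end H5.Gd
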