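import Cfsg.Agent.H5.Ch1
import Cfsg.Agent.H10.Sims2
import Cfsg.Agent.H10.JC3
import Cfsg.Agent.H10.RO4
import Cfsg.Agent.S4039

/-! Groups with short chains of subgroups, II: the case `z ∈ O₂(L)`. -/

set_option autoImplicit false
set_option linter.unusedSectionVars false

namespace H5Ch

open Cfsg H10

universe u

section Sims

variable {G : Type*} [Group G] [Finite G]

/-- Sims' lemma (after the proof of S4385) -/
theorem sims {H P Q : Subgroup G} (hP : IsPGroup 2 P) (hPH : P ≤ H) (hQP : Q ≤ P)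
    (hQn : H ≤ NN(Q)) (hi : Q.relIndex P = 2) (hQ1 : Q ≠ ⊥) (hHP : ¬ H ≤ P) {h₀ : G}
    (hh₀ : h₀ ∈ H) (hgen : P ⊔ cj h₀ P = H) {y : G} (hy2 : y ^ 2 ∈ P) (hyN : cj y P = P)
    (hinv : ∀ N ≤ P, H ≤ NN(N) → cj y N = N → N = ⊥) :
    Nat.card P = 4 ∨ (IsElementaryAbelian 2 Q ∧ (Nat.card P = 8 ∨ (Nat.card P = 16 ∧
      ∃ D, D ≤ Q ∧ H ≤ CC(D) ∧ Nat.card D = 2))) := by
  have hk : cj (h₀ * y) P = cj h₀ P := by rw [cj_mul, hyN]
  have hQe : P ⊓ cj h₀ P = Q := by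
    refine le_antisymm ?_ (le_inf hQP (cj_eq_of_mem_NN (hQn hh₀) ▸ cj_mono h₀ hQP))
    by_contra hc
    have h1 := eq_of_relIndex_prime Nat.prime_two hi
      (le_inf hQP (cj_eq_of_mem_NN (hQn hh₀) ▸ cj_mono h₀ hQP)) inf_le_left hc
    have h2 : P = cj h₀ P := Subgroup.eq_of_le_of_card_ge (h1.ge.trans inf_le_right) (card_cj _ _).le
    exact hHP (by rw [← hgen, ← h2, sup_idem])
  have hSM : SM 2 P (h₀ * y) := by
    refine ⟨hP, ?_, fun N h1 h2 h3 => ?_⟩
    · rw [hk, hQe, ← cj_eq_of_mem_NN (hQn hh₀), relIndex_cj, hi]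
    · have h4 : H ≤ NN(N) := by
        rw [← hgen, ← hk]
        exact sup_le h2 (by rw [← h3, ← cj_normalizer]; exact cj_mono _ h2)
      refine hinv N h1 h4 ?_
      rw [cj_mul, cj_eq_iff, cj_eq_of_mem_NN (inv_mem (h4 hh₀))] at h3
      exact h3
  have hy : ∀ N ≤ P, P ≤ NN(N) → cj y (cj y N) = N := fun N h1 h2 => by
    rw [← cj_mul, ← pow_two]
    exact cj_eq_of_mem_NN (h2 hy2)
  obtain ⟨t, ht⟩ := IsPGroup.iff_card.1 hP
  obtain ⟨u, hnu, hu, hc⟩ := hSM.cases ht (n := 2) (K := H ⊔ cj (h₀ * y) H) (fun L hL => by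
    have h0 := hL 0 (by omega)
    have h1 := hL 1 (by omega)
    have h2 := hL 2 le_rfl
    rw [pow_zero, cj_one] at h0
    rw [pow_one] at h1
    rw [pow_two, cj_mul] at h2
    rw [← hgen, ← hk, cj_sup]
    exact sup_le (sup_le h0 h1) (sup_le h1 h2)) (by
    have h1 : P ⊓ CC(H) ≤ P := inf_le_left
    have h2 : H ≤ NN(P ⊓ CC(H)) := (le_CC_symm inf_le_right).trans (CC_le_NN _)
    have h3 := hinv (P ⊓ CC(H) ⊓ cj y (P ⊓ CC(H))) (inf_le_left.trans h1)
      ((le_CC_symm (inf_le_left.trans inf_le_right)).trans (CC_le_NN _))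
      (by rw [cj_inf, hy _ h1 (hPH.trans h2), inf_comm])
    rw [eq_bot_iff, ← h3, CC_sup]
    intro x hx
    refine ⟨⟨hx.1, hx.2.1⟩, ?_⟩
    rw [cj_inf, hyN, cj_centralizer]
    refine ⟨hx.1, ?_⟩
    have h4 : x ∈ CC(cj (h₀ * y) H) := hx.2.2
    rw [cj_mul, ← cj_centralizer, mem_cj, mul_assoc, ← mem_CC.1 hx.2.1 h₀ hh₀,
      inv_mul_cancel_left] at h4
    exact h4)
  have t1 := hSM.one_le ht
  have eP : SX P (h₀ * y) t (1 - t) 0 = P := by rw [SX_eq (by omega), zpow_zero, cj_one]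
  have eP' : SX P (h₀ * y) t (2 - t) 1 = cj h₀ P := by rw [SX_eq (by omega), zpow_one, hk]
  have eQ : SX P (h₀ * y) t (2 - t) 0 = Q := by
    rw [← hQe, ← eP']
    conv_rhs => enter [1]; rw [← eP]
    exact le_antisymm (le_inf (SX_mono (by omega) le_rfl) (SX_mono le_rfl (by omega)))
      (by rw [inf_comm]; exact SX_inf (by omega))
  have t2 : 2 ≤ t := not_lt.1 fun e => hQ1 (eQ ▸ hSM.X_bot ht (by omega))
  have hgen' : ∀ L, SX P (h₀ * y) t (1 - t) 0 ≤ L → SX P (h₀ * y) t (2 - t) 1 ≤ L → H ≤ L :=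
    fun L h1 h2 => hgen ▸ sup_le (eP ▸ h1) (eP' ▸ h2)
  have hXH : ∀ i j : ℤ, 2 - t ≤ i → j ≤ 1 → SX P (h₀ * y) t i j ≤ H := fun i j h1 h2 =>
    (SX_mono h1 h2).trans (eP'.le.trans (le_sup_right.trans hgen.le))
  have t6 : t ≠ 6 := fun e => by
    obtain rfl : u = 4 := by omega
    have hA : H ≤ NN(SX P (h₀ * y) t (-4) (-1)) := hgen' _ (le_NN_of_comm_le_of_le
      ((hSM.comm_X ht (by omega) (by omega)).trans (SX_mono (by omega) (by omega)))
      (SX_mono (by omega) (by omega))) ((SX_mono (by omega) le_rfl).trans (hSM.six ht e hnu hu))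
    have h1 : cj y Q = SX P (h₀ * y) t (-5) (-1) := by
      rw [← cj_SX (i := 2 - t) (j := 0) (-1) (by omega) (by omega), eQ, zpow_neg, zpow_one,
        ← cj_eq_iff, cj_mul, hy Q hQP (hPH.trans hQn), cj_eq_of_mem_NN (hQn hh₀)]
    have h2 : cj h₀ (SX P (h₀ * y) t (-5) (-1)) = SX P (h₀ * y) t (-3) 1 := by
      rw [← h1, ← cj_mul, ← cj_SX (i := 2 - t) (j := 0) 1 (by omega) (by omega), eQ, zpow_one]
    have h3 : SX P (h₀ * y) t (-4) (-1) ≤ SX P (h₀ * y) t (-3) 1 := by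
      rw [← cj_eq_of_mem_NN (hA hh₀), ← h2]; exact cj_mono _ (SX_mono (by omega) le_rfl)
    refine hSM.X_ne ht (-4) (le_bot_iff.1 (le_trans (le_inf ((SX_mono le_rfl (by omega)).trans h3)
      le_rfl) ((SX_inf (by omega)).trans (hSM.X_bot ht (by omega)).le)))
  by_cases e2 : t = 2
  · left; rw [ht, e2]; rfl
  have hu' : (u : ℤ) = t - 1 := by omega
  have t34 : t = 3 ∨ t = 4 := by omega
  refine Or.inr ⟨by rw [← eQ]; exact hSM.elab_X ht hu (by omega) (by omega), ?_⟩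
  rcases t34 with e | e
  · left; rw [ht, e]; rfl
  · refine Or.inr ⟨by rw [ht, e]; rfl, SX P (h₀ * y) t (3 - t) (-1),
      (SX_mono (by omega) (by omega)).trans eQ.le,
      hgen' _ (hSM.X_CC ht hu (by omega) (by omega) (by omega) (by omega))
        (hSM.X_CC ht hu (by omega) (by omega) (by omega) (by omega)), ?_⟩
    exact hSM.card_X ht 1 (by omega) (by omega)

theorem comm_of_card_le_four {X : Type*} [Group X] [Finite X] (hX : IsPGroup 2 X)
    (h : Nat.card X ≤ 4) : IsMulCommutative X := by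
  obtain ⟨k, hk⟩ := IsPGroup.iff_card.1 hX
  have hk2 : k ≤ 2 := by
    rw [hk] at h; exact (Nat.pow_le_pow_iff_right (a := 2) (by norm_num)).1 h
  by_cases e : k = 2
  · exact IsPGroup.isMulCommutative_of_card_eq_prime_sq (p := 2) (e ▸ hk)
  · have : IsCyclic X := isCyclic_of_card_dvd_prime (p := 2) (by
      rw [hk]; exact (pow_dvd_pow 2 (by omega : k ≤ 1)).trans (by norm_num))
    infer_instance

theorem class_le_two {X : Type*} [Group X] [Finite X] (hX : IsPGroup 2 X)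
    (h : Nat.card X ≤ 8) : Group.nilpotencyClass X ≤ 2 := by
  have := hX.isNilpotent
  rcases subsingleton_or_nontrivial X with e | e
  · have : IsMulCommutative X := ⟨⟨fun a b => Subsingleton.elim _ _⟩⟩
    exact (Group.IsNilpotent.nilpotencyClass_le_one_iff.2 this).trans (by norm_num)
  have h1 := hX.center_nontrivial
  have h2 : 1 < Nat.card (Subgroup.center X) := Finite.one_lt_card
  have h3 := Subgroup.card_eq_card_quotient_mul_card_subgroup (Subgroup.center X)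
  have h4 : Nat.card (X ⧸ Subgroup.center X) ≤ 4 := by nlinarith
  have h5 := Group.IsNilpotent.nilpotencyClass_le_one_iff.2
    (comm_of_card_le_four (hX.to_quotient _) h4)
  rw [Group.nilpotencyClass_quotient_center] at h5
  omega

theorem exists_sq_mem {R : Subgroup G} {s : G} {k : ℕ} (hk : s ^ 2 ^ k ∈ R) (hs : s ∉ R) :
    ∃ j, s ^ j ∉ R ∧ (s ^ j) ^ 2 ∈ R := by
  induction k with
  | zero => exact absurd (by simpa using hk) hs
  | succ k ih =>
    by_cases h : s ^ 2 ^ k ∈ R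
    · exact ih h
    · exact ⟨2 ^ k, h, by rwa [← pow_mul, ← pow_succ]⟩

theorem cj_KA {L F A : Subgroup G} {r : G} (hr : r ∈ L) (hF : L ≤ NN(F)) :
    cj r (KA L F A) = KA L F (cj r A) := by
  rw [KA, KA, cj_resOf, cj_sup, cj_commutator, cj_eq_of_mem_NN (hF hr),
    cj_eq_of_mem_NN (le_NN_pCoreOf L hr)]

end Sims

section I

variable {G : Type u} [Group G] [Finite G]

namespace Loc

variable {Y : Subgroup G} {z : G} {R L : Subgroup G} (h : Loc Y z R L)
include h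

theorem exists_s2 : ∃ s ∈ Y, s ∈ NN(R) ∧ s ∉ R ∧ s ^ 2 ∈ R := by
  obtain ⟨s, h1, h2, h3⟩ := h.exists_s
  obtain ⟨k, hk⟩ := isPGroup_iff_mem.1 h.hy.syl.isPGroup s h1
  obtain ⟨j, h4, h5⟩ := exists_sq_mem (R := R) (k := k) (hk ▸ one_mem R) h3
  exact ⟨s ^ j, pow_mem h1 j, pow_mem h2 j, h4, h5⟩

theorem inv {s : G} (h1 : s ∈ Y) (h3 : s ∉ R) {N : Subgroup G} (hN : N ≤ R) (hn : L ≤ NN(N))
    (e : s ∈ NN(N)) : N = ⊥ :=
  by_contra fun h0 => h3 (h.mem h0 (h.two.to_le hN) (h.nnpN hn) (h.le.trans hn) h1 e)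

variable (hz : z ∈ pCoreOf 2 L)
include hz

theorem maxR {M : Subgroup G} (h1 : R ≤ M) (h2 : M < L) : M = R :=
  h.syl.eq_of_le (h.hy.two (h.min M h1 h2) (isPGroup_pCoreOf L) (h.OR.trans h1)
    (h2.le.trans (le_NN_pCoreOf L)) hz) h1 h2.le

theorem eqL {M : Subgroup G} (h1 : R ≤ M) (h2 : M ≤ L) (h3 : ¬ M ≤ R) : M = L :=
  by_contra fun e => h3 (h.maxR hz h1 (lt_of_le_of_ne h2 e)).le

theorem zZO : z ∈ ZO 2 (pCoreOf 2 L) :=
  mem_ZO.2 ⟨hz, mem_CC.2 fun x hx => h.hy.zc x (h.lt.le (h.OR hx)), by rw [pow_two, h.hy.z2]⟩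

theorem CE {V : Subgroup G} (hV : z ∈ V) (hn : L ≤ NN(V)) : L ⊓ CC(V) ≤ pCoreOf 2 L :=
  le_pCoreOf (h.hy.syl.isPGroup.to_le fun x hx => h.hy.cz x (mem_CC.1 hx.2 z hV).symm)
    inf_le_left (le_NN_inf (le_NN_self _) (le_NN_CC hn))

theorem four_le' : 4 ≤ Nat.card (ZO 2 (pCoreOf 2 L)) := by
  have h1 : Subgroup.zpowers z < ZO 2 (pCoreOf 2 L) := by
    refine lt_of_le_of_ne (Subgroup.zpowers_le.2 (h.zZO hz)) fun e => h.not_two ?_
    have h2 := le_CC_of_card_two (U := Subgroup.zpowers z) (by rw [Nat.card_zpowers, h.hy.oz])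
      (e ▸ le_NN_ZO (le_NN_pCoreOf L))
    exact h.hy.syl.isPGroup.to_le fun x hx =>
      h.hy.cz x (mem_CC.1 (h2 hx) z (Subgroup.mem_zpowers z)).symm
  have := two_mul_card_le h1
  rw [Nat.card_zpowers, h.hy.oz] at this
  exact this

theorem idx_of_dvd (e : (pCoreOf 2 L).relIndex R ∣ 2) : (pCoreOf 2 L).relIndex R = 2 := by
  refine ((Nat.dvd_prime Nat.prime_two).1 e).resolve_left fun e1 => ?_
  exact h.O_lt.not_ge (Subgroup.relIndex_eq_one.1 e1)

theorem idx_small (h4 : Nat.card (pCoreOf 2 L) ≤ 4) : (pCoreOf 2 L).relIndex R = 2 := by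
  have h1 := h.four_le' hz
  have e : ZO 2 (pCoreOf 2 L) = pCoreOf 2 L :=
    Subgroup.eq_of_le_of_card_ge (ZO_le _) (by omega)
  have h2 : IsElementaryAbelian 2 (pCoreOf 2 L) := e ▸ elab_ZO _
  have h3 := four_pgroup_relIndex h2 (by rw [e] at h1; omega) h.two
    (h.le.trans (le_NN_pCoreOf L))
  refine h.idx_of_dvd hz ?_
  have h5 : CC(pCoreOf 2 L) ⊓ R = pCoreOf 2 L := le_antisymm
    ((le_inf (inf_le_right.trans h.le) inf_le_left).trans (h.CE hz hz (le_NN_pCoreOf L)))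
    (le_inf (elab_le_CC h2) h.OR)
  rwa [← Subgroup.inf_relIndex_right, h5] at h3

theorem solv (h8 : (pCoreOf 2 L).relIndex R ≤ 8) : Group.IsSolvable L := by
  have hAL : L ⊓ pCoreOf 2 L = pCoreOf 2 L := inf_eq_right.2 (pCoreOf_le L)
  have hp : IsPGroup 2 (bar L (pCoreOf 2 L) R) := isPGroup_bar h.two
  have hco : IsCoatom (bar L (pCoreOf 2 L) R) := by
    refine ⟨fun e => ?_, fun X hX => ?_⟩
    · rw [bar_eq_top h.le, hAL, sup_eq_left.2 h.OR] at e
      exact h.ltL.ne e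
    · rw [← bar_unbar (M := L) (W := pCoreOf 2 L) X, h.eqL hz ((bar_le_iff h.le).1 hX.le)
        (unbar_le _) fun e => hX.not_ge (by
          rw [← bar_unbar (M := L) (W := pCoreOf 2 L) X]; exact bar_mono e), bar_self]
  have := Cfsg.Agent.S4039.result _ hco hp.isNilpotent
    (class_le_two hp (by rwa [card_bar' h.le]))
  exact solv_of_bar (N := pCoreOf 2 L) (H5.isSolvable_of_isPGroup (isPGroup_pCoreOf L))
    inferInstance

theorem idx (hR : Nat.card R ≤ 64) : (pCoreOf 2 L).relIndex R = 2 := by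
  by_cases h4 : Nat.card (pCoreOf 2 L) ≤ 4
  · exact h.idx_small hz h4
  have hc := card_mul_relIndex h.OR
  have h8 : 8 ≤ Nat.card (pCoreOf 2 L) := by
    obtain ⟨k, hk⟩ := IsPGroup.iff_card.1 (isPGroup_pCoreOf (p := 2) L)
    rw [hk] at h4 ⊢
    have : 3 ≤ k := by
      by_contra hlt
      exact h4 ((Nat.pow_le_pow_right (by norm_num) (by omega : k ≤ 2)).trans (by norm_num))
    exact Nat.pow_le_pow_right (n := 2) (by norm_num) this
  obtain ⟨F, hF⟩ := exists_OF (p := 2) (h.solv hz (by nlinarith))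
  have hnO := le_NN_pCoreOf (p := 2) L
  have hs : LS R L F := ⟨h.syl, hF, (Subgroup.commutator_mono
    (h.CE hz (h.zZO hz) (le_NN_ZO hnO)) le_rfl).trans (comm_le_left (h.le.trans hnO))⟩
  obtain ⟨s, hs1, hs2, hs3⟩ := h.exists_s
  have hA : ∃ A, T1 R L A := by
    by_contra hc
    push Not at hc
    have h1 : JT R ≤ pCoreOf 2 L := hs.JT_le_of (fun A hA => absurd hA (hc A)) le_rfl
    have h2 := JT_eq_of_le h1 h.OR
    exact JT_ne_bot h.two (ne_bot_of_gt h.O_lt) (h.inv hs1 hs3 (JT_le R)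
      (h2 ▸ le_NN_JT hnO) (le_NN_JT (le_refl NN(R)) hs2))
  obtain ⟨A, hA⟩ := hA
  obtain ⟨k3, -, kO⟩ := hs.ka hA
  have hAR : A ≤ R := H4.maxAb_le hA.1
  by_cases hn : R ≤ NN(KA L F A)
  · have h1 := k3.relIndex_stab hn fun e =>
      hs.ka_not_comm' hA ((Subgroup.commutator_mono le_rfl hAR).trans e)
    set D := stabMod (KA L F A) (pCoreOf 2 (KA L F A)) ⊓ R with hD
    have h2 : D.relIndex R = 2 := by rw [hD, Subgroup.inf_relIndex_right, h1]
    have h3 : R ⊔ KA L F A = L := h.eqL hz le_sup_left (sup_le h.le (hs.ka_leL hA))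
      fun e => k3.not_le_pgroup h.two (le_sup_right.trans e)
    have h4 : D ⊔ pCoreOf 2 L ≤ pCoreOf 2 L := by
      refine le_pCoreOf (h.two.to_le (sup_le inf_le_right h.OR))
        (sup_le (inf_le_right.trans h.le) (pCoreOf_le L)) (h3.ge.trans (sup_le ?_ ?_))
      · exact le_NN_sup (le_NN_of_relIndex_two h2 inf_le_right) (h.le.trans hnO)
      · refine le_NN_of_comm_le_left (comm_sup_le (le_sup_left.trans (le_NN_self _))
          (le_sup_right.trans (le_NN_self _)) ?_ ?_)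
        · exact (((le_stabMod.1 inf_le_left).2).trans kO).trans le_sup_right
        · exact (comm_le_left ((hs.ka_leL hA).trans hnO)).trans le_sup_right
    have h5 := Subgroup.relIndex_dvd_of_le_left R (le_sup_left.trans h4)
    rw [h2] at h5
    exact h.idx_of_dvd hz h5
  exfalso
  obtain ⟨r, hr, hrn⟩ := SetLike.not_le_iff_exists.1 hn
  have hB : T1 R L (cj r A) := ⟨by simpa [cj_eq_of_mem hr] using cj_mem_maxAb r hA.1, by
    rw [← cj_eq_of_mem_NN (hnO (h.le hr)), relIndex_cj]; exact hA.2⟩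
  have hne : KA L F A ≠ KA L F (cj r A) := fun e =>
    hrn (mem_NN.2 (by rw [cj_KA (h.le hr) hF.norm, ← e]))
  have hw0 : wOf (KA L F A) ⊓ wOf (KA L F (cj r A)) = ⊥ := by_contra fun e =>
    hne (hs.jc_eq_of_inf (hs.jc_ka hA) (hs.ka_leL hA) (hs.jc_ka hB) (hs.ka_leL hB) e)
  have hw : wOf (KA L F A) ≠ wOf (KA L F (cj r A)) := fun e => by
    rw [← e, inf_idem] at hw0
    have := hs.ka_card hA
    rw [hw0, Subgroup.card_bot] at this
    omega
  have hV := elab_le_CC (elab_ZO (p := 2) (pCoreOf 2 L))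
  have h16 : 16 ≤ Nat.card (pCoreOf 2 L) := by
    have h1 := card_sup_mul_card_inf (L := wOf (KA L F A)) (N := wOf (KA L F (cj r A)))
      (((hs.ka_wOf_le hA).trans (hV.trans (CC_anti (hs.ka_wOf_le hB)))).trans (CC_le_NN _))
    rw [hw0, Subgroup.card_bot, hs.ka_card hA, hs.ka_card hB, mul_one] at h1
    exact h1.ge.trans (Subgroup.card_le_of_le
      ((sup_le (hs.ka_wOf_le hA) (hs.ka_wOf_le hB)).trans (ZO_le _)))
  have hBR : cj r A ≤ R := H4.maxAb_le hB.1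
  have c1 : pCoreOf 2 L < pCoreOf 2 L ⊔ cj r A :=
    lt_of_le_not_ge le_sup_left fun e => hs.t1_not_le hB (le_sup_right.trans e)
  have c2 : pCoreOf 2 L ⊔ cj r A < R ⊓ NN(KA L F A) := by
    refine lt_of_le_not_ge (sup_le (le_inf h.OR (hF.syl.le.trans (hs.F_le_NN hA)))
      (le_inf hBR (hs.pair_NN hA hB))) fun e => hs.ka_not_comm hA ?_
    refine (Subgroup.commutator_mono le_rfl ((le_inf hAR (hs.A_le_NN hA)).trans e)).trans
      (comm_sup_le' (le_NN_self _) ((hBR.trans h.le).trans hnO) ?_ (hs.pair_ne' hA hB hw))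
    exact comm_le_right ((hs.ka_leL hA).trans hnO)
  have c3 : R ⊓ NN(KA L F A) < R := lt_of_le_not_ge inf_le_left fun e => hrn (e hr).2
  have := two_mul_card_le c1
  have := two_mul_card_le c2
  have := two_mul_card_le c3
  omega

theorem struct (hR : Nat.card R ≤ 64) : (pCoreOf 2 L).relIndex R = 2 ∧
    IsElementaryAbelian 2 (pCoreOf 2 L) ∧ (Nat.card R = 8 ∨ (Nat.card R = 16 ∧
      ∃ D, D ≤ pCoreOf 2 L ∧ L ≤ CC(D) ∧ Nat.card D = 2)) := by
  have hi := h.idx hz hR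
  have hn : ¬ L ≤ NN(R) := fun e => h.O_lt.ne (h.syl.pCoreOf_eq e)
  obtain ⟨x, hx, hxn⟩ := SetLike.not_le_iff_exists.1 hn
  have hgen : R ⊔ cj x R = L := h.eqL hz le_sup_left (sup_le h.le (cj_le_of_mem hx h.le))
    fun e => hxn (mem_NN_of_cj_le (le_sup_right.trans e))
  obtain ⟨s, h1, h2, h3, h4⟩ := h.exists_s2
  refine ⟨hi, (sims h.two h.le h.OR (le_NN_pCoreOf L) hi h.ne h.ltL.not_ge hx hgen h4
    (mem_NN.1 h2) fun N a b c => h.inv h1 h3 a b (mem_NN.2 c)).resolve_left fun e => ?_⟩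
  have := two_mul_card_le h.O_lt
  have := h.four_le hz
  omega

end Loc

end I

end H5Ch
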