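import Cfsg.Agent.H5.Ch2
import Cfsg.Agent.H6.Count

/-! Groups with short chains of subgroups, III: a transfer argument. -/

set_option autoImplicit false
set_option linter.unusedSectionVars false

namespace H5Ch

open Cfsg H10

universe u

variable {G : Type u} [Group G] [Finite G]

theorem ord2 {a : G} (h : a * a = 1) (h1 : a ≠ 1) : orderOf a = 2 :=
  orderOf_eq_prime (by rw [pow_two, h]) h1

theorem ord_conj (g a : G) : orderOf (g * a * g⁻¹) = orderOf a := (MulAut.conj g).orderOf_eq a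

theorem inv_self {a : G} (h : a * a = 1) : a⁻¹ = a := inv_eq_of_mul_eq_one_right h

theorem exists_ord2_zpowers {Y : Subgroup G} (hY : IsPGroup 2 Y) {a : G} (ha : a ∈ Y)
    (h1 : a ≠ 1) : ∃ i ∈ Subgroup.zpowers a, orderOf i = 2 :=
  exists_orderOf_eq_of_ne_bot (hY.to_le (Subgroup.zpowers_le.2 ha))
    (by rwa [Ne, Subgroup.zpowers_eq_bot])

theorem comm_zpowers {c a b : G} (ha : a ∈ Subgroup.zpowers c) (hb : b ∈ Subgroup.zpowers c) :
    a * b = b * a := by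
  obtain ⟨i, rfl⟩ := ha
  obtain ⟨j, rfl⟩ := hb
  exact (Commute.zpow_zpow_self c i j).eq

theorem comm_of_zpowers {c a w : G} (ha : a ∈ Subgroup.zpowers c) (h : w * c = c * w) :
    w * a = a * w := by
  obtain ⟨i, rfl⟩ := ha
  exact (Commute.zpow_right h i).eq

theorem conj_mem_zpowers {g a y : G} (h : a ∈ Subgroup.zpowers y) :
    g * a * g⁻¹ ∈ Subgroup.zpowers (g * y * g⁻¹) := by
  rw [← cj_zpowers]; exact conj_mem_cj h

/-- the transfer lemma -/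
theorem no_fusion {Y R : Subgroup G} {z t : G} (hy : Hy Y z) (hle : R ≤ Y) (hzR : z ∈ R)
    (htR : t ∈ R) (hn : Y ≤ NN(R)) (hs : IsSylowIn 2 R (Subgroup.centralizer {t}))
    (h1 : ∀ i ∈ R, orderOf i = 2 → (∃ g, g * i * g⁻¹ = z) ∨ ∃ g, g * i * g⁻¹ = t)
    (h2 : ∀ y ∈ Y, y * y = 1 ∨ z ∈ Subgroup.zpowers y)
    (h3 : ∀ y ∈ Y, y ∉ R → y * y = 1 → ∃ e ∈ Y, e * e = z ∧ e * y = y * e)
    {y : G} (hyY : y ∈ Y) (hyR : y ∉ R) (g : G) : g * y * g⁻¹ ∉ R := by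
  have key : ∀ e g : G, z ∈ Subgroup.zpowers e → e * e ≠ 1 → g * e * g⁻¹ ∈ Y → g ∈ Y := by
    intro e g he he2 hg
    have h4 := (h2 _ hg).resolve_left fun h => he2 (by
      have : g * (e * e) * g⁻¹ = 1 := by rw [← h]; group
      simpa using this)
    have h5 := H6.ord2_unique_zpowers (conj_mem_zpowers (g := g) he) h4
      (by rw [ord_conj, hy.oz]) hy.oz
    exact hy.cz g (by rw [← mul_inv_eq_iff_eq_mul, h5])
  have out : ∀ g ∈ Y, g * y * g⁻¹ ∉ R := fun g hg h => hyR (by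
    have := conj_mem_of_mem_NN' (hn hg) h
    simpa [mul_assoc] using this)
  intro hr
  by_cases hy2 : y * y = 1
  swap
  · exact out g (key y g ((h2 y hyY).resolve_left hy2) hy2 (hle hr)) hr
  obtain ⟨e, heY, he, hey⟩ := h3 y hyY hyR hy2
  have hze : z ∈ Subgroup.zpowers e := he ▸ mul_mem (Subgroup.mem_zpowers e) (Subgroup.mem_zpowers e)
  have he2 : e * e ≠ 1 := he ▸ hy.z1
  have hy1 : y ≠ 1 := fun h => hyR (h ▸ one_mem R)
  have hc : ∀ k : G, k * e * k⁻¹ * (k * y * k⁻¹) = k * y * k⁻¹ * (k * e * k⁻¹) := fun k => by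
    calc _ = k * (e * y) * k⁻¹ := by group
      _ = k * (y * e) * k⁻¹ := by rw [hey]
      _ = _ := by group
  rcases h1 _ hr (by rw [ord_conj, ord2 hy2 hy1]) with ⟨k, hk⟩ | ⟨k, hk⟩
  · have hk' : k * g * y * (k * g)⁻¹ = z := by rw [← hk]; group
    exact out (k * g) (key e _ hze he2 (hy.cz _ (hk' ▸ hc (k * g)))) (hk' ▸ hzR)
  · have hk' : k * g * y * (k * g)⁻¹ = t := by rw [← hk]; group
    obtain ⟨m, hm, hm'⟩ := hs.exists_cj_le (P := cj (k * g) (Subgroup.zpowers e))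
      (isPGroup_cj _ (hy.syl.isPGroup.to_le (Subgroup.zpowers_le.2 heY))) (by
        rw [cj_zpowers, Subgroup.zpowers_le, Subgroup.mem_centralizer_singleton_iff, ← hk']
        exact hc _)
    rw [← cj_mul] at hm'
    refine out (m * (k * g)) (key e _ hze he2 (hle (hm' (conj_mem_cj (Subgroup.mem_zpowers e))))) ?_
    have : m * (k * g) * y * (m * (k * g))⁻¹ = m * (k * g * y * (k * g)⁻¹) * m⁻¹ := by group
    rw [this, hk', Subgroup.mem_centralizer_singleton_iff.1 hm, mul_inv_cancel_right]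
    exact htR

theorem res_le_of_no_fusion {Y R : Subgroup G} (hY : IsSylowIn 2 Y ⊤)
    (hi : R.relIndex Y = 2) (h : ∀ y ∈ Y, y ∉ R → ∀ g, g * y * g⁻¹ ∉ R) :
    Y ⊓ resOf 2 ⊤ ≤ R := by
  obtain ⟨S, rfl⟩ := hY.exists_sylow_top
  rw [resOf_top]
  refine (le_inf (H3.inf_pResidual_le_commutator S) inf_le_left).trans ?_
  rw [Subgroup.commutator_inf_eq_focalSubgroup]
  refine H3.focalSubgroup_le_of fun x hx g hg => ?_
  rw [H6.mul_mem_iff_of_relIndex_two hi hg (inv_mem hx), inv_mem_iff]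
  refine ⟨fun h1 => by_contra fun h2 => h x hx h2 g h1, fun h1 => by_contra fun h2 =>
    h _ hg h2 g⁻¹ ?_⟩
  simpa [mul_assoc] using h1

/-- the configuration `R = D × ⟨t⟩`, `D = ⟨u, u^s⟩` -/
structure UU (Y R : Subgroup G) (z t x s u c : G) : Prop where
  hy : Hy Y z
  le : R ≤ Y
  ot : orderOf t = 2
  tR : t ∈ R
  syl : IsSylowIn 2 R (Subgroup.centralizer {t})
  sw : ∀ w ∈ Y, w ∈ NN(R) → w ∉ R → w * t * w⁻¹ = t * z
  xt : x * t = t * x
  hu : u = x * z * x⁻¹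
  uR : u ∈ R
  sY : s ∈ Y
  sN : s ∈ NN(R)
  sR : s ∉ R
  hc : c = u * (s * u * s⁻¹)
  gen : ∀ r ∈ R, ∃ a ∈ Subgroup.zpowers c, r = a ∨ r = a * t ∨ r = a * u ∨ r = a * t * u
  zC : ∃ a ∈ Subgroup.zpowers c, z = a ∨ z = a * t
  c2 : c * c ≠ 1
  nf : ∀ w ∈ Y, w ∈ NN(R) → w ∉ R → w * u * w⁻¹ ≠ u

namespace UU

variable {Y R : Subgroup G} {z t x s u c : G} (h : UU Y R z t x s u c)
include h

theorem tt : t * t = 1 := by rw [← pow_two, ← h.ot, pow_orderOf_eq_one]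

theorem ou : orderOf u = 2 := by rw [h.hu, ord_conj, h.hy.oz]

theorem uu : u * u = 1 := by rw [← pow_two, ← h.ou, pow_orderOf_eq_one]

theorem ct {r : G} (hr : r ∈ R) : r * t = t * r :=
  Subgroup.mem_centralizer_singleton_iff.1 (h.syl.le hr)

theorem memR {y : G} (hy : y ∈ Y) (e : y * t = t * y) : y ∈ R := by
  rw [← h.syl.eq_of_le (Q := Y ⊓ Subgroup.centralizer {t}) (h.hy.syl.isPGroup.to_le inf_le_left)
    (le_inf h.le h.syl.le) inf_le_right]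
  exact ⟨hy, Subgroup.mem_centralizer_singleton_iff.2 e⟩

theorem tz : t * z = z * t := h.hy.zc t (h.le h.tR)

theorem zR : z ∈ R := h.memR h.hy.zY h.tz.symm

theorem cR : c ∈ R := h.hc ▸ mul_mem h.uR (conj_mem_of_mem_NN h.sN h.uR)

theorem aR {a : G} (ha : a ∈ Subgroup.zpowers c) : a ∈ R := Subgroup.zpowers_le.2 h.cR ha

theorem cz {w : G} (hw : w ∈ Y) : w * z * w⁻¹ = z := by rw [h.hy.zc w hw, mul_inv_cancel_right]

theorem mulR {a b : G} (ha : a ∈ Y ⊓ NN(R)) (hb : b ∈ Y ⊓ NN(R)) (ha' : a ∉ R) (hb' : b ∉ R) :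
    a * b ∈ R := by
  refine h.memR (mul_mem ha.1 hb.1) ?_
  rw [← mul_inv_eq_iff_eq_mul]
  calc a * b * t * (a * b)⁻¹ = a * (b * t * b⁻¹) * a⁻¹ := by group
    _ = a * t * a⁻¹ * (a * z * a⁻¹) := by rw [h.sw b hb.1 hb.2 hb']; group
    _ = t := by rw [h.sw a ha.1 ha.2 ha', h.cz ha.1, mul_assoc, h.hy.z2, mul_one]

theorem RN : R ≤ Y ⊓ NN(R) := le_inf h.le (le_NN_self R)

theorem sM : s ∈ Y ⊓ NN(R) := ⟨h.sY, h.sN⟩

theorem idx : R.relIndex (Y ⊓ NN(R)) = 2 := by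
  refine Subgroup.relIndex_eq_two_iff.2 ⟨s, h.sM, fun b hb => ?_⟩
  by_cases e : b ∈ R
  · exact Or.inr ⟨e, fun e' => h.sR ((R.mul_mem_cancel_left e).1 e')⟩
  · exact Or.inl ⟨h.mulR hb h.sM e h.sR, e⟩

theorem su : s * u * s⁻¹ = u * c := by rw [h.hc, ← mul_assoc u, h.uu, one_mul]

theorem uc : u * c * u⁻¹ = c⁻¹ := by
  have : s * u * s⁻¹ * (s * u * s⁻¹) = 1 := by
    calc _ = s * (u * u) * s⁻¹ := by group
      _ = 1 := by rw [h.uu]; group
  rw [← h.su, h.hc, mul_inv_rev, inv_self this]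

theorem ua {a : G} (ha : a ∈ Subgroup.zpowers c) : u * a = a⁻¹ * u := by
  obtain ⟨i, rfl⟩ := ha
  rw [← mul_inv_eq_iff_eq_mul]
  dsimp only
  rw [← conj_zpow, h.uc, inv_zpow]

theorem au {a : G} (ha : a ∈ Subgroup.zpowers c) : a * u * a⁻¹ = a * a * u := by
  rw [mul_assoc, h.ua (inv_mem ha), inv_inv, mul_assoc]

theorem tconj {r : G} (hr : r ∈ R) : t * r * t⁻¹ = r := by rw [← h.ct hr, mul_inv_cancel_right]

theorem conj_u {r : G} (hr : r ∈ R) : ∃ a ∈ Subgroup.zpowers c, r * u * r⁻¹ = a * a * u := by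
  obtain ⟨a, ha, e⟩ := h.gen r hr
  refine ⟨a, ha, ?_⟩
  rw [← h.au ha]
  rcases e with e | e | e | e <;> rw [e]
  · conv_rhs => rw [← h.tconj h.uR]
    group
  · group
  · conv_rhs => rw [← h.tconj h.uR]
    group

theorem NcR {r : G} (hr : r ∈ R) : r * c * r⁻¹ ∈ Subgroup.zpowers c := by
  obtain ⟨a, ha, e⟩ := h.gen r hr
  have h0 := Subgroup.mem_zpowers c
  rcases e with e | e | e | e <;> rw [e]
  · exact mul_mem (mul_mem ha h0) (inv_mem ha)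
  · have : a * t * c * (a * t)⁻¹ = a * (t * c * t⁻¹) * a⁻¹ := by group
    rw [this, h.tconj h.cR]; exact mul_mem (mul_mem ha h0) (inv_mem ha)
  · have : a * u * c * (a * u)⁻¹ = a * (u * c * u⁻¹) * a⁻¹ := by group
    rw [this, h.uc]; exact mul_mem (mul_mem ha (inv_mem h0)) (inv_mem ha)
  · have : a * t * u * c * (a * t * u)⁻¹ = a * (t * (u * c * u⁻¹) * t⁻¹) * a⁻¹ := by group
    rw [this, h.uc, h.tconj (inv_mem h.cR)]
    exact mul_mem (mul_mem ha (inv_mem h0)) (inv_mem ha)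

theorem Nc {w : G} (hw : w ∈ Y ⊓ NN(R)) : w ∈ NN(Subgroup.zpowers c) := by
  have key : ∀ w : G, w * c * w⁻¹ ∈ Subgroup.zpowers c → w ∈ NN(Subgroup.zpowers c) :=
    fun w e => mem_NN_of_cj_le (by rwa [cj_zpowers, Subgroup.zpowers_le])
  have hs : s ∈ NN(Subgroup.zpowers c) := by
    refine key s ?_
    obtain ⟨a, ha, e⟩ := h.conj_u (h.mulR h.sM h.sM h.sR h.sR)
    have h1 := mul_mem (mul_mem (Subgroup.mem_zpowers c) ha) ha
    have : s * c * s⁻¹ = (c * a * a)⁻¹ := by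
      calc s * c * s⁻¹ = s * (u * (s * u * s⁻¹)) * s⁻¹ := by rw [← h.hc]
        _ = (s * u * s⁻¹) * (s * s * u * (s * s)⁻¹) := by group
        _ = u * (c * a * a) * u := by rw [e, h.su]; group
        _ = _ := by rw [h.ua h1, mul_assoc, h.uu, mul_one]
    rw [this]; exact inv_mem h1
  by_cases e : w ∈ R
  · exact key w (h.NcR e)
  · have := mul_mem (key _ (h.NcR (h.mulR hw h.sM e h.sR))) (inv_mem hs)
    rwa [mul_inv_cancel_right] at this

theorem t_ne : t * z ≠ t := fun e => h.hy.z1 (by simpa using e)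

theorem z_ne_t : z ≠ t := fun e => h.t_ne (by
  rw [← h.sw s h.sY h.sN h.sR, ← e, h.cz h.sY])

theorem zc : z ∈ Subgroup.zpowers c := by
  obtain ⟨a, ha, e | e⟩ := h.zC
  · exact e ▸ ha
  exfalso
  have e1 : a = z * t := by rw [e, mul_assoc, h.tt, mul_one]
  have e2 : s * a * s⁻¹ = t := by
    calc _ = s * z * s⁻¹ * (s * t * s⁻¹) := by rw [e1]; group
      _ = t := by rw [h.cz h.sY, h.sw s h.sY h.sN h.sR, h.tz, ← mul_assoc, h.hy.z2, one_mul]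
  have e3 := H6.ord2_unique_zpowers (conj_mem_of_mem_NN (h.Nc h.sM) ha) ha (e2 ▸ h.ot)
    (by rw [← ord_conj s, e2, h.ot])
  rw [e2, e1, ← h.tz] at e3
  exact h.t_ne e3.symm

theorem sq_one {a : G} (ha : a ∈ Subgroup.zpowers c) (e : a * a = 1) : a = 1 ∨ a = z := by
  by_cases h1 : a = 1
  · exact Or.inl h1
  · exact Or.inr (H6.ord2_unique_zpowers ha h.zc (ord2 e h1) h.hy.oz)

theorem exists_f : ∃ f ∈ Subgroup.zpowers c, f * f = z := by
  obtain ⟨i, hi⟩ := Subgroup.mem_zpowers_iff.1 h.zc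
  rcases Int.even_or_odd' i with ⟨k, e | e⟩
  · exact ⟨c ^ k, Subgroup.zpow_mem_zpowers c k, by rw [← hi, ← zpow_add, e, two_mul]⟩
  exfalso
  obtain ⟨m, hm⟩ := orderOf_eq_pow_of_mem h.hy.syl.isPGroup (h.le h.cR)
  have h1 : c ∈ Subgroup.zpowers z := by
    rw [← hi, mem_zpowers_zpow_iff, hm, e]
    push_cast
    rw [← Int.isCoprime_iff_gcd_eq_one]
    exact IsCoprime.pow_right ⟨1, -k, by ring⟩
  obtain ⟨j, rfl⟩ := h1
  exact h.c2 (by dsimp only; rw [← (Commute.refl z).mul_zpow, h.hy.z2, one_zpow])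

theorem fu {f : G} (hf : f ∈ Subgroup.zpowers c) (e : f * f = z) : f * u * f⁻¹ = u * z := by
  rw [h.au hf, e, h.hy.zc u (h.le h.uR)]

theorem inv_cases {i : G} (hi : i ∈ R) (h2 : orderOf i = 2) : i = z ∨ i = t ∨ i = t * z ∨
    ∃ g ∈ Y ⊓ NN(R), i = g * u * g⁻¹ ∨ i = g * (u * t) * g⁻¹ := by
  have hii : i * i = 1 := by rw [← pow_two, ← h2, pow_orderOf_eq_one]
  obtain ⟨a, ha, e⟩ := h.gen i hi
  have key : ∃ g ∈ Y ⊓ NN(R), a * u = g * u * g⁻¹ ∧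
      ∃ g' ∈ Y ⊓ NN(R), a * t * u = g' * (u * t) * g'⁻¹ := by
    obtain ⟨k, rfl⟩ := Subgroup.mem_zpowers_iff.1 ha
    have ht : ∀ b ∈ Subgroup.zpowers c, ∀ v : G, b * (v * t) * b⁻¹ = b * v * b⁻¹ * t :=
      fun b hb v => by
        calc _ = b * v * (t * b⁻¹) := by group
          _ = _ := by rw [← h.ct (h.aR (inv_mem hb))]; group
    have e1 : c ^ k * t * u = c ^ k * u * t := by rw [mul_assoc, ← h.ct h.uR, mul_assoc]
    rcases Int.even_or_odd' k with ⟨j, e | e⟩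
    · have hj := Subgroup.zpow_mem_zpowers c j
      have e2 : c ^ k * u = c ^ j * u * (c ^ j)⁻¹ := by rw [h.au hj, ← zpow_add, e, two_mul]
      exact ⟨_, h.RN (h.aR hj), e2, _, h.RN (h.aR hj), by rw [ht _ hj, ← e2, e1]⟩
    · have hj := Subgroup.zpow_mem_zpowers c (j + 1)
      have e2 : c ^ k * u = c ^ (j + 1) * (s * u * s⁻¹) * (c ^ (j + 1))⁻¹ := by
        rw [h.su, h.ua (Subgroup.mem_zpowers c), mul_assoc, mul_assoc, h.ua (inv_mem hj), e]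
        group
      obtain ⟨f, hf, hf2⟩ := h.exists_f
      refine ⟨c ^ (j + 1) * s, mul_mem (h.RN (h.aR hj)) h.sM, by rw [e2]; group,
        c ^ (j + 1) * s * f, mul_mem (mul_mem (h.RN (h.aR hj)) h.sM) (h.RN (h.aR hf)), ?_⟩
      rw [e1, e2, ← ht _ hj]
      calc _ = c ^ (j + 1) * (s * u * s⁻¹ * (t * z * z)) * (c ^ (j + 1))⁻¹ := by
            rw [mul_assoc t, h.hy.z2, mul_one]
        _ = c ^ (j + 1) * (s * u * s⁻¹ * (s * t * s⁻¹ * (s * z * s⁻¹))) * (c ^ (j + 1))⁻¹ := by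
            rw [h.sw s h.sY h.sN h.sR, h.cz h.sY]
        _ = c ^ (j + 1) * s * (u * (t * z)) * (c ^ (j + 1) * s)⁻¹ := by group
        _ = c ^ (j + 1) * s * (f * (u * t) * f⁻¹) * (c ^ (j + 1) * s)⁻¹ := by
            rw [ht _ hf, h.fu hf hf2, h.tz, mul_assoc u]
        _ = _ := by group
  obtain ⟨g, hg, e1, g', hg', e2⟩ := key
  rcases e with e | e | e | e
  · exact Or.inl (H6.ord2_unique_zpowers (e ▸ ha) h.zc h2 h.hy.oz)
  · have : a * a = 1 := by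
      rw [e, mul_assoc, ← mul_assoc t, ← h.ct (h.aR ha), mul_assoc, h.tt, mul_one] at hii
      exact hii
    rcases h.sq_one ha this with e' | e'
    · rw [e, e', one_mul]; simp
    · rw [e, e', h.tz]; simp
  · exact Or.inr (Or.inr (Or.inr ⟨g, hg, Or.inl (e.trans e1)⟩))
  · exact Or.inr (Or.inr (Or.inr ⟨g', hg', Or.inr (e.trans e2)⟩))

theorem fix {w i : G} (hw : w ∈ Y ⊓ NN(R)) (hwR : w ∉ R) (hi : i ∈ R) (h2 : orderOf i = 2)
    (e : w * i = i * w) : i = z := by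
  have e0 : w * i * w⁻¹ = i := by rw [e, mul_inv_cancel_right]
  have hsw := h.sw w hw.1 hw.2 hwR
  have hg : ∀ g ∈ Y ⊓ NN(R), g⁻¹ * w * g ∈ Y ⊓ NN(R) ∧ g⁻¹ * w * g ∉ R := fun g hg =>
    ⟨mul_mem (mul_mem (inv_mem hg) hw) hg, fun e => hwR (by
      simpa [mul_assoc] using conj_mem_of_mem_NN hg.2 e)⟩
  rcases h.inv_cases hi h2 with e1 | e1 | e1 | ⟨g, hg1, e1 | e1⟩
  · exact e1
  · rw [e1, hsw] at e0; exact absurd e0 h.t_ne
  · refine absurd ?_ h.t_ne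
    calc t * z = w * (t * z) * w⁻¹ := by rw [← e1, e0]
      _ = w * t * w⁻¹ * (w * z * w⁻¹) := by group
      _ = t := by rw [hsw, h.cz hw.1, mul_assoc, h.hy.z2, mul_one]
  · obtain ⟨a, b⟩ := hg g hg1
    refine absurd ?_ (h.nf _ a.1 a.2 b)
    calc _ = g⁻¹ * (w * (g * u * g⁻¹) * w⁻¹) * g := by group
      _ = u := by rw [← e1, e0, e1]; group
  · obtain ⟨a, b⟩ := hg g hg1
    obtain ⟨f, hf, hf2⟩ := h.exists_f
    have a' := mul_mem (inv_mem (h.RN (h.aR hf))) a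
    refine absurd ?_ (h.nf _ a'.1 a'.2 fun e => b ((R.mul_mem_cancel_left (inv_mem (h.aR hf))).1 e))
    have e2 : g⁻¹ * w * g * (u * t) * (g⁻¹ * w * g)⁻¹ = u * t := by
      calc _ = g⁻¹ * (w * (g * (u * t) * g⁻¹) * w⁻¹) * g := by group
        _ = _ := by rw [← e1, e0, e1]; group
    have e3 := h.sw _ a.1 a.2 b
    generalize g⁻¹ * w * g = v at e2 e3
    have e4 : v * u * v⁻¹ = f * u * f⁻¹ := by
      calc v * u * v⁻¹ = v * (u * t) * v⁻¹ * (v * t * v⁻¹)⁻¹ := by group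
        _ = u * (t * z⁻¹ * t⁻¹) := by rw [e2, e3]; group
        _ = _ := by rw [h.tconj (inv_mem h.zR), inv_self h.hy.z2, h.fu hf hf2]
    calc _ = f⁻¹ * (v * u * v⁻¹) * f := by group
      _ = u := by rw [e4]; group

theorem classes {i : G} (hi : i ∈ R) (h2 : orderOf i = 2) :
    (∃ g, g * i * g⁻¹ = z) ∨ ∃ g, g * i * g⁻¹ = t := by
  have e0 : s⁻¹ * (t * z) * s⁻¹⁻¹ = t := by rw [← h.sw s h.sY h.sN h.sR]; group
  rcases h.inv_cases hi h2 with e1 | e1 | e1 | ⟨g, hg1, e1 | e1⟩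
  · exact Or.inl ⟨1, by simpa using e1⟩
  · exact Or.inr ⟨1, by simpa using e1⟩
  · exact Or.inr ⟨s⁻¹, e1 ▸ e0⟩
  · exact Or.inl ⟨x⁻¹ * g⁻¹, by rw [e1, h.hu]; group⟩
  · refine Or.inr ⟨s⁻¹ * x⁻¹ * g⁻¹, ?_⟩
    calc _ = s⁻¹ * (z * x⁻¹ * (t * x)) * s⁻¹⁻¹ := by rw [e1, h.hu]; group
      _ = s⁻¹ * (z * t) * s⁻¹⁻¹ := by rw [← h.xt]; group
      _ = t := by rw [← h.tz, e0]

theorem squares {y : G} (hy : y ∈ Y ⊓ NN(R)) : y * y = 1 ∨ z ∈ Subgroup.zpowers y := by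
  by_cases e : y * y = 1
  · exact Or.inl e
  right
  obtain ⟨i, hi, h2⟩ := exists_ord2_zpowers h.hy.syl.isPGroup (mul_mem hy.1 hy.1) e
  have h3 : Subgroup.zpowers (y * y) ≤ Subgroup.zpowers y :=
    Subgroup.zpowers_le.2 (mul_mem (Subgroup.mem_zpowers y) (Subgroup.mem_zpowers y))
  suffices i = z from this ▸ h3 hi
  by_cases hyR : y ∈ R
  swap
  · exact h.fix hy hyR (Subgroup.zpowers_le.2 (h.mulR hy hy hyR hyR) hi) h2
      (comm_zpowers (Subgroup.mem_zpowers y) (h3 hi))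
  refine H6.ord2_unique_zpowers (Subgroup.zpowers_le.2 ?_ hi) h.zc h2 h.hy.oz
  obtain ⟨a, ha, e1⟩ := h.gen y hyR
  have e2 : a * u * (a * u) = 1 := by
    rw [mul_assoc, ← mul_assoc u, h.ua ha, mul_assoc, h.uu]; group
  rcases e1 with e1 | e1 | e1 | e1
  · exact e1 ▸ mul_mem ha ha
  · rw [e1, mul_assoc, ← mul_assoc t, ← h.ct (h.aR ha), mul_assoc, h.tt, mul_one]
    exact mul_mem ha ha
  · exact absurd (e1 ▸ e2) e
  · refine absurd ?_ e
    have e3 : y = a * u * t := by rw [e1, mul_assoc, ← h.ct h.uR, mul_assoc]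
    calc y * y = a * u * (t * (a * u)) * t := by rw [e3]; group
      _ = a * u * (a * u) * (t * t) := by rw [← h.ct (mul_mem (h.aR ha) h.uR)]; group
      _ = 1 := by rw [h.tt, e2, mul_one]

theorem root {w : G} (hw : w ∈ Y ⊓ NN(R)) (hwR : w ∉ R) :
    ∃ e ∈ Y, e * e = z ∧ e * w = w * e := by
  obtain ⟨f, hf, hf2⟩ := h.exists_f
  have h1 := conj_mem_of_mem_NN (h.Nc hw) hf
  have h2 : w * f * w⁻¹ * f⁻¹ * (w * f * w⁻¹ * f⁻¹) = 1 := by
    calc _ = w * f * w⁻¹ * (f⁻¹ * (w * f * w⁻¹)) * f⁻¹ := by group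
      _ = w * f * w⁻¹ * (w * f * w⁻¹ * f⁻¹) * f⁻¹ := by rw [comm_zpowers (inv_mem hf) h1]
      _ = w * (f * f) * w⁻¹ * (f * f)⁻¹ := by group
      _ = 1 := by rw [hf2, h.cz hw.1, mul_inv_cancel]
  rcases h.sq_one (mul_mem h1 (inv_mem hf)) h2 with e | e
  · refine ⟨f, h.le (h.aR hf), hf2, ?_⟩
    calc f * w = w * f * w⁻¹ * f⁻¹ * (f * w) := by rw [e, one_mul]
      _ = _ := by group
  · refine ⟨f * t, h.le (mul_mem (h.aR hf) h.tR), ?_, ?_⟩
    · rw [mul_assoc, ← mul_assoc t, ← h.ct (h.aR hf), mul_assoc, h.tt, mul_one, hf2]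
    · symm
      calc w * (f * t) = w * f * w⁻¹ * f⁻¹ * f * (w * t * w⁻¹) * w := by group
        _ = z * (f * t * z) * w := by rw [e, h.sw w hw.1 hw.2 hwR]; group
        _ = _ := by
          rw [h.hy.zc _ (h.le (mul_mem (h.aR hf) h.tR)), ← mul_assoc z, h.hy.z2, one_mul]

theorem normal : Y ≤ NN(R) := by
  have := eq_of_inf_NN_le h.hy.syl.isPGroup (inf_le_left : Y ⊓ NN(R) ≤ Y) fun g hg => ?_
  · exact this.ge.trans inf_le_right
  refine ⟨hg.1, by_contra fun hgn => ?_⟩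
  have h1 : cj g R ≤ Y ⊓ NN(R) := cj_le_of_mem_NN hg.2 h.RN
  have h2 : ∀ r ∈ cj g R, r * (g * t * g⁻¹) = g * t * g⁻¹ * r := fun r hr => by
    calc _ = g * (g⁻¹ * r * g * t) * g⁻¹ := by group
      _ = g * (t * (g⁻¹ * r * g)) * g⁻¹ := by rw [h.ct (mem_cj.1 hr)]
      _ = _ := by group
  by_cases ht : g * t * g⁻¹ ∈ R
  · obtain ⟨w, hw, hwR⟩ := SetLike.not_le_iff_exists.1 fun e => hgn (mem_NN_of_cj_le e)
    have := h.fix (h1 hw) hwR ht (by rw [ord_conj, h.ot]) (h2 w hw)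
    refine h.z_ne_t ?_
    calc z = g⁻¹ * z * g⁻¹⁻¹ := (h.cz (inv_mem hg.1)).symm
      _ = t := by rw [← this]; group
  have h3 : (cj g R).relIndex (Y ⊓ NN(R)) = 2 := by
    rw [← h.idx]
    conv_lhs => rw [← cj_eq_of_mem_NN hg.2]
    exact relIndex_cj g _ _
  have h4 : ∀ i ∈ R, i ∈ cj g R → orderOf i = 2 → i = z := fun i a b e =>
    h.fix (h1 (conj_mem_cj h.tR)) ht a e (h2 i b).symm
  have hst := h.sw s h.sY h.sN h.sR
  have n1 : t ∉ cj g R := fun e => h.z_ne_t (h4 t h.tR e h.ot).symm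
  have n2 : u ∉ cj g R := fun e => h.nf s h.sY h.sN h.sR (by
    rw [h4 u h.uR e h.ou, h.cz h.sY])
  have n3 : t * u ∈ cj g R :=
    (H6.mul_mem_iff_of_relIndex_two h3 (h.RN h.tR) (h.RN h.uR)).2 (iff_of_false n1 n2)
  have e1 : t * u * (t * u) = 1 := by
    rw [mul_assoc, ← mul_assoc u, h.ct h.uR, mul_assoc, h.uu, mul_one, h.tt]
  refine h.c2 ?_
  suffices c = z by rw [this, h.hy.z2]
  by_cases e2 : t * u = 1
  · have e3 : u = t := by rw [← inv_self h.tt]; exact eq_inv_of_mul_eq_one_right e2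
    rw [h.hc, e3, hst, ← mul_assoc, h.tt, one_mul]
  · have e3 : u = t * z := by
      rw [← h4 _ (mul_mem h.tR h.uR) n3 (ord2 e1 e2), ← mul_assoc, h.tt, one_mul]
    rw [h.hc, e3]
    calc _ = t * z * (s * t * s⁻¹ * (s * z * s⁻¹)) := by group
      _ = t * z * (t * (z * z)) := by rw [hst, h.cz h.sY, mul_assoc t z z]
      _ = z := by rw [h.hy.z2, mul_one, h.tz, mul_assoc, h.tt, mul_one]

theorem res : Y ≤ NN(R) ∧ Y ⊓ resOf 2 ⊤ ≤ R := by
  have e : Y ⊓ NN(R) = Y := inf_eq_left.2 h.normal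
  refine ⟨h.normal, res_le_of_no_fusion h.hy.syl (e ▸ h.idx) fun y hy hyR g => ?_⟩
  exact no_fusion h.hy h.le h.zR h.tR h.normal h.syl (fun i => h.classes)
    (fun y hy => h.squares (e.ge hy)) (fun y hy hyR _ => h.root (e.ge hy) hyR) hy hyR g

end UU

end H5Ch
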