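import Cfsg.Agent.H5.Ch3
import Cfsg.Agent.H6.MaxCl

/-! Groups with short chains of subgroups, IV: the case `z ∈ O₂(L)`, conclusion. -/

set_option autoImplicit false
set_option linter.unusedSectionVars false

namespace H5Ch

open Cfsg H10

universe u

variable {G : Type u} [Group G] [Finite G]

theorem mem_zp2 {a g : G} (ha : a * a = 1) (h : g ∈ Subgroup.zpowers a) : g = 1 ∨ g = a := by
  obtain ⟨i, rfl⟩ := Subgroup.mem_zpowers_iff.1 h
  have e : ∀ k : ℤ, a ^ (2 * k) = 1 := fun k => by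
    rw [zpow_mul, show a ^ (2 : ℤ) = a * a from zpow_two a, ha, one_zpow]
  rcases Int.even_or_odd' i with ⟨k, rfl | rfl⟩
  · exact Or.inl (e k)
  · exact Or.inr (by rw [zpow_add, e, one_mul, zpow_one])

theorem zp_le_NN {a b : G} (hab : a * b = b * a) :
    Subgroup.zpowers a ≤ NN(Subgroup.zpowers b) :=
  (CC_le_NN _).trans' (by
    rw [CC_zpowers, Subgroup.zpowers_le, Subgroup.mem_centralizer_singleton_iff]; exact hab)

theorem mem_four {a b g : G} (ha : a * a = 1) (hb : b * b = 1) (hab : a * b = b * a)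
    (h : g ∈ Subgroup.zpowers a ⊔ Subgroup.zpowers b) : g = 1 ∨ g = a ∨ g = b ∨ g = a * b := by
  obtain ⟨x, hx, y, hy, rfl⟩ := (mem_sup_of_NN (zp_le_NN hab)).1 h
  rcases mem_zp2 ha hx with rfl | rfl <;> rcases mem_zp2 hb hy with rfl | rfl <;> simp

theorem four_le_card {a b : G} (ha : orderOf a = 2) (hb : b ≠ 1) (hab : b ≠ a) :
    4 ≤ Nat.card (Subgroup.zpowers a ⊔ Subgroup.zpowers b : Subgroup G) := by
  have h1 : Subgroup.zpowers a < Subgroup.zpowers a ⊔ Subgroup.zpowers b :=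
    lt_of_le_not_ge le_sup_left fun e => by
      rcases mem_zp2 (by rw [← pow_two, ← ha, pow_orderOf_eq_one])
        (e (Subgroup.mem_sup_right (Subgroup.mem_zpowers b))) with e | e
      exacts [hb e, hab e]
  have := two_mul_card_le h1
  rwa [Nat.card_zpowers, ha] at this

/-- `x z x⁻¹` has a centraliser of order `4` in `Y` -/
def Sc (Y : Subgroup G) (z x : G) : Prop :=
  x * z * x⁻¹ ∈ Y ∧ x * z * x⁻¹ ≠ z ∧
    Nat.card (Y ⊓ Subgroup.centralizer {x * z * x⁻¹} : Subgroup G) ≤ 4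

/-- case (a) -/
def CA (Y : Subgroup G) (z : G) : Prop := ∃ x, (orderOf x).Coprime 2 ∧ Sc Y z x ∧ Sc Y z x⁻¹

theorem Hy.mc {Y : Subgroup G} {z x : G} (h : Hy Y z) (hx : Sc Y z x) : ∃ c ∈ Y,
    (Subgroup.zpowers c).relIndex Y = 2 ∧ z ∈ Subgroup.zpowers c ∧ 8 ≤ orderOf c ∧
    (∀ w ∈ Y, w ∉ Subgroup.zpowers c → ∀ a ∈ Subgroup.zpowers c, a * w = w * a →
      a ∈ Subgroup.zpowers z) ∧ ∀ y, Sc Y z y → y * z * y⁻¹ ∉ Subgroup.zpowers c := by
  have h16 := h.card_ge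
  obtain ⟨h1, h2, h3⟩ := hx
  have h4 : Nat.card (Subgroup.centralizer ({⟨_, h1⟩} : Set Y)) ≤ 4 := by
    rw [← card_map_subtype]
    refine (Subgroup.card_le_of_le ?_).trans h3
    rintro _ ⟨a, ha, rfl⟩
    exact ⟨a.2, Subgroup.mem_centralizer_singleton_iff.2
      (congrArg Subtype.val (Subgroup.mem_centralizer_singleton_iff.1 ha))⟩
  have nab : ¬ Y ≤ Subgroup.centralizer {x * z * x⁻¹} := fun e => by
    rw [inf_eq_left.2 e] at h3; omega
  rcases H6.taussky_aux _ Y rfl h.syl.isPGroup ((H6.index_commutator_le_card_cent _).trans h4)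
    with e | ⟨a, ha⟩
  · exact absurd (fun y hy => Subgroup.mem_centralizer_singleton_iff.2
      (congrArg Subtype.val (e.is_comm.comm (⟨y, hy⟩ : Y) ⟨_, h1⟩))) nab
  have hi : (Subgroup.zpowers (a : G)).relIndex Y = 2 := by
    rw [← ha, Subgroup.relIndex, ← subgroupOf_map_subtype' (Subgroup.zpowers a),
      MonoidHom.map_zpowers]
    rfl
  have ha2 : (a : G) ∈ Y := a.2
  generalize (a : G) = c at hi ha2
  have hle : Subgroup.zpowers c ≤ Y := Subgroup.zpowers_le.2 ha2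
  have h8 : 8 ≤ orderOf c := by
    have := card_mul_relIndex hle
    rw [hi, Nat.card_zpowers] at this
    omega
  have hn : ∀ y, Sc Y z y → y * z * y⁻¹ ∉ Subgroup.zpowers c := fun y hy e => by
    have := (Subgroup.card_le_of_le (H := Subgroup.zpowers c) (le_inf hle fun b hb =>
      Subgroup.mem_centralizer_singleton_iff.2 (comm_zpowers hb e))).trans hy.2.2
    rw [Nat.card_zpowers] at this
    omega
  have hu := hn x ⟨h1, h2, h3⟩
  have hsplit : ∀ w ∈ Y, w ∉ Subgroup.zpowers c → ∀ a ∈ Y, a * c = c * a → a * w = w * a →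
      a ∈ Subgroup.centralizer {x * z * x⁻¹} := fun w hw hwc a ha e1 e2 => by
    have h5 := (H6.mul_mem_iff_of_relIndex_two hi h1 (inv_mem hw)).2
      (iff_of_false hu (mt inv_mem_iff.1 hwc))
    rw [Subgroup.mem_centralizer_singleton_iff]
    calc a * (x * z * x⁻¹) = a * (x * z * x⁻¹ * w⁻¹) * w := by group
      _ = x * z * x⁻¹ * w⁻¹ * (a * w) := by rw [comm_of_zpowers h5 e1, mul_assoc]
      _ = _ := by rw [e2]; group
  have hz : z ∈ Subgroup.zpowers c := by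
    by_contra hz
    have h5 := (H6.mul_mem_iff_of_relIndex_two hi h1 h.zY).2 (iff_of_false hu hz)
    have h6 : c * (x * z * x⁻¹) = x * z * x⁻¹ * c := by
      calc _ = c * (x * z * x⁻¹ * z) * z := by rw [mul_assoc c, mul_assoc _ z z, h.z2, mul_one]
        _ = x * z * x⁻¹ * z * (c * z) := by
          rw [comm_zpowers (Subgroup.mem_zpowers c) h5, mul_assoc]
        _ = _ := by rw [h.zc c ha2, mul_assoc _ z, ← mul_assoc z z, h.z2, one_mul]
    have := (Subgroup.card_le_of_le (H := Subgroup.zpowers c) (le_inf hle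
      (Subgroup.zpowers_le.2 (Subgroup.mem_centralizer_singleton_iff.2 h6)))).trans h3
    rw [Nat.card_zpowers] at this
    omega
  refine ⟨c, ha2, hi, hz, h8, fun w hw hwc a ha e => ?_, hn⟩
  have h5 : Subgroup.zpowers c ⊓ Subgroup.centralizer {x * z * x⁻¹} <
      Y ⊓ Subgroup.centralizer {x * z * x⁻¹} := lt_of_le_not_ge (inf_le_inf_right _ hle)
    fun e => hu (e ⟨h1, Subgroup.mem_centralizer_singleton_iff.2 rfl⟩).1
  have h6 := two_mul_card_le h5
  have h7 : Subgroup.zpowers z = Subgroup.zpowers c ⊓ Subgroup.centralizer {x * z * x⁻¹} :=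
    Subgroup.eq_of_le_of_card_ge (Subgroup.zpowers_le.2 ⟨hz,
      Subgroup.mem_centralizer_singleton_iff.2 (h.zc _ h1).symm⟩)
      (by rw [Nat.card_zpowers, h.oz]; omega)
  rw [h7]
  exact ⟨ha, hsplit w hw hwc a (hle ha) (comm_zpowers ha (Subgroup.mem_zpowers c)) e⟩

namespace Loc

variable {Y : Subgroup G} {z : G} {R L : Subgroup G} (h : Loc Y z R L)
include h

theorem exists_odd : ∃ x ∈ L, (orderOf x).Coprime 2 ∧ x ≠ 1 := by
  by_contra hc
  push Not at hc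
  exact h.not_two (isPGroup_of_forall_coprime hc)

theorem conj_ne {x : G} (ho : (orderOf x).Coprime 2) (h1 : x ≠ 1) : x * z * x⁻¹ ≠ z := fun e =>
  h1 (eq_one_of_two h.hy.syl.isPGroup (h.hy.cz x (mul_inv_eq_iff_eq_mul.1 e)) ho)

variable (hz : z ∈ pCoreOf 2 L)
include hz

theorem sc (h4 : Nat.card (pCoreOf 2 L) = 4) {x : G} (hx : x ∈ L) (ho : (orderOf x).Coprime 2)
    (h1 : x ≠ 1) : Sc Y z x := by
  have hu := conj_mem_of_mem_NN (le_NN_pCoreOf L hx) hz
  have hne := h.conj_ne ho h1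
  refine ⟨h.lt.le (h.OR hu), hne, (Subgroup.card_le_of_le fun g hg => ?_).trans h4.le⟩
  have e : Subgroup.zpowers z ⊔ Subgroup.zpowers (x * z * x⁻¹) = pCoreOf 2 L :=
    Subgroup.eq_of_le_of_card_ge (sup_le (Subgroup.zpowers_le.2 hz) (Subgroup.zpowers_le.2 hu))
      (h4.le.trans (four_le_card h.hy.oz (by simpa using h.hy.z1) hne))
  have hc : g ∈ CC(pCoreOf 2 L) := by
    rw [← e, CC_sup, CC_zpowers, CC_zpowers]
    exact ⟨Subgroup.mem_centralizer_singleton_iff.2 (h.hy.zc g hg.1), hg.2⟩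
  exact h.CE hz hz (le_NN_pCoreOf L) ⟨h.le (h.memO hg.1 (CC_le_NN _ hc)), hc⟩

theorem caseb (hi : (pCoreOf 2 L).relIndex R = 2) (he : IsElementaryAbelian 2 (pCoreOf 2 L))
    (h16 : Nat.card R = 16) {D : Subgroup G} (hD : D ≤ pCoreOf 2 L) (hDc : L ≤ CC(D))
    (hD2 : Nat.card D = 2) : Y ≤ NN(R) ∧ Y ⊓ resOf 2 ⊤ ≤ R := by
  obtain ⟨d, hdD, od⟩ := exists_orderOf_eq_of_dvd (p := 2) (L := D) (by rw [hD2])
  obtain ⟨x, hx, ho, hx1⟩ := h.exists_odd
  obtain ⟨s, hs1, hs2, hs3⟩ := h.exists_s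
  set E := pCoreOf 2 L with hE
  have hdE := hD hdD
  have cd : ∀ g ∈ L, g * d = d * g := fun g hg => (mem_CC.1 (hDc hg) d hdD).symm
  have dd : d * d = 1 := by rw [← pow_two, ← od, pow_orderOf_eq_one]
  have d1 : d ≠ 1 := ne_one_of_orderOf_eq od
  have zz := h.hy.z2
  have zY : ∀ w ∈ Y, w * z * w⁻¹ = z := fun w hw => by rw [h.hy.zc w hw, mul_inv_cancel_right]
  have hLd : L ≤ Subgroup.centralizer {d} := fun g hg =>
    Subgroup.mem_centralizer_singleton_iff.2 (cd g hg)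
  have hCd : Subgroup.centralizer {d} ≤ NN(Subgroup.zpowers d) := CC_zpowers d ▸ CC_le_NN _
  have zd0 : Subgroup.zpowers d ≠ ⊥ := by rwa [Ne, Subgroup.zpowers_eq_bot]
  have hsyl : IsSylowIn 2 R (Subgroup.centralizer {d}) :=
    (h.sylN zd0 (isPGroup_zpowers_of_orderOf_eq od) (h.nnpN (hLd.trans hCd))
      (h.le.trans (hLd.trans hCd))).of_le (h.le.trans hLd) hCd
  have memR : ∀ w ∈ Y, w * d = d * w → w ∈ R := fun w hw e =>
    h.mem zd0 (isPGroup_zpowers_of_orderOf_eq od) (h.nnpN (hLd.trans hCd))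
      (h.le.trans (hLd.trans hCd)) hw (hCd (Subgroup.mem_centralizer_singleton_iff.2 e))
  have dz : d ≠ z := fun e => h.conj_ne ho hx1 (by rw [← e, cd x hx, mul_inv_cancel_right])
  have hzd : z * d = d * z := cd z (h.le h.zR)
  set Z4 := Subgroup.zpowers z ⊔ Subgroup.zpowers d with hZ4
  have m4 : ∀ g ∈ Z4, g = 1 ∨ g = z ∨ g = d ∨ g = z * d := fun g hg => mem_four zz dd hzd hg
  have z4 : z ∈ Z4 := Subgroup.mem_sup_left (Subgroup.mem_zpowers z)
  have d4 : d ∈ Z4 := Subgroup.mem_sup_right (Subgroup.mem_zpowers d)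
  have h4E : Z4 ≤ E := sup_le (Subgroup.zpowers_le.2 hz) (Subgroup.zpowers_le.2 hdE)
  obtain ⟨u, hu⟩ : ∃ u, u = x * z * x⁻¹ := ⟨_, rfl⟩
  have huE : u ∈ E := hu ▸ conj_mem_of_mem_NN (le_NN_pCoreOf L hx) hz
  have ee : ∀ e ∈ E, e * e = 1 := fun e he' => by rw [← pow_two]; exact he.2 e he'
  have ec : ∀ a ∈ E, ∀ b ∈ E, a * b = b * a := fun a ha b hb => mem_CC.1 (elab_le_CC he hb) a ha
  have hu4 : u ∉ Z4 := fun e => by
    rcases m4 u e with e | e | e | e
    · exact h.hy.z1 (by simpa [hu] using e)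
    · exact h.conj_ne ho hx1 (hu ▸ e)
    · refine dz ?_
      calc d = x⁻¹ * (d * x) := by rw [← cd x hx]; group
        _ = z := by rw [← e, hu]; group
    · refine h.conj_ne (x := x ^ 2) (Nat.Coprime.coprime_dvd_left (orderOf_pow_dvd 2) ho)
        (fun e' => hx1 (H3.eq_one_of_pow_of_coprime (p := 2) (k := 1) e' ho)) ?_
      calc x ^ 2 * z * (x ^ 2)⁻¹ = x * (x * z * x⁻¹) * x⁻¹ := by rw [pow_two]; group
        _ = x * (z * d) * x⁻¹ := by rw [← hu, e]
        _ = x * z * x⁻¹ * (x * d) * x⁻¹ := by group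
        _ = z := by rw [cd x hx, ← hu, e, mul_assoc, mul_inv_cancel_right, mul_assoc, dd, mul_one]
  have hi4 : Z4.relIndex E = 2 := by
    have a1 := card_mul_relIndex h.OR
    have a2 := card_mul_relIndex h4E
    have a3 := four_le_card h.hy.oz d1 dz
    have a4 := two_mul_card_le (lt_of_le_not_ge h4E fun e => hu4 (e huE))
    rw [hi, h16] at a1
    rw [← hZ4] at a3
    rw [← hE] at a1
    have a5 : Nat.card Z4 = 4 := by omega
    rw [a5] at a2
    omega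
  have c4 : ∀ r ∈ R, ∀ a ∈ Z4, a * r = r * a := fun r hr a ha => by
    have e1 := (h.hy.zc r (h.lt.le hr)).symm
    have e2 := (cd r (h.le hr)).symm
    rcases m4 a ha with rfl | rfl | rfl | rfl
    · simp
    · exact e1
    · exact e2
    · rw [mul_assoc, e2, ← mul_assoc, e1, mul_assoc]
  have cE : ∀ e ∈ E, e ∉ Z4 → ∀ r ∈ R, e * r = r * e → r ∈ E := fun e he1 he2 r hr hc => by
    refine h.CE hz hz (le_NN_pCoreOf L) ⟨h.le hr, mem_CC.2 fun a ha => ?_⟩
    by_cases ha4 : a ∈ Z4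
    · exact c4 r hr a ha4
    have := c4 r hr _ ((H6.mul_mem_iff_of_relIndex_two hi4 ha he1).2 (iff_of_false ha4 he2))
    rw [mul_assoc, hc, ← mul_assoc, ← mul_assoc] at this
    exact mul_right_cancel this
  have sw : ∀ w ∈ Y, w ∈ NN(R) → w ∉ R → w * d * w⁻¹ = d * z := fun w h1 h2 h3 => by
    have a1 : w * d * w⁻¹ ∈ R := conj_mem_of_mem_NN h2 (h.OR hdE)
    have a2 : ∀ r ∈ R, w * d * w⁻¹ * r = r * (w * d * w⁻¹) := fun r hr => by
      calc _ = w * (d * (w⁻¹ * r * w)) * w⁻¹ := by group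
        _ = w * (w⁻¹ * r * w * d) * w⁻¹ := by rw [cd _ (h.le (conj_mem_of_mem_NN' h2 hr))]
        _ = _ := by group
    have a3 := cE u huE hu4 _ a1 (a2 u (h.OR huE)).symm
    have a4 : w * d * w⁻¹ ∈ Z4 := by_contra fun e =>
      h.O_lt.not_ge fun r hr => cE _ a3 e r hr (a2 r hr)
    rcases m4 _ a4 with e | e | e | e
    · exact absurd (by simpa using e) d1
    · refine absurd ?_ dz
      calc d = w⁻¹ * (w * d * w⁻¹) * w⁻¹⁻¹ := by group
        _ = z := by rw [e, zY _ (inv_mem h1)]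
    · exact absurd (memR w h1 (mul_inv_eq_iff_eq_mul.1 e)) h3
    · rw [e, hzd]
  have nE : ∀ w ∈ Y, w ∈ NN(R) → w ∉ R → w * u * w⁻¹ ∉ E := fun w h1 h2 h3 e => by
    have a1 : cj w Z4 ≤ E := by
      rw [hZ4, cj_sup, cj_zpowers, cj_zpowers, zY w h1, sw w h1 h2 h3]
      exact sup_le (Subgroup.zpowers_le.2 hz) (Subgroup.zpowers_le.2 (mul_mem hdE hz))
    refine h3 (h.memO h1 (mem_NN_of_conj_mem fun a ha => ?_))
    by_cases ha4 : a ∈ Z4
    · exact a1 (conj_mem_cj ha4)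
    have := mul_mem (a1 (conj_mem_cj ((H6.mul_mem_iff_of_relIndex_two hi4 ha huE).2
      (iff_of_false ha4 hu4)))) (inv_mem e)
    convert this using 1
    group
  obtain ⟨v, hv⟩ : ∃ v, v = s * u * s⁻¹ := ⟨_, rfl⟩
  have hvR : v ∈ R := hv ▸ conj_mem_of_mem_NN hs2 (h.OR huE)
  have hvE : v ∉ E := hv ▸ nE s hs1 hs2 hs3
  have uu := ee u huE
  have vv : v * v = 1 := by
    calc _ = s * (u * u) * s⁻¹ := by rw [hv]; group
      _ = 1 := by rw [uu]; group
  obtain ⟨c, hc⟩ : ∃ c, c = u * v := ⟨_, rfl⟩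
  have e1 : v * u * v⁻¹ = u * (c * c) := by
    rw [hc, inv_self vv, ← mul_assoc, ← mul_assoc, ← mul_assoc, uu, one_mul]
  have e2 : v * u = c⁻¹ := by rw [hc, mul_inv_rev, inv_self uu, inv_self vv]
  have hcE : c * c ∈ E := (E.mul_mem_cancel_left huE).1
    (e1 ▸ conj_mem_of_mem_NN (le_NN_pCoreOf L (h.le hvR)) huE)
  have c4' := ee _ hcE
  have c1 : c * c ≠ 1 := fun e => hvE (cE u huE hu4 v hvR (by
    rw [e, mul_one] at e1; exact (mul_inv_eq_iff_eq_mul.1 e1).symm))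
  have evc : v = u * c := by rw [hc, ← mul_assoc, uu, one_mul]
  have hc4 : c * c ∈ Z4 := by_contra fun e => hvE (cE _ hcE e v hvR (by
    calc c * c * v = c * c * u * c := by rw [evc, mul_assoc (c * c)]
      _ = u * c * (c * c) := by rw [ec _ hcE u huE]; group
      _ = _ := by rw [← evc]))
  have hsd := sw s hs1 hs2 hs3
  have ru : ∀ r ∈ R, r * u * r⁻¹ = u ∨ r * u * r⁻¹ = u * (c * c) := fun r hr => by
    by_cases e : r ∈ E
    · left; rw [ec r e u huE, mul_inv_cancel_right]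
    right
    have a1 := (H6.mul_mem_iff_of_relIndex_two hi hr (inv_mem hvR)).2
      (iff_of_false e (mt inv_mem_iff.1 hvE))
    calc r * u * r⁻¹ = r * v⁻¹ * (v * u * v⁻¹) * (r * v⁻¹)⁻¹ := by group
      _ = _ := by rw [e1, ec _ a1 _ (mul_mem huE hcE), mul_inv_cancel_right]
  have hss : s * s ∈ R := by
    refine memR _ (mul_mem hs1 hs1) (mul_inv_eq_iff_eq_mul.1 ?_)
    calc _ = s * (s * d * s⁻¹) * s⁻¹ := by group
      _ = s * (d * z) * s⁻¹ := by rw [hsd]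
      _ = s * d * s⁻¹ * (s * z * s⁻¹) := by group
      _ = d := by rw [hsd, zY s hs1, mul_assoc, zz, mul_one]
  have sc2 : s * (c * c) * s⁻¹ = c * c := by
    have a1 : s * c * s⁻¹ = v * (s * s * u * (s * s)⁻¹) := by rw [hc, hv]; group
    have a2 : s * (c * c) * s⁻¹ = s * c * s⁻¹ * (s * c * s⁻¹) := by group
    rw [a2, a1]
    rcases ru _ hss with e | e <;> rw [e]
    · rw [e2, ← mul_inv_rev, inv_self c4']
    · rw [← mul_assoc v, e2]; group
  have cz : c * c = z := by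
    rcases m4 _ hc4 with e | e | e | e
    · exact absurd e c1
    · exact e
    · rw [e, hsd] at sc2; exact absurd (by simpa using sc2) h.hy.z1
    · exfalso
      have a1 : s * (z * d) * s⁻¹ = s * z * s⁻¹ * (s * d * s⁻¹) := by group
      rw [e, a1, hsd, zY s hs1, mul_right_inj] at sc2
      exact h.hy.z1 (by simpa using sc2)
  have hcc := Subgroup.mem_zpowers c
  have hcR : c ∈ R := hc ▸ mul_mem (h.OR huE) hvR
  have zc : z ∈ Subgroup.zpowers c := cz ▸ mul_mem hcc hcc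
  have g4 : ∀ r ∈ Z4, ∃ a ∈ Subgroup.zpowers c, r = a ∨ r = a * d := fun r hr => by
    rcases m4 r hr with e | e | e | e
    · exact ⟨1, one_mem _, Or.inl e⟩
    · exact ⟨z, zc, Or.inl e⟩
    · exact ⟨1, one_mem _, Or.inr (by rw [e, one_mul])⟩
    · exact ⟨z, zc, Or.inr e⟩
  have gE : ∀ r ∈ E, ∃ a ∈ Subgroup.zpowers c,
      r = a ∨ r = a * d ∨ r = a * u ∨ r = a * d * u := fun r hr => by
    by_cases e : r ∈ Z4
    · obtain ⟨a, ha, e | e⟩ := g4 r e
      exacts [⟨a, ha, Or.inl e⟩, ⟨a, ha, Or.inr (Or.inl e)⟩]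
    obtain ⟨a, ha, e | e⟩ := g4 _ ((H6.mul_mem_iff_of_relIndex_two hi4 hr huE).2
      (iff_of_false e hu4))
    · exact ⟨a, ha, Or.inr (Or.inr (Or.inl (by rw [← e, mul_assoc, uu, mul_one])))⟩
    · exact ⟨a, ha, Or.inr (Or.inr (Or.inr (by rw [← e, mul_assoc, uu, mul_one])))⟩
  have hv' : v = c⁻¹ * u := by rw [← e2, mul_assoc, uu, mul_one]
  refine UU.res (t := d) (x := x) (s := s) (u := u) (c := c) ⟨h.hy, h.lt.le, od, h.OR hdE, hsyl, sw,
    cd x hx, hu, h.OR huE, hs1, hs2, hs3, hv ▸ hc, fun r hr => ?_, ⟨z, zc, Or.inl rfl⟩, c1,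
    fun w a b c e => nE w a b c (e.symm ▸ huE)⟩
  by_cases e : r ∈ E
  · exact gE r e
  obtain ⟨a, ha, e⟩ := gE _ ((H6.mul_mem_iff_of_relIndex_two hi hr hvR).2 (iff_of_false e hvE))
  have er : r = r * v * v := by rw [mul_assoc, vv, mul_one]
  rw [er]
  rcases e with e | e | e | e <;> rw [e]
  · exact ⟨a * c⁻¹, mul_mem ha (inv_mem hcc), Or.inr (Or.inr (Or.inl (by rw [hv']; group)))⟩
  · refine ⟨a * c⁻¹, mul_mem ha (inv_mem hcc), Or.inr (Or.inr (Or.inr ?_))⟩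
    rw [hv', mul_assoc a c⁻¹ d, cd _ (h.le (inv_mem hcR))]; group
  · exact ⟨a * c, mul_mem ha hcc, Or.inl (by rw [hc, mul_assoc])⟩
  · refine ⟨a * c, mul_mem ha hcc, Or.inr (Or.inl ?_)⟩
    rw [mul_assoc a c d, cd _ (h.le hcR), hc]; group

theorem caseI (hR : Nat.card R ≤ 64) :
    CA Y z ∨ (¬ Y ≤ resOf 2 ⊤ ∧ Len 7 (⊤ : Subgroup G)) := by
  obtain ⟨hi, he, h8 | ⟨h16, D, h1, h2, h3⟩⟩ := h.struct hz hR
  · obtain ⟨x, hx, ho, hx1⟩ := h.exists_odd
    have a1 := card_mul_relIndex h.OR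
    have h4 : Nat.card (pCoreOf 2 L) = 4 := by rw [hi] at a1; omega
    exact Or.inl ⟨x, ho, h.sc hz h4 hx ho hx1, h.sc hz h4 (inv_mem hx) (by rwa [orderOf_inv])
      (inv_ne_one.2 hx1)⟩
  obtain ⟨a1, a2⟩ := h.caseb hz hi he h16 h1 h2 h3
  have hn : ∀ X : Subgroup G, X ≤ NN(resOf 2 ⊤) := fun X => le_top.trans (le_NN_resOf ⊤)
  refine Or.inr ⟨fun e => h.lt.not_ge ((le_inf le_rfl e).trans a2), ?_⟩
  have b1 : L ≤ R ⊔ resOf 2 ⊤ :=
    h.syl.le_of_resOf_le ((resOf_mono le_top).trans le_sup_right) le_sup_left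
  have b2 : R ⊔ resOf 2 ⊤ < ⊤ := lt_top_iff_ne_top.2 fun e => by
    have := dedekind_left (B := resOf 2 ⊤) h.lt.le (hn R)
    rw [e, top_inf_eq, inf_comm, sup_eq_left.2 a2] at this
    exact h.lt.ne this.symm
  have b3 : L < R ⊔ resOf 2 ⊤ := lt_of_le_of_ne b1 fun e =>
    h.nnpN (le_NN_pCoreOf L) (h.hy.ov _ h.ne (isPGroup_pCoreOf L)
      (le_NN_pCoreOf' (e ▸ le_NN_sup a1 (hn Y))))
  exact (((len_pgroup 4 h.two h16.ge).succ h.ltL).succ b3).succ b2

end Loc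

end H5Ch
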