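import Cfsg.Agent.H5.Ch4

/-! Groups with short chains of subgroups, V: the case `z ∉ O₂(L)`. -/

set_option autoImplicit false
set_option linter.unusedSectionVars false

namespace H5Ch

open Cfsg H10

universe u

variable {G : Type u} [Group G] [Finite G]

theorem sq_cent {B P : Subgroup G} (hB : IsPGroup 2 B) (h4 : Nat.card B = 4) (hP : IsPGroup 2 P)
    (hn : P ≤ NN(B)) {p : G} (hp : p ∈ P) : p * p ∈ CC(B) := by
  have h2 : CC(B).relIndex P ∣ 2 := by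
    by_cases e : ∀ a ∈ B, a ^ 2 = 1
    · exact four_pgroup_relIndex ⟨comm_of_card_le_four hB h4.le, e⟩ h4 hP hn
    push Not at e
    obtain ⟨a, ha, ha2⟩ := e
    have h1 : orderOf (⟨a, ha⟩ : B) ∣ 2 ^ 2 := by
      have := orderOf_dvd_natCard (⟨a, ha⟩ : B); rwa [h4] at this
    obtain ⟨k, hk, hk'⟩ := (Nat.dvd_prime_pow Nat.prime_two).1 h1
    have hk2 : k = 2 := by
      by_contra hne
      refine ha2 (orderOf_dvd_iff_pow_eq_one.1 ?_)
      rw [← Subgroup.orderOf_mk a ha, hk']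
      exact (pow_dvd_pow 2 (by omega : k ≤ 1)).trans (by norm_num)
    have : IsCyclic B := isCyclic_of_orderOf_eq_card (⟨a, ha⟩ : B) (by rw [hk', hk2, h4]; rfl)
    have h3 := relIndex_CC_dvd hn
    rwa [IsCyclic.card_mulAut, h4, show Nat.totient 4 = 2 by decide] at h3
  rcases (Nat.dvd_prime Nat.prime_two).1 h2 with e | e
  · exact Subgroup.relIndex_eq_one.1 e (mul_mem hp hp)
  · exact (H6.mul_mem_iff_of_relIndex_two e hp hp).2 Iff.rfl

theorem gen_or_sq {c a : G} {m : ℕ} (hm : orderOf c = 2 ^ m) (ha : a ∈ Subgroup.zpowers c) :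
    c ∈ Subgroup.zpowers a ∨ ∃ f ∈ Subgroup.zpowers c, f * f = a := by
  obtain ⟨i, hi⟩ := Subgroup.mem_zpowers_iff.1 ha
  rcases Int.even_or_odd' i with ⟨k, e | e⟩
  · exact Or.inr ⟨c ^ k, Subgroup.zpow_mem_zpowers c k, by rw [← hi, ← zpow_add, e, two_mul]⟩
  left
  rw [← hi, mem_zpowers_zpow_iff, hm, e]
  push_cast
  rw [← Int.isCoprime_iff_gcd_eq_one]
  exact IsCoprime.pow_right ⟨1, -k, by ring⟩

/-- the structure of `R/A` -/
structure Lf (R A : Subgroup G) (z x c : G) : Prop where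
  xA : x ∈ CC(A)
  cR : c ∈ R
  idx : (Subgroup.zpowers c ⊔ A).relIndex R = 2
  zC : z ∈ Subgroup.zpowers c ⊔ A
  c4 : c * c * (c * c) ∉ A
  cent : ∀ w ∈ R, w ∉ Subgroup.zpowers c ⊔ A → ∀ a ∈ Subgroup.zpowers c ⊔ A, a * w = w * a →
    a ∈ Subgroup.zpowers z ⊔ A
  sq : ∀ a ∈ Subgroup.zpowers c ⊔ A, a * a = 1 → a ∈ Subgroup.zpowers z ⊔ A
  uR : x * z * x⁻¹ ∈ R
  uC : x * z * x⁻¹ ∉ Subgroup.zpowers c ⊔ A
  vR : x⁻¹ * z * x ∈ R
  vC : x⁻¹ * z * x ∉ Subgroup.zpowers c ⊔ A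

namespace Loc

variable {Y : Subgroup G} {z : G} {R L : Subgroup G} (h : Loc Y z R L)
  (hz : z ∉ pCoreOf 2 L)
include h hz

theorem card_bounds : 16 * Nat.card (pCoreOf 2 L) ≤ Nat.card R := by
  rw [← h.card_bar_le]
  exact Nat.mul_le_mul_right _ (h.quot hz).card_ge

theorem ca_quot (hR : Nat.card R ≤ 64) (hl : ¬ Len 8 L) :
    CA (bar L (pCoreOf 2 L) R) (QuotientGroup.mk ⟨z, h.le h.zR⟩) := by
  obtain ⟨R2, L2, h2⟩ := (h.quot hz).exists_loc
  have a1 := h.card_bar_le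
  have a2 := two_le_card h.ne
  have a3 := two_mul_card_le h2.lt
  have a4 : Nat.card R2 ≤ 16 := by nlinarith
  by_cases hz2 : (QuotientGroup.mk ⟨z, h.le h.zR⟩ : L ⧸ (pCoreOf 2 L).subgroupOf L) ∈ pCoreOf 2 L2
  swap
  · have := h2.card_bounds hz2
    have := two_le_card h2.ne
    omega
  refine (h2.caseI hz2 (by omega)).resolve_right fun e => hl ?_
  have := Len.unbar (m := 1) (len_pgroup 1 ((isPGroup_pCoreOf L).to_le inf_le_right)
    (by rwa [inf_eq_right.2 (pCoreOf_le L)])) 7 e.2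
  rwa [unbar_top] at this

theorem lift (hR : Nat.card R ≤ 64) (hl : ¬ Len 8 L) : ∃ x c, Lf R (pCoreOf 2 L) z x c := by
  obtain ⟨x', ho, h1, h2⟩ := h.ca_quot hz hR hl
  obtain ⟨c', hc', a1, a2, a3, a4, a5⟩ := (h.quot hz).mc h1
  have hAL : L ⊓ pCoreOf 2 L = pCoreOf 2 L := inf_eq_right.2 (pCoreOf_le L)
  have hx' : x' ∈ bar L (pCoreOf 2 L) (resOf 2 L) := by
    rw [bar_resOf le_rfl, bar_self]; exact mem_resOf trivial ho
  obtain ⟨⟨x, hxL⟩, hx, rfl⟩ := hx'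
  obtain ⟨⟨c, hcL⟩, hc, rfl⟩ := hc'
  simp only [QuotientGroup.mk'_apply] at *
  have key : ∀ a (ha : a ∈ L) g (hg : g ∈ L), g ∈ Subgroup.zpowers a ⊔ pCoreOf 2 L ↔
      (QuotientGroup.mk ⟨g, hg⟩ : L ⧸ (pCoreOf 2 L).subgroupOf L) ∈
        Subgroup.zpowers (QuotientGroup.mk ⟨a, ha⟩) := fun a ha g hg => by
    rw [← mem_unbar, ← bar_zpowers, unbar_bar (Subgroup.zpowers_le.2 ha), hAL]
  have keyR : ∀ g (hg : g ∈ L), (QuotientGroup.mk ⟨g, hg⟩ : L ⧸ (pCoreOf 2 L).subgroupOf L) ∈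
      bar L (pCoreOf 2 L) R → g ∈ R := fun g hg e => by
    rwa [← mem_unbar, unbar_bar h.le, hAL, sup_eq_left.2 h.OR] at e
  have hzL := h.le h.zR
  have hCL : Subgroup.zpowers c ⊔ pCoreOf 2 L ≤ L := sup_le (Subgroup.zpowers_le.2 hcL) (pCoreOf_le L)
  have hu : x * z * x⁻¹ ∈ L := mul_mem (mul_mem hxL hzL) (inv_mem hxL)
  have hv : x⁻¹ * z * x ∈ L := mul_mem (mul_mem (inv_mem hxL) hzL) hxL
  refine ⟨x, c, h.resC hz hx, hc, ?_, (key c hcL z hzL).2 a2, fun e => ?_, fun w hw hwc a ha e => ?_,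
    fun a ha e => ?_, keyR _ hu h1.1, fun e => a5 _ h1 ((key c hcL _ hu).1 e), keyR _ hv ?_,
    fun e => a5 _ h2 ?_⟩
  · obtain ⟨_, ⟨⟨a, haL⟩, ha, rfl⟩, hb⟩ := Subgroup.relIndex_eq_two_iff.1 a1
    refine Subgroup.relIndex_eq_two_iff.2 ⟨a, ha, fun b hb' => ?_⟩
    rw [key c hcL _ (mul_mem (h.le hb') haL), key c hcL _ (h.le hb')]
    exact hb _ (mem_bar _ hb')
  · have : (QuotientGroup.mk ⟨c, hcL⟩ : L ⧸ (pCoreOf 2 L).subgroupOf L) ^ 4 = 1 := by
      rw [← QuotientGroup.mk_pow, QuotientGroup.eq_one_iff]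
      have e4 : c ^ 4 = c * c * (c * c) := by
        rw [show 4 = 2 + 2 from rfl, pow_add, pow_two]
      change c ^ 4 ∈ pCoreOf 2 L
      rwa [e4]
    have := Nat.le_of_dvd (by norm_num) (orderOf_dvd_of_pow_eq_one this)
    omega
  · rw [key z hzL a (hCL ha)]
    refine a4 _ (mem_bar (h.le hw) hw) (mt (key c hcL w (h.le hw)).2 hwc) _
      ((key c hcL a (hCL ha)).1 ha) ?_
    rw [← QuotientGroup.mk_mul, ← QuotientGroup.mk_mul]
    congr 1; exact Subtype.ext e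
  · rw [key z hzL a (hCL ha)]
    have e' : (QuotientGroup.mk ⟨a, hCL ha⟩ : L ⧸ (pCoreOf 2 L).subgroupOf L) *
        QuotientGroup.mk ⟨a, hCL ha⟩ = 1 := by
      rw [← QuotientGroup.mk_mul, ← QuotientGroup.mk_one]
      congr 1; exact Subtype.ext e
    by_cases e1 : (QuotientGroup.mk ⟨a, hCL ha⟩ : L ⧸ (pCoreOf 2 L).subgroupOf L) = 1
    · rw [e1]; exact one_mem _
    · rw [H6.ord2_unique_zpowers ((key c hcL a (hCL ha)).1 ha) a2 (ord2 e' e1) (h.quot hz).oz]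
      exact Subgroup.mem_zpowers _
  · have := h2.1
    rw [inv_inv] at this
    exact this
  · rw [inv_inv]
    exact (key c hcL _ hv).1 e

theorem zA : z ∈ CC(pCoreOf 2 L) := mem_CC.2 fun a ha => h.hy.zc a (h.lt.le (h.OR ha))

theorem mem_zA {a : G} (ha : a ∈ Subgroup.zpowers z ⊔ pCoreOf 2 L) :
    a ∈ pCoreOf 2 L ∨ z * a ∈ pCoreOf 2 L := by
  obtain ⟨b, hb, e, he, rfl⟩ := (mem_sup_of_NN (Subgroup.zpowers_le.2
    (CC_le_NN _ (h.zA hz)))).1 ha
  rcases mem_zp2 h.hy.z2 hb with rfl | rfl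
  · left; rwa [one_mul]
  · right; rwa [← mul_assoc, h.hy.z2, one_mul]

theorem sq_zA {a : G} (ha : a ∈ Subgroup.zpowers z ⊔ pCoreOf 2 L) : a * a ∈ pCoreOf 2 L := by
  rcases h.mem_zA hz ha with e | e
  · exact mul_mem e e
  · have h1 : a ∈ Y := h.lt.le ((sup_le (Subgroup.zpowers_le.2 h.zR) h.OR) ha)
    have := mul_mem e e
    rwa [mul_assoc, ← mul_assoc a, h.hy.zc a h1, mul_assoc, ← mul_assoc, h.hy.z2, one_mul] at this

theorem card_two (hR : Nat.card R ≤ 64) {x c : G} (hf : Lf R (pCoreOf 2 L) z x c) :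
    Nat.card (pCoreOf 2 L) = 2 := by
  have a1 := h.card_bounds hz
  have a2 := two_le_card h.ne
  by_contra hne
  have h4 : Nat.card (pCoreOf 2 L) = 4 := by
    obtain ⟨k, hk⟩ := IsPGroup.iff_card.1 (isPGroup_pCoreOf (p := 2) L)
    have : k ≤ 2 := (Nat.pow_le_pow_iff_right (a := 2) (by norm_num)).1 (by omega)
    interval_cases k <;> omega
  obtain ⟨s, hs1, hs2, hs3, hs4⟩ := h.exists_s2
  set A := pCoreOf 2 L with hA
  have hRA : R ≤ NN(A) := h.le.trans (le_NN_pCoreOf L)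
  have eB : cj s (cj s A) = A := by rw [← cj_mul, ← pow_two, cj_eq_of_mem_NN (hRA hs4)]
  have hBR : cj s A ≤ R := cj_le_of_mem_NN hs2 h.OR
  have hRB : R ≤ NN(cj s A) := by
    rw [← cj_normalizer, ← cj_eq_of_mem_NN hs2]; exact cj_mono s hRA
  have h0 : A ⊓ cj s A = ⊥ := h.inv hs1 hs3 (inf_le_left.trans h.OR)
    (h.syl.le_of_resOf_le (((h.resC hz).trans (CC_anti inf_le_left)).trans (CC_le_NN _))
      (le_NN_inf hRA hRB)) (mem_NN.2 (by rw [cj_inf, eB, inf_comm]))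
  have hB2 : IsPGroup 2 (cj s A) := h.two.to_le hBR
  have b1 : cj s A ≤ Subgroup.zpowers c ⊔ A := fun b hb => by_contra fun e => by
    have h1 := sq_cent hB2 (by rw [card_cj, h4]) h.two hRB hf.cR
    have h2 := Subgroup.mem_sup_left (T := A) (Subgroup.mem_zpowers c)
    exact hf.c4 (h.sq_zA hz (hf.cent b (hBR hb) e _ (mul_mem h2 h2) (mem_CC.1 h1 b hb).symm))
  have b2 : ¬ cj s A ≤ Subgroup.zpowers z ⊔ A := fun e => by
    have h1 := card_sup_mul_card_inf (L := A) (N := cj s A) (h.OR.trans hRB)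
    have h2 := card_sup_mul_card_inf (L := Subgroup.zpowers z) (N := A)
      (Subgroup.zpowers_le.2 (CC_le_NN _ (h.zA hz)))
    have h3 := Subgroup.card_le_of_le (sup_le le_sup_right e)
    rw [h0, Subgroup.card_bot, card_cj, h4] at h1
    rw [Nat.card_zpowers, h.hy.oz, h4] at h2
    have h5 : 0 < Nat.card (Subgroup.zpowers z ⊓ A : Subgroup G) := Nat.card_pos
    nlinarith
  obtain ⟨u, hu⟩ : ∃ u, u = x * z * x⁻¹ := ⟨_, rfl⟩
  have huC : u ∉ Subgroup.zpowers c ⊔ A := hu ▸ hf.uC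
  have huA : u ∈ CC(A) := hu ▸ mul_mem (mul_mem hf.xA (h.zA hz)) (inv_mem hf.xA)
  have uu : u * u = 1 := by
    calc _ = x * (z * z) * x⁻¹ := by rw [hu]; group
      _ = 1 := by rw [h.hy.z2]; group
  have b3 : s * u * s⁻¹ ∈ Subgroup.zpowers c ⊔ A := by_contra fun e => b2 fun b hb =>
    hf.cent _ (conj_mem_of_mem_NN hs2 (hu ▸ hf.uR)) e b (b1 hb)
      (mem_CC.1 (cj_centralizer s A ▸ conj_mem_cj huA) b hb)
  have conj2 : ∀ a : G, a * a = 1 → s * a * s⁻¹ * (s * a * s⁻¹) = 1 := fun a e => by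
    calc _ = s * (a * a) * s⁻¹ := by group
      _ = 1 := by rw [e]; group
  obtain ⟨a, ha, oa⟩ := exists_orderOf_eq_of_ne_bot (isPGroup_pCoreOf (p := 2) L) h.ne
  have aa : a * a = 1 := by rw [← pow_two, ← oa, pow_orderOf_eq_one]
  have b4 : z * (s * u * s⁻¹) ∈ A := (h.mem_zA hz (hf.sq _ b3 (conj2 u uu))).resolve_left fun e =>
    huC (b1 (conj_mem_cj_iff.1 (eB.ge e)))
  have b5 : z * (s * a * s⁻¹) ∈ A := (h.mem_zA hz (hf.sq _ (b1 (conj_mem_cj ha))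
    (conj2 a aa))).resolve_left fun e => ne_one_of_orderOf_eq oa (by
      simpa using h0.le ⟨e, conj_mem_cj ha⟩)
  have b6 : s * (a⁻¹ * u) * s⁻¹ ∈ A := by
    convert mul_mem (inv_mem b5) b4 using 1; group
  rw [← eB, conj_mem_cj_iff] at b6
  exact huC ((Subgroup.mul_mem_cancel_left _ (inv_mem (Subgroup.mem_sup_right ha))).1 (b1 b6))

theorem caseIII (hY : Nat.card Y ≤ 128) (hl : ¬ Len 8 L) : ¬ Y ≤ resOf 2 ⊤ := by
  have hR : Nat.card R ≤ 64 := by have := two_mul_card_le h.lt; omega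
  obtain ⟨x, c, hf⟩ := h.lift hz hR hl
  have h2 := h.card_two hz hR hf
  obtain ⟨t, htA, ot⟩ := exists_orderOf_eq_of_dvd (p := 2) (L := pCoreOf 2 L) (by rw [h2])
  have eA : Subgroup.zpowers t = pCoreOf 2 L := Subgroup.eq_of_le_of_card_ge
    (Subgroup.zpowers_le.2 htA) (by rw [Nat.card_zpowers, h2, ot])
  have hLt : ∀ g ∈ L, g * t = t * g := fun g hg =>
    (mem_CC.1 (le_CC_of_card_two h2 (le_NN_pCoreOf L) hg) t htA).symm
  obtain ⟨s, hs1, hs2, hs3⟩ := h.exists_s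
  have tt : t * t = 1 := by rw [← pow_two, ← ot, pow_orderOf_eq_one]
  have zz := h.hy.z2
  have zY : ∀ w ∈ Y, w * z * w⁻¹ = z := fun w hw => by rw [h.hy.zc w hw, mul_inv_cancel_right]
  have htR := h.OR htA
  have hCt : Subgroup.centralizer {t} ≤ NN(pCoreOf 2 L) := by
    rw [← eA, ← CC_zpowers]; exact CC_le_NN _
  have hsyl : IsSylowIn 2 R (Subgroup.centralizer {t}) :=
    (h.sylN h.ne (isPGroup_pCoreOf L) (h.nnpN (le_NN_pCoreOf L))
      (h.le.trans (le_NN_pCoreOf L))).of_le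
      (fun g hg => Subgroup.mem_centralizer_singleton_iff.2 (hLt g (h.le hg))) hCt
  have memR : ∀ w ∈ Y, w * t = t * w → w ∈ R := fun w hw e =>
    h.memO hw (hCt (Subgroup.mem_centralizer_singleton_iff.2 e))
  have hzt : z * t = t * z := hLt z (h.le h.zR)
  have xt : x * t = t * x := (mem_CC.1 hf.xA t htA).symm
  have m4 : ∀ g ∈ Subgroup.zpowers z ⊔ pCoreOf 2 L, g = 1 ∨ g = z ∨ g = t ∨ g = z * t :=
    fun g hg => mem_four zz tt hzt (eA ▸ hg)
  have mC : ∀ b ∈ R, ∀ g ∈ Subgroup.zpowers b ⊔ pCoreOf 2 L,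
      ∃ a ∈ Subgroup.zpowers b, g = a ∨ g = a * t := fun b hb g hg => by
    obtain ⟨a, ha, e, he, rfl⟩ := (mem_sup_of_NN (Subgroup.zpowers_le.2
      (le_NN_pCoreOf L (h.le hb)))).1 hg
    rcases mem_zp2 tt (eA.ge he) with rfl | rfl
    exacts [⟨a, ha, Or.inl (mul_one a)⟩, ⟨a, ha, Or.inr rfl⟩]
  set C := Subgroup.zpowers c ⊔ pCoreOf 2 L with hC
  have hCR : C ≤ R := sup_le (Subgroup.zpowers_le.2 hf.cR) h.OR
  have cC : c ∈ C := Subgroup.mem_sup_left (Subgroup.mem_zpowers c)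
  have tC : t ∈ C := Subgroup.mem_sup_right htA
  have ab : ∀ a ∈ C, ∀ b ∈ C, a * b = b * a := by
    have h1 : C ≤ CC(Subgroup.zpowers c) := sup_le
      (fun a ha => mem_CC.2 fun b hb => comm_zpowers hb ha)
      (le_CC_symm (fun a ha => by
        rw [← eA, CC_zpowers]
        exact Subgroup.mem_centralizer_singleton_iff.2
          (hLt a (h.le (Subgroup.zpowers_le.2 hf.cR ha)))))
    have h3 : C ≤ CC(pCoreOf 2 L) := fun a ha => by
      rw [← eA, CC_zpowers]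
      exact Subgroup.mem_centralizer_singleton_iff.2 (hLt a (h.le (hCR ha)))
    have h4 : C ≤ CC(C) := by rw [hC, CC_sup]; exact le_inf h1 h3
    exact fun a ha b hb => mem_CC.1 (h4 hb) a ha
  have nc2 : c * c ∉ Subgroup.zpowers z ⊔ pCoreOf 2 L := fun e => hf.c4 (h.sq_zA hz e)
  have ntz : ∀ g, g * t * g⁻¹ ≠ z := fun g e => h.not_two (by
    refine (isPGroup_cj g⁻¹ h.hy.syl.isPGroup).to_le fun a ha => mem_cj.2 (h.hy.cz _ ?_)
    calc _ = g * (a * t) * g⁻¹ := by rw [← e]; group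
      _ = g * (t * a) * g⁻¹ := by rw [hLt a ha]
      _ = _ := by rw [← e]; group)
  have sw : ∀ w ∈ Y, w ∈ NN(R) → w ∉ R → w * t * w⁻¹ = t * z := fun w h1 h2 h3 => by
    have a1 : w * t * w⁻¹ ∈ R := conj_mem_of_mem_NN h2 htR
    have a2 : ∀ r ∈ R, r * (w * t * w⁻¹) = w * t * w⁻¹ * r := fun r hr => by
      calc _ = w * (w⁻¹ * r * w * t) * w⁻¹ := by group
        _ = w * (t * (w⁻¹ * r * w)) * w⁻¹ := by rw [hLt _ (h.le (conj_mem_of_mem_NN' h2 hr))]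
        _ = _ := by group
    have a3 : w * t * w⁻¹ ∈ C := by_contra fun e =>
      nc2 (hf.cent _ a1 e _ (mul_mem cC cC) (a2 _ (mul_mem hf.cR hf.cR)))
    rcases m4 _ (hf.sq _ a3 (by
      calc _ = w * (t * t) * w⁻¹ := by group
        _ = 1 := by rw [tt]; group)) with e | e | e | e
    · exact absurd (by simpa using e) (ne_one_of_orderOf_eq ot)
    · exact absurd e (ntz w)
    · exact absurd (memR w h1 (mul_inv_eq_iff_eq_mul.1 e)) h3
    · rw [e, hzt]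
  have RN : R ≤ Y ⊓ NN(R) := le_inf h.lt.le (le_NN_self R)
  have idx : R.relIndex (Y ⊓ NN(R)) = 2 := by
    refine Subgroup.relIndex_eq_two_iff.2 ⟨s, ⟨hs1, hs2⟩, fun b hb => ?_⟩
    by_cases e : b ∈ R
    · exact Or.inr ⟨e, fun e' => hs3 ((R.mul_mem_cancel_left e).1 e')⟩
    refine Or.inl ⟨memR _ (mul_mem hb.1 hs1) (mul_inv_eq_iff_eq_mul.1 ?_), e⟩
    calc _ = b * (s * t * s⁻¹) * b⁻¹ := by group
      _ = b * (t * z) * b⁻¹ := by rw [sw s hs1 hs2 hs3]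
      _ = b * t * b⁻¹ * (b * z * b⁻¹) := by group
      _ = t := by rw [sw b hb.1 hb.2 e, zY b hb.1, mul_assoc, zz, mul_one]
  have hYN : Y ≤ NN(Y ⊓ NN(R)) := by
    have a1 := h.card_bounds hz
    have a2 := card_mul_relIndex RN
    have a3 := card_mul_relIndex (inf_le_left : Y ⊓ NN(R) ≤ Y)
    rw [idx] at a2
    rw [h2] at a1
    have a4 : (Y ⊓ NN(R)).relIndex Y ≤ 2 := by nlinarith
    have a5 : (Y ⊓ NN(R)).relIndex Y ≠ 0 := fun e => by
      rw [e, mul_zero] at a3; exact Nat.card_pos.ne a3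
    by_cases e : (Y ⊓ NN(R)).relIndex Y = 1
    · exact (Subgroup.relIndex_eq_one.1 e).trans (le_NN_self _)
    · exact le_NN_of_relIndex_two (by omega) inf_le_left
  obtain ⟨u, hu⟩ : ∃ u, u = x * z * x⁻¹ := ⟨_, rfl⟩
  have huC : u ∉ C := hu ▸ hf.uC
  have huR : u ∈ R := hu ▸ hf.uR
  have uu : u * u = 1 := by
    calc _ = x * (z * z) * x⁻¹ := by rw [hu]; group
      _ = 1 := by rw [zz]; group
  have nf : ∀ w ∈ Y, w ∈ NN(R) → w ∉ R → w * u * w⁻¹ ≠ u := fun w h1 h2 h3 e => by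
    have a1 : x⁻¹ * w * x ∈ Y := h.hy.cz _ (by
      calc _ = x⁻¹ * (w * u * w⁻¹) * w * x := by rw [hu]; group
        _ = _ := by rw [e, hu]; group)
    have a2 : x⁻¹ * w * x * t * (x⁻¹ * w * x)⁻¹ = t * (x⁻¹ * z * x) := by
      calc _ = x⁻¹ * w * (x * t) * x⁻¹ * w⁻¹ * x := by group
        _ = x⁻¹ * (w * t * w⁻¹) * x := by rw [xt]; group
        _ = x⁻¹ * (t * x) * (x⁻¹ * z * x) := by rw [sw w h1 h2 h3]; group
        _ = _ := by rw [← xt]; group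
    generalize x⁻¹ * w * x = g at a1 a2
    have a3 : (cj g R).relIndex (Y ⊓ NN(R)) = 2 := by
      rw [← idx]
      conv_lhs => rw [← cj_eq_of_mem_NN (hYN a1)]
      exact relIndex_cj g _ _
    have a4 := mem_cj.1 ((H6.mul_mem_iff_of_relIndex_two a3 (RN hf.cR) (RN hf.cR)).2 Iff.rfl)
    refine nc2 (hf.cent _ (mul_mem htR hf.vR) (fun e => hf.vC ((C.mul_mem_cancel_left tC).1 e))
      _ (mul_mem cC cC) ?_)
    rw [← a2]
    calc _ = g * (g⁻¹ * (c * c) * g * t) * g⁻¹ := by group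
      _ = g * (t * (g⁻¹ * (c * c) * g)) * g⁻¹ := by rw [hLt _ (h.le a4)]
      _ = _ := by group
  obtain ⟨v, hv⟩ : ∃ v, v = s * u * s⁻¹ := ⟨_, rfl⟩
  have hvR : v ∈ R := hv ▸ conj_mem_of_mem_NN hs2 huR
  have vv : v * v = 1 := by
    calc _ = s * (u * u) * s⁻¹ := by rw [hv]; group
      _ = 1 := by rw [uu]; group
  have hst := sw s⁻¹ (inv_mem hs1) (inv_mem hs2) (mt inv_mem_iff.1 hs3)
  have hvC : v ∉ C := fun e => huC (by
    have a1 : u = s⁻¹ * v * s⁻¹⁻¹ := by rw [hv]; group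
    rw [a1]
    rcases m4 _ (hf.sq _ e vv) with e | e | e | e <;> rw [e]
    · simp
    · rw [zY _ (inv_mem hs1)]; exact hf.zC
    · rw [hst]; exact mul_mem tC hf.zC
    · have : s⁻¹ * (z * t) * s⁻¹⁻¹ = s⁻¹ * z * s⁻¹⁻¹ * (s⁻¹ * t * s⁻¹⁻¹) := by group
      rw [this, hst, zY _ (inv_mem hs1)]; exact mul_mem hf.zC (mul_mem tC hf.zC))
  have hRC : R ≤ NN(C) := le_NN_of_relIndex_two hf.idx hCR
  have c4 : ∀ r ∈ R, ∀ y ∈ Subgroup.zpowers z ⊔ pCoreOf 2 L, y * y = 1 ∧ r * y = y * r :=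
    fun r hr y hy => by
      have e1 := h.hy.zc r (h.lt.le hr)
      have e2 := hLt r (h.le hr)
      rcases m4 y hy with rfl | rfl | rfl | rfl
      · simp
      · exact ⟨zz, e1⟩
      · exact ⟨tt, e2⟩
      · exact ⟨by rw [mul_assoc, ← mul_assoc t, ← hzt, mul_assoc, tt, mul_one, zz],
          by rw [← mul_assoc, e1, mul_assoc, e2, mul_assoc]⟩
  -- `u` inverts the elements of `C` modulo `⟨z, t⟩`, and inverts squares
  have inv1 : ∀ a ∈ C, a * (u * a * u⁻¹) ∈ Subgroup.zpowers z ⊔ pCoreOf 2 L := fun a ha => by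
    have a1 : u * a * u⁻¹ ∈ C := conj_mem_of_mem_NN (hRC huR) ha
    refine hf.cent u huR huC _ (mul_mem ha a1) ?_
    calc _ = u * a * u⁻¹ * a * u := by rw [ab a ha _ a1]
      _ = _ := by rw [inv_self uu]; group
  have inv2 : ∀ a ∈ C, a * u * a⁻¹ = a * a * u * (a * (u * a * u⁻¹)) := fun a ha => by
    obtain ⟨a2, a3⟩ := c4 u huR _ (inv1 a ha)
    calc a * u * a⁻¹ = a * ((a * (u * a * u⁻¹))⁻¹ * a) * u := by group
      _ = a * (a * (a * (u * a * u⁻¹))) * u := by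
          rw [inv_self a2, ← (c4 a (hCR ha) _ (inv1 a ha)).2]
      _ = a * a * (a * (u * a * u⁻¹) * u) := by group
      _ = _ := by rw [← a3, ← mul_assoc]
  obtain ⟨m, hm⟩ := orderOf_eq_pow_of_mem h.two hf.cR
  obtain ⟨m2, hm2⟩ := orderOf_eq_pow_of_mem h.two (mul_mem hf.cR hf.cR)
  have hzc := Subgroup.zpowers_le.2 cC
  have hf0 : ∃ f ∈ R, f * u * f⁻¹ = u * z ∨ f * u * f⁻¹ = u * (z * t) := by
    obtain ⟨a, ha, e⟩ := mC c hf.cR z hf.zC
    have a1 : a = z ∨ a = z * t := e.imp Eq.symm fun e => by rw [e, mul_assoc, tt, mul_one]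
    have a2 : a ∈ Subgroup.zpowers z ⊔ pCoreOf 2 L := by
      have b1 : z ∈ Subgroup.zpowers z ⊔ pCoreOf 2 L :=
        Subgroup.mem_sup_left (Subgroup.mem_zpowers z)
      rcases a1 with e | e <;> rw [e]
      exacts [b1, mul_mem b1 (Subgroup.mem_sup_right htA)]
    have a3 := Subgroup.zpowers_le.2 a2
    obtain ⟨f, hf1, hf2⟩ := (gen_or_sq hm ha).resolve_left fun e => nc2 (a3 (mul_mem e e))
    obtain ⟨g, hg1, hg2⟩ := (gen_or_sq hm hf1).resolve_left fun e => nc2 (by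
      obtain ⟨i, rfl⟩ := Subgroup.mem_zpowers_iff.1 e
      rw [← (Commute.refl f).mul_zpow, hf2]; exact zpow_mem a2 i)
    have a4 : f * (u * f * u⁻¹) = 1 := by
      have b1 : u * g * u⁻¹ ∈ C := conj_mem_of_mem_NN (hRC huR) (hzc hg1)
      calc _ = g * (g * (u * g * u⁻¹)) * (u * g * u⁻¹) := by rw [← hg2]; group
        _ = g * (u * g * u⁻¹ * g) * (u * g * u⁻¹) := by rw [ab g (hzc hg1) _ b1]
        _ = g * (u * g * u⁻¹) * (g * (u * g * u⁻¹)) := by group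
        _ = 1 := (c4 u huR _ (inv1 g (hzc hg1))).1
    refine ⟨f, hCR (hzc hf1), ?_⟩
    rw [inv2 f (hzc hf1), a4, mul_one, hf2, ← (c4 u huR _ a2).2]
    exact a1.imp (fun e => by rw [e]) fun e => by rw [e]
  have hS : ∀ y ∈ Subgroup.zpowers z ⊔ pCoreOf 2 L,
      ∃ r ∈ R, u * y = r * u * r⁻¹ ∨ u * y = r * (u * t) * r⁻¹ := fun y hy => by
    obtain ⟨f, hfR, e⟩ := hf0
    have a1 : f * (u * t) * f⁻¹ = f * u * f⁻¹ * t := by
      calc _ = f * u * (t * f⁻¹) := by group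
        _ = _ := by rw [← hLt _ (h.le (inv_mem hfR))]; group
    rcases m4 y hy with rfl | rfl | rfl | rfl
    · exact ⟨1, one_mem _, Or.inl (by group)⟩
    · exact ⟨f, hfR, e.imp Eq.symm fun e => by rw [a1, e, mul_assoc, mul_assoc, tt, mul_one]⟩
    · exact ⟨1, one_mem _, Or.inr (by group)⟩
    · exact ⟨f, hfR, (e.imp (fun e => by rw [a1, e, mul_assoc]) Eq.symm).symm⟩
  have nS : ∀ a ∈ C, ∀ y ∈ Subgroup.zpowers z ⊔ pCoreOf 2 L, u * v ≠ a * a * y :=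
    fun a ha y hy e => by
      have a1 := inv1 a ha
      obtain ⟨r, hr, e1⟩ := hS _ (mul_mem a1 hy)
      have a3 : v = a⁻¹ * (u * (a * (u * a * u⁻¹) * y)) * a := by
        calc v = u * (a * a * y) := by rw [← e, ← mul_assoc, uu, one_mul]
          _ = u * a * (a * y) := by group
          _ = a⁻¹ * (a * (u * a * u⁻¹) * u * y) * a := by rw [(c4 a (hCR ha) _ hy).2]; group
          _ = _ := by rw [← (c4 u huR _ a1).2, mul_assoc u]
      have a4 : a⁻¹ * r ∈ R := mul_mem (inv_mem (hCR ha)) hr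
      rcases e1 with e1 | e1
      · refine nf ((a⁻¹ * r)⁻¹ * s) (mul_mem (inv_mem (h.lt.le a4)) hs1)
          (mul_mem (inv_mem (le_NN_self R a4)) hs2)
          (fun e => hs3 ((R.mul_mem_cancel_left (inv_mem a4)).1 e)) ?_
        calc _ = (a⁻¹ * r)⁻¹ * v * (a⁻¹ * r) := by rw [hv]; group
          _ = u := by rw [a3, e1]; group
      · refine ntz (x⁻¹ * s⁻¹ * (a⁻¹ * r) * x * s⁻¹) ?_
        calc _ = x⁻¹ * s⁻¹ * (a⁻¹ * r) * x * (s⁻¹ * t * s⁻¹⁻¹) *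
              (x⁻¹ * s⁻¹ * (a⁻¹ * r) * x)⁻¹ := by group
          _ = x⁻¹ * s⁻¹ * (a⁻¹ * r) * (x * z * x⁻¹ * (x * t) * x⁻¹) *
              (x⁻¹ * s⁻¹ * (a⁻¹ * r))⁻¹ := by rw [hst, ← hzt]; group
          _ = x⁻¹ * s⁻¹ * (a⁻¹ * (r * (u * t) * r⁻¹) * a) * s * x := by rw [xt, ← hu]; group
          _ = z := by rw [← e1, ← a3, hv, hu]; group
  have huv : u * v ∈ C := (H6.mul_mem_iff_of_relIndex_two hf.idx huR hvR).2 (iff_of_false huC hvC)
  have hgen : C ≤ Subgroup.zpowers (u * v) ⊔ pCoreOf 2 L := by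
    refine sup_le (Subgroup.zpowers_le.2 ?_) le_sup_right
    obtain ⟨a, ha, e⟩ := mC c hf.cR _ huv
    have a1 : a ∈ Subgroup.zpowers (u * v) ⊔ pCoreOf 2 L := by
      have b1 : u * v ∈ Subgroup.zpowers (u * v) ⊔ pCoreOf 2 L :=
        Subgroup.mem_sup_left (Subgroup.mem_zpowers _)
      rcases e with e | e
      · exact e ▸ b1
      · exact (Subgroup.mul_mem_cancel_right _ (Subgroup.mem_sup_right htA)).1 (e ▸ b1)
    refine Subgroup.zpowers_le.2 a1 ((gen_or_sq hm ha).resolve_right ?_)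
    rintro ⟨f, hf1, rfl⟩
    rcases e with e | e
    · exact nS f (hzc hf1) 1 (one_mem _) (by rw [e, mul_one])
    · exact nS f (hzc hf1) t (Subgroup.mem_sup_right htA) e
  have hcR : u * v ∈ R := mul_mem huR hvR
  have := (UU.res (t := t) (x := x) (s := s) (u := u) (c := u * v) ⟨h.hy, h.lt.le, ot, htR, hsyl, sw,
    xt, hu, huR, hs1, hs2, hs3, by rw [hv], fun r hr => ?_, mC _ hcR z (hgen hf.zC), fun e => ?_,
    nf⟩).2
  · exact fun e => h.lt.not_ge ((le_inf le_rfl e).trans this)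
  · by_cases e : r ∈ C
    · obtain ⟨a, ha, e | e⟩ := mC _ hcR r (hgen e)
      exacts [⟨a, ha, Or.inl e⟩, ⟨a, ha, Or.inr (Or.inl e)⟩]
    obtain ⟨a, ha, e | e⟩ := mC _ hcR _ (hgen
      ((H6.mul_mem_iff_of_relIndex_two hf.idx hr huR).2 (iff_of_false e huC)))
    · exact ⟨a, ha, Or.inr (Or.inr (Or.inl (by rw [← e, mul_assoc, uu, mul_one])))⟩
    · exact ⟨a, ha, Or.inr (Or.inr (Or.inr (by rw [← e, mul_assoc, uu, mul_one])))⟩
  · obtain ⟨a, ha, e1⟩ := mC _ hcR c (hgen cC)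
    have aa : a * a = 1 := by rcases mem_zp2 e ha with rfl | rfl <;> simp [e]
    refine nc2 ?_
    suffices c * c = 1 by rw [this]; exact one_mem _
    rcases e1 with e1 | e1
    · rw [e1, aa]
    · rw [e1, mul_assoc, ← mul_assoc t, ← hLt a (h.le (Subgroup.zpowers_le.2 hcR ha)), mul_assoc,
        tt, mul_one, aa]

end Loc

end H5Ch
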