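import Cfsg.Agent.H5.Ch5
import Cfsg.Agent.H1.CIT13
import Cfsg.Agent.S0111

/-! Groups with short chains of subgroups, VI: simple groups with `|S| = 2^7`. -/

set_option autoImplicit false
set_option linter.unusedSectionVars false

namespace H5Ch

open Cfsg H10

universe u

theorem arith {q N k : ℕ} (hq : q.Prime) (h : Nat.gcd 2 (q - 1) * N = q * (q ^ 2 - 1))
    (h1 : 128 ∣ N) (h2 : ¬ 256 ∣ N) (hk : q = 2 ^ k + 1 ∨ q + 1 = 2 ^ k) : q = 127 := by
  by_cases h7 : k ≤ 7
  · rcases hk with e | e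
    · subst e
      interval_cases k <;> norm_num at h hq <;> omega
    · obtain rfl : q = 2 ^ k - 1 := by omega
      interval_cases k <;> first | rfl | (norm_num at h hq <;> omega)
  exfalso
  obtain ⟨j, rfl⟩ : ∃ j, k = j + 8 := ⟨k - 8, by omega⟩
  have e0 : 2 ^ (j + 8) = 256 * 2 ^ j := by ring
  have hp : 0 < 2 ^ j := by positivity
  generalize 2 ^ j = a at e0 hp
  rw [e0] at hk
  obtain ⟨b, rfl⟩ : ∃ b, q = 2 * b + 1 := ⟨q / 2, by omega⟩
  have e1 : (2 * b + 1) ^ 2 - 1 = 2 * (2 * (b * (b + 1))) := by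
    rw [Nat.sub_eq_iff_eq_add (Nat.one_le_pow _ _ (by omega))]; ring
  rw [Nat.add_sub_cancel, Nat.gcd_mul_right_right, e1, mul_left_comm,
    Nat.mul_right_inj two_ne_zero] at h
  refine h2 (h ▸ Dvd.dvd.mul_left ?_ _)
  refine Nat.mul_dvd_mul_left 2 (?_ : 128 ∣ _)
  rcases hk with e | e
  · exact Dvd.dvd.mul_right ⟨a, by omega⟩ _
  · exact Dvd.dvd.mul_left ⟨a, by omega⟩ _

variable {G : Type u} [Group G] [Finite G]

theorem Hy.ca {Y : Subgroup G} {z : G} (h : Hy Y z) (hY : Nat.card Y ≤ 128)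
    (hl : ¬ Len 9 (⊤ : Subgroup G)) (hr : Y ≤ resOf 2 ⊤) : CA Y z := by
  obtain ⟨R, L, hL⟩ := h.exists_loc
  by_cases hz : z ∈ pCoreOf 2 L
  · have := two_mul_card_le hL.lt
    exact (hL.caseI hz (by omega)).resolve_right fun e => e.1 hr
  refine absurd hr (hL.caseIII hz hY fun e => hl (e.succ (lt_top_iff_ne_top.2 fun e' => ?_)))
  exact hL.nnpN (le_NN_pCoreOf L) (h.ov _ hL.ne (isPGroup_pCoreOf L)
    (le_top.trans (e'.ge.trans (le_NN_pCoreOf L))))

theorem cit [IsSimpleGroup G] (hG : ¬ IsMulCommutative G)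
    (h9 : ∀ c : Fin 10 → Subgroup G, ¬ StrictAnti c) (S : Sylow 2 G)
    (hS : Nat.card (S : Subgroup G) = 2 ^ 7) :
    (∀ t : G, orderOf t = 2 → IsPGroup 2 (Subgroup.centralizer ({t} : Set G))) ∧
      ∃ c : G, orderOf c = 64 := by
  have hl : ¬ Len 9 (⊤ : Subgroup G) := fun e => by
    obtain ⟨c, hc, -⟩ := e.chain
    exact h9 c hc
  have hZ : Subgroup.center G = ⊥ := (IsSimpleGroup.eq_bot_or_eq_top_of_normal _
    inferInstance).resolve_right fun e => hG ⟨⟨fun a b =>
      Subgroup.mem_center_iff.1 (e.ge (Subgroup.mem_top b)) a⟩⟩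
  have h2 : ¬ IsPGroup 2 G := fun e => by
    have := e.center_nontrivial
    rw [hZ] at this
    exact not_nontrivial _ this
  have hr : pResidual 2 G = ⊤ := (IsSimpleGroup.eq_bot_or_eq_top_of_normal _
    inferInstance).resolve_left fun e => h2 (H3.pResidual_eq_bot_iff.1 e)
  have hY := isSylowIn_top S
  have hmax : ∀ M : Subgroup G, (S : Subgroup G) ≤ M → M ≠ ⊤ → M ≤ S := fun M h1 h3 =>
    by_contra fun h4 => hl (((len_pgroup 7 hY.isPGroup hS.ge).succ
      (lt_of_le_not_ge h1 h4)).succ (lt_top_iff_ne_top.2 h3))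
  have hS0 : (S : Subgroup G) ≠ ⊥ := fun e => by rw [e, Subgroup.card_bot] at hS; omega
  obtain ⟨z, hz, oz⟩ := exists_orderOf_eq_of_ne_bot (isPGroup_ZO (p := 2) (S : Subgroup G))
    (ZO_ne_bot hY.isPGroup hS0)
  have zc : ∀ y ∈ (S : Subgroup G), y * z = z * y := mem_CC.1 (ZO_le_CC _ hz)
  have hy : Hy (S : Subgroup G) z := by
    refine ⟨hY, fun e => ?_, fun A h0 hA hn => NP.of_two (hY.isPGroup.to_le (hmax _ hn fun e => ?_)),
      oz, ZO_le _ hz, zc, fun g hg => hmax (Subgroup.centralizer {z})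
        (fun y hy => Subgroup.mem_centralizer_singleton_iff.2 (zc y hy)) (fun e => ?_)
        (Subgroup.mem_centralizer_singleton_iff.2 hg)⟩
    · have := H3.hasNormalPComplement_iff_forall_mem.1 (H3.hasNormalPComplement_top.1 e) z
        (hr.ge trivial)
      rw [oz] at this
      exact absurd this (by norm_num)
    · have := normal_of_top_le_NN e.ge
      exact h2 (isPGroup_top_iff.1
        (((IsSimpleGroup.eq_bot_or_eq_top_of_normal A this).resolve_left h0) ▸ hA))
    · refine ne_one_of_orderOf_eq oz (hZ.le (Subgroup.mem_center_iff.2 fun g => ?_))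
      exact Subgroup.mem_centralizer_singleton_iff.1 (e.ge (Subgroup.mem_top g))
  obtain ⟨x, -, hx, -⟩ := hy.ca hS.le hl (by rw [resOf_top, hr]; exact le_top)
  obtain ⟨c, hc, a1, a2, -⟩ := hy.mc hx
  have hle : Subgroup.zpowers c ≤ S := Subgroup.zpowers_le.2 hc
  refine ⟨fun t ht => ?_, c, ?_⟩
  swap
  · have := card_mul_relIndex hle
    rw [a1, Nat.card_zpowers, hS] at this
    omega
  have key : ∃ g, g * t * g⁻¹ ∈ Subgroup.zpowers c := by
    obtain ⟨g, -, hg⟩ := hY.exists_cj_le (isPGroup_zpowers_of_orderOf_eq ht) le_top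
    have hg' := hg (conj_mem_cj (Subgroup.mem_zpowers t))
    by_cases e : g * t * g⁻¹ ∈ Subgroup.zpowers c
    · exact ⟨g, e⟩
    rcases Cfsg.Agent.S0111.result S _ hle a1 _ (by rw [ord_conj, ht]) hg' e with
      ⟨M, hM, hi, hn⟩ | ⟨k, hk⟩
    · exfalso
      rcases IsSimpleGroup.eq_bot_or_eq_top_of_normal M hM with rfl | rfl
      · have := Subgroup.card_le_of_le (le_top (a := (S : Subgroup G)))
        rw [Subgroup.index_bot] at hi
        rw [Subgroup.card_top, hi, hS] at this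
        omega
      · exact hn trivial
    · exact ⟨k * g, by convert hk using 1; group⟩
  obtain ⟨g, hg⟩ := key
  have e := H6.ord2_unique_zpowers hg a2 (by rw [ord_conj, ht]) oz
  refine (isPGroup_cj g⁻¹ hY.isPGroup).to_le fun a ha => mem_cj.2 (hy.cz _ ?_)
  have ha' := Subgroup.mem_centralizer_singleton_iff.1 ha
  calc _ = g * (a * t) * g⁻¹ := by rw [← e]; group
    _ = g * (t * a) * g⁻¹ := by rw [ha']
    _ = _ := by rw [← e]; group

end H5Ch
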