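import Cfsg.Agent.H3.S8h
import Cfsg.Agent.H4.Dk1
import Cfsg.Agent.S3331

set_option autoImplicit false
open Subgroup Equiv H3S

namespace H5D3b

def g5 : A5 := ⟨swap 0 1 * swap 1 2 * swap 2 3 * swap 3 4, by rw [Perm.mem_alternatingGroup]; decide⟩

theorem g55 : g5 ^ 5 = 1 := by decide
theorem g51 : g5 ≠ 1 := by decide
theorem c53 : c5 ^ 3 = 1 := by decide
theorem c51 : c5 ≠ 1 := by decide

theorem top_of {K : Subgroup A5} (hK : K.Normal) {x : A5} (hx : x ∈ K) (x1 : x ≠ 1) : K = ⊤ :=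
  (hK.eq_bot_or_eq_top).resolve_left fun e => x1 (by rwa [e, mem_bot] at hx)

theorem mem_c {Y : Type*} [Group Y] (δ : A5 →* Y) (N : Subgroup Y) [hN : N.Normal] {x : A5}
    (x1 : x ≠ 1) (h : δ x ∈ N) (c : A5) : δ c ∈ N := by
  have : c ∈ N.comap δ := by
    rw [top_of (hN.comap δ) (x := x) h x1]; trivial
  exact this

theorem pow_one' {Y : Type*} [Group Y] {x : Y} {a b : ℕ} (ha : x ^ a = 1) (hb : x ^ b = 1)
    (h : Nat.gcd a b = 1) : x = 1 := by
  have := pow_gcd_eq_one.2 ⟨ha, hb⟩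
  rwa [h, pow_one] at this

theorem cardA5 : Nat.card (alternatingGroup (Fin 5)) = 60 := by
  have := two_mul_nat_card_alternatingGroup (α := Fin 5)
  rw [Nat.card_perm, Nat.card_fin] at this
  have e : Nat.factorial 5 = 120 := rfl
  omega

theorem l2 {Y : Type*} [Group Y] [Finite Y] (δ : A5 →* Y) (h1 : δ c5 ≠ 1)
    (hC : centralizer (zpowers (δ c5) : Set Y) = zpowers (δ c5)) (h16 : 16 ∣ Nat.card Y)
    (h32 : ¬ 32 ∣ Nat.card Y) : False := by
  have : Fact (Nat.Prime 3) := ⟨by norm_num⟩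
  have : Fact (Nat.Prime 5) := ⟨by norm_num⟩
  have : Fact (Nat.Prime 2) := ⟨by norm_num⟩
  have o3 : orderOf (δ c5) = 3 := orderOf_eq_prime (by rw [← map_pow, c53, map_one]) h1
  have c3 : Nat.card (zpowers (δ c5)) = 3 := by rw [Nat.card_zpowers, o3]
  have p5 : δ g5 ^ 5 = 1 := by rw [← map_pow, g55, map_one]
  rcases Cfsg.Agent.S3331.result (zpowers (δ c5)) c3 hC with ⟨N, hN, -, cop, hq⟩ | ⟨N, hN, -, h2, ⟨e⟩⟩ | ⟨⟨e⟩⟩
  · have q6 : Nat.card (Y ⧸ N) ∣ 6 := by
      rcases hq with hq | ⟨⟨e⟩⟩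
      · rw [hq]; norm_num
      · rw [Nat.card_congr e.toEquiv, Nat.card_perm, Nat.card_fin]; norm_num [Nat.factorial]
    have m : δ g5 ∈ N := by
      rw [← QuotientGroup.eq_one_iff]
      refine pow_one' (a := 5) (b := 6) ?_ ?_ (by norm_num)
      · rw [← QuotientGroup.mk_pow, p5, QuotientGroup.mk_one]
      · exact orderOf_dvd_iff_pow_eq_one.1 ((_root_.orderOf_dvd_natCard _).trans q6)
    have m3 := mem_c δ N g51 m c5
    have := card_dvd_of_le ((zpowers_le (g := δ c5)).2 m3)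
    rw [c3] at this
    have := Nat.Coprime.eq_one_of_dvd cop.symm this
    omega
  · have hp : IsPGroup 2 N := fun n => ⟨1, Subtype.ext (by simpa using h2 n n.2)⟩
    obtain ⟨k, hk⟩ := IsPGroup.iff_card.1 hp
    have hc := card_eq_card_quotient_mul_card_subgroup N
    rw [Nat.card_congr e.toEquiv, cardA5, hk] at hc
    have k2 : k = 2 := by
      rw [hc] at h16 h32
      rcases k with _ | _ | _ | k
      · omega
      · omega
      · rfl
      · exact absurd ⟨15 * 2 ^ k, by ring⟩ h32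
    rw [k2] at hk
    let φ : Y →* Perm N := (MulAut.toPerm N).comp MulAut.conjNormal
    have m : δ g5 ∈ φ.ker := by
      refine pow_one' (a := 5) (b := 24) ?_ ?_ (by norm_num)
      · rw [← map_pow, p5, map_one]
      · have := pow_card_eq_one' (x := φ (δ g5))
        rwa [Nat.card_perm, hk] at this
    have m3 : φ (δ c5) = 1 := mem_c δ φ.ker g51 m c5
    have : N ≤ zpowers (δ c5) := by
      intro n hn
      rw [← hC]
      have e1 : δ c5 * n * (δ c5)⁻¹ = n := congrArg Subtype.val (Equiv.congr_fun m3 ⟨n, hn⟩)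
      have e2 : Commute (δ c5) n := mul_inv_eq_iff_eq_mul.1 e1
      rintro _ ⟨j, rfl⟩
      exact (e2.zpow_left j).eq
    have := card_dvd_of_le this
    rw [hk, c3] at this
    omega
  · have g1 : δ g5 ≠ 1 := fun e => h1 (mem_c δ ⊥ g51 e c5)
    have o5 : orderOf (δ g5) = 5 := orderOf_eq_prime p5 g1
    have d := _root_.orderOf_dvd_natCard (δ g5)
    rw [o5, Nat.card_congr e.toEquiv] at d
    have : Fact (Nat.Prime 7) := ⟨by norm_num⟩
    have c := H4.card_psl (F := ZMod 7)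
    rw [ZMod.card] at c
    have c' : 2 * Nat.card (Matrix.ProjectiveSpecialLinearGroup (Fin 2) (ZMod 7)) = 336 := c
    omega

theorem comm9 {Y : Type*} [Group Y] [Finite Y] (n27 : ¬ 27 ∣ Nat.card Y) {x w : Y} (hx : x ^ 3 = 1)
    (hw : w ^ 3 = 1) : ∃ c : Y, Commute (c * x * c⁻¹) w := by
  have : Fact (Nat.Prime 3) := ⟨by norm_num⟩
  have pg : ∀ y : Y, y ^ 3 = 1 → IsPGroup 3 (zpowers y) := by
    rintro y hy ⟨_, k, rfl⟩
    refine ⟨1, Subtype.ext ?_⟩
    change (y ^ k) ^ (3 ^ 1) = 1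
    rw [pow_one, ← zpow_natCast, ← zpow_mul, mul_comm, zpow_mul, zpow_natCast, hy, one_zpow]
  obtain ⟨P1, h1⟩ := (pg x hx).exists_le_sylow
  obtain ⟨P2, h2⟩ := (pg w hw).exists_le_sylow
  obtain ⟨c, hc⟩ := MulAction.exists_smul_eq Y P1 P2
  have m1 : c * x * c⁻¹ ∈ (P2 : Subgroup Y) := by
    rw [← hc]
    exact ⟨x, h1 (mem_zpowers x), rfl⟩
  have m2 : w ∈ (P2 : Subgroup Y) := h2 (mem_zpowers w)
  obtain ⟨k, hk⟩ := IsPGroup.iff_card.1 P2.isPGroup'
  have d := card_subgroup_dvd_card (P2 : Subgroup Y)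
  have cm : IsMulCommutative (P2 : Subgroup Y) := by
    rcases k with _ | _ | _ | k
    · have := (Nat.card_eq_one_iff_unique.1 hk).1
      exact ⟨⟨fun a b => Subsingleton.elim _ _⟩⟩
    · have := isCyclic_of_prime_card (p := 3) hk
      exact IsCyclic.isMulCommutative
    · exact IsPGroup.isMulCommutative_of_card_eq_prime_sq hk
    · exact absurd (Dvd.dvd.trans ⟨3 ^ k, by rw [hk]; ring⟩ d) n27
  exact ⟨c, congrArg Subtype.val (cm.1.1 ⟨_, m1⟩ ⟨_, m2⟩)⟩

end H5D3b
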