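import Cfsg.Agent.H5.D3a
import Cfsg.Agent.S0111
import Cfsg.Prelude.Def_Local

set_option autoImplicit false
open Subgroup Equiv H3S

namespace H5D3b

theorem F1 (a : A5) (h : a * c5 = c5 * a) : a = 1 ∨ a = c5 ∨ a = c5⁻¹ := by
  have key : ∀ p : Perm (Fin 5), Perm.sign p = 1 → p * c5.1 = c5.1 * p →
      p = 1 ∨ p = c5.1 ∨ p = c5.1⁻¹ := by decide +kernel
  rcases key a.1 a.2 (congrArg Subtype.val h) with e | e | e
  · exact Or.inl (Subtype.ext e)
  · exact Or.inr (Or.inl (Subtype.ext e))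
  · exact Or.inr (Or.inr (Subtype.ext e))

theorem F2 (b : A5) (h : b * e5 = e5 * b) (h3 : b ^ 3 = 1) : b = 1 := by
  have key : ∀ p : Perm (Fin 5), p * e5.1 = e5.1 * p → p ^ 3 = 1 → p = 1 := by decide +kernel
  exact Subtype.ext (key b.1 (congrArg Subtype.val h) (congrArg Subtype.val h3))

theorem memV {a : A5} : a ∈ V4 ↔ a = 1 ∨ a = e5 ∨ a = f5 ∨ a = e5 * f5 := by
  have he : e5 ∈ V4 := subset_closure (by simp)
  have hf : f5 ∈ V4 := subset_closure (by simp)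
  constructor
  · intro ha
    induction ha using closure_induction with
    | mem x hx => rcases hx with rfl | rfl <;> simp
    | one => simp
    | mul x y _ _ hx hy =>
      rcases hx with rfl | rfl | rfl | rfl <;> rcases hy with rfl | rfl | rfl | rfl <;> decide
    | inv x _ hx => rcases hx with rfl | rfl | rfl | rfl <;> decide
  · rintro (rfl | rfl | rfl | rfl)
    exacts [one_mem _, he, hf, mul_mem he hf]

theorem cardV : Nat.card V4 = 4 := by
  have : (V4 : Set A5) = (({1, e5, f5, e5 * f5} : Finset A5) : Set A5) := by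
    ext a; simp [memV]
  rw [← SetLike.coe_sort_coe, this, Nat.card_coe_set_eq, Set.ncard_coe_finset]
  decide

theorem F3 {a : A5} (ha : a ∈ V4) (a1 : a ≠ 1) : ∃ c : A5, c * a * c⁻¹ = e5 := by
  let w : A5 := ⟨swap 1 3 * swap 3 4, by rw [Perm.mem_alternatingGroup]; decide⟩
  have key : (w * f5 * w⁻¹ = e5 ∧ w⁻¹ * (e5 * f5) * w⁻¹⁻¹ = e5) ∨
      (w⁻¹ * f5 * w⁻¹⁻¹ = e5 ∧ w * (e5 * f5) * w⁻¹ = e5) := by decide
  rcases memV.1 ha with rfl | rfl | rfl | rfl
  · exact absurd rfl a1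
  · exact ⟨1, by simp⟩
  · rcases key with k | k
    exacts [⟨_, k.1⟩, ⟨_, k.1⟩]
  · rcases key with k | k
    exacts [⟨_, k.2⟩, ⟨_, k.2⟩]

theorem F4 {a : A5} (ha : a ∈ V4) : a * e5 = e5 * a := by
  rcases memV.1 ha with rfl | rfl | rfl | rfl <;> decide

variable {G : Type*} [Group G] [Finite G] {σ t : G} {θ : A5 × A5 →* G}

omit [Finite G] in
theorem sqr (h : H2 θ t σ) {g : G} (hg : In θ t σ g) : g * g ∈ θ.range := by
  obtain ⟨⟨a, b⟩, rfl | rfl | rfl | rfl⟩ := hg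
  · exact ⟨_, map_mul _ _ _⟩
  · exact ⟨(a, b) * (τ a, τ b), by rw [map_mul, ← h.ta]; group⟩
  · exact ⟨(a, b) * (b, a), by rw [map_mul, ← h.sa a b]; group⟩
  · refine ⟨(a, b) * (τ b, τ a), ?_⟩
    rw [map_mul, ← h.ta, ← h.sa a b]
    calc _ = θ (a, b) * t * σ * θ (a, b) * (σ * t) := by group
      _ = _ := by rw [← h.ts]; group

omit [Finite G] in
theorem caseR' (h : H2 θ t σ) {k : G} {a : A5} (e : k * θ (c5, c5) * k⁻¹ = θ (a, 1)) : False := by
  have c1 : θ (1, g5) * θ (a, 1) = θ (a, 1) * θ (1, g5) := by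
    rw [← map_mul, ← map_mul]; simp
  have c2 : k⁻¹ * θ (1, g5) * k * θ (c5, c5) = θ (c5, c5) * (k⁻¹ * θ (1, g5) * k) := by
    calc _ = k⁻¹ * (θ (1, g5) * (k * θ (c5, c5) * k⁻¹)) * k := by group
      _ = k⁻¹ * ((k * θ (c5, c5) * k⁻¹) * θ (1, g5)) * k := by rw [e, c1]
      _ = _ := by group
  have p5 : (k⁻¹ * θ (1, g5) * k) ^ 5 = 1 := by
    have : (k⁻¹ * θ (1, g5) * k⁻¹⁻¹) ^ 5 = 1 := by
      rw [conj_pow, ← map_pow, show ((1 : A5), g5) ^ 5 = 1 from Prod.ext (one_pow _) g55, map_one]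
      group
    rwa [inv_inv] at this
  generalize hx : k⁻¹ * θ (1, g5) * k = x at c2 p5
  have m : x ∈ θ.range := by
    have := pow_mem (sqr h (h.cy x c2)) 3
    rwa [← pow_two, ← pow_mul, show 2 * 3 = 5 + 1 from rfl, pow_succ, p5, one_mul] at this
  obtain ⟨⟨a', b'⟩, rfl⟩ := m
  rw [← map_mul, ← map_mul] at c2
  have c3 := h.inj c2
  have p3 : ∀ x : A5, x * c5 = c5 * x → x ^ 3 = 1 := by
    intro x hx
    rcases F1 x hx with rfl | rfl | rfl <;> decide
  have q3 : θ (a', b') ^ 3 = 1 := by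
    rw [← map_pow, show (a', b') ^ 3 = 1 from
      Prod.ext (p3 _ (congrArg Prod.fst c3)) (p3 _ (congrArg Prod.snd c3)), map_one]
  have e1 := pow_one' q3 p5 (by norm_num)
  rw [e1] at hx
  have : θ (1, g5) = θ 1 := by
    rw [map_one]
    calc _ = k * (k⁻¹ * θ (1, g5) * k) * k⁻¹ := by group
      _ = 1 := by rw [hx]; group
  exact g51 (congrArg Prod.snd (h.inj this))

theorem caseR (h : H2 θ t σ) {s g : G} (sy : s * θ (c5, c5) = θ (c5, c5) * s)
    (e : g * s * g⁻¹ = θ (1, e5)) : False := by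
  have y3 : θ (c5, c5) ^ 3 = 1 := by
    rw [← map_pow, show (c5, c5) ^ 3 = 1 from Prod.ext c53 c53, map_one]
  have z3 : θ (c5, 1) ^ 3 = 1 := by
    rw [← map_pow, show (c5, (1 : A5)) ^ 3 = 1 from Prod.ext c53 (one_pow _), map_one]
  have m1 : g * θ (c5, c5) * g⁻¹ ∈ centralizer ({θ (1, e5)} : Set G) := by
    rw [mem_centralizer_singleton_iff, ← e]
    calc _ = g * (θ (c5, c5) * s) * g⁻¹ := by group
      _ = _ := by rw [← sy]; group
  have m2 : θ (c5, 1) ∈ centralizer ({θ (1, e5)} : Set G) := by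
    rw [mem_centralizer_singleton_iff, ← map_mul, ← map_mul]; simp
  obtain ⟨c, hc⟩ := comm9 (Y := centralizer ({θ (1, e5)} : Set G))
    (fun d => h.n27 (d.trans (card_subgroup_dvd_card _))) (x := ⟨_, m1⟩) (w := ⟨_, m2⟩)
    (Subtype.ext (by change (g * _ * g⁻¹) ^ 3 = 1; rw [conj_pow, y3]; group))
    (Subtype.ext z3)
  have hr := mem_centralizer_singleton_iff.1 (c * ⟨_, m1⟩ * c⁻¹).2
  have hz : (c.1 * (g * θ (c5, c5) * g⁻¹) * c.1⁻¹) * θ (c5, 1) =
      θ (c5, 1) * (c.1 * (g * θ (c5, c5) * g⁻¹) * c.1⁻¹) := congrArg Subtype.val hc.eq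
  change (c.1 * (g * θ (c5, c5) * g⁻¹) * c.1⁻¹) * _ = _ * (c.1 * (g * θ (c5, c5) * g⁻¹) * c.1⁻¹) at hr
  have x3 : (c.1 * (g * θ (c5, c5) * g⁻¹) * c.1⁻¹) ^ 3 = 1 := by
    rw [conj_pow, conj_pow, y3]; group
  generalize hx : c.1 * (g * θ (c5, c5) * g⁻¹) * c.1⁻¹ = x at hr hz x3
  have hI : In θ t σ x := by
    obtain ⟨m, hm | hm⟩ := h.nz x (by rw [hz, mul_inv_cancel_right]; exact mem_zpowers _)
    exacts [⟨m, Or.inl hm⟩, ⟨m, Or.inr (Or.inl hm)⟩]
  have m : x ∈ θ.range := by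
    have := pow_mem (sqr h hI) 2
    rwa [← pow_two, ← pow_mul, show 2 * 2 = 3 + 1 from rfl, pow_succ, x3, one_mul] at this
  obtain ⟨⟨a, b⟩, rfl⟩ := m
  rw [← map_mul, ← map_mul] at hr
  rw [← map_pow, ← map_one θ] at x3
  have b1 : b = 1 := F2 b (congrArg Prod.snd (h.inj hr)) (congrArg Prod.snd (h.inj x3))
  subst b1
  exact caseR' h (k := c.1 * g) (a := a) (by rw [← hx]; group)

theorem caseD (h : H2 θ t σ) {M : Subgroup G} (hM : θ.range ≤ M) (h64 : ¬ 64 ∣ Nat.card M)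
    {s : G} (sM : s ∈ M) (ss : s * s = 1) (s1 : s ≠ 1) (ρ : MulAut A5)
    (sa : ∀ a b, s * θ (a, b) * s = θ (ρ b, ρ a)) (ρρ : ∀ a, ρ (ρ a) = a) (ρc : ρ c5 = c5)
    (hIn : ∀ g ∈ M, In θ t σ g → ∃ m, g = θ m ∨ g = θ m * s)
    (h32 : 32 ∣ Nat.card ↥(centralizer ({s} : Set G) ⊓ M)) : False := by
  have : Fact (Nat.Prime 2) := ⟨by norm_num⟩
  set X := centralizer ({s} : Set G) ⊓ M with hX
  have si : s⁻¹ = s := inv_eq_of_mul_eq_one_right ss
  have sX : s ∈ X := ⟨mem_centralizer_singleton_iff.2 rfl, sM⟩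
  have cs : ∀ x : X, x.1 * s = s * x.1 := fun x => mem_centralizer_singleton_iff.1 x.2.1
  let Z : Subgroup X := zpowers ⟨s, sX⟩
  have hZ : Z.Normal := ⟨by
    rintro _ ⟨k, rfl⟩ x
    have : Commute x ⟨s, sX⟩ := Subtype.ext (cs x)
    change x * _ ^ k * x⁻¹ ∈ Z
    rw [(this.zpow_right k).eq, mul_inv_cancel_right]
    exact ⟨k, rfl⟩⟩
  have cZ : Nat.card Z = 2 := by
    rw [Nat.card_zpowers]
    exact orderOf_eq_prime (Subtype.ext (by change s ^ 2 = 1; rw [pow_two, ss]))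
      (fun e => s1 (congrArg Subtype.val e))
  have z2 : ∀ w ∈ Z, w ^ 2 = 1 := fun w hw => by
    have := pow_card_eq_one' (x := (⟨w, hw⟩ : Z))
    rw [cZ] at this
    exact congrArg Subtype.val this
  have zc : ∀ w ∈ Z, ∀ x : X, Commute w x := by
    rintro _ ⟨k, rfl⟩ x
    have : Commute (⟨s, sX⟩ : X) x := Subtype.ext (cs x).symm
    exact this.zpow_left k
  have cX := card_eq_card_quotient_mul_card_subgroup Z
  rw [cZ] at cX
  have dM := card_dvd_of_le (inf_le_right : X ≤ M)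
  let δ0 : A5 →* X := (θ.comp ((MonoidHom.id A5).prod ρ.toMonoidHom)).codRestrict X (fun a => by
    refine ⟨mem_centralizer_singleton_iff.2 ?_, hM ⟨_, rfl⟩⟩
    change θ (a, ρ a) * s = s * θ (a, ρ a)
    have := sa a (ρ a)
    rw [ρρ] at this
    calc _ = s * θ (a, ρ a) * s * s := by rw [this]
      _ = _ := by rw [mul_assoc, ss, mul_one])
  have dv : ∀ a, (δ0 a).1 = θ (a, ρ a) := fun a => rfl
  have y3 : δ0 c5 ^ 3 = 1 := by rw [← map_pow, c53, map_one]
  have y1 : δ0 c5 ≠ 1 := fun e => by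
    have := congrArg Subtype.val e
    rw [dv, OneMemClass.coe_one, ← map_one θ] at this
    exact c51 (congrArg Prod.fst (h.inj this))
  refine l2 ((QuotientGroup.mk' Z).comp δ0) ?_ ?_ (by omega) (fun d => h64 (Dvd.dvd.trans ?_ dM))
  · intro e
    exact y1 (pow_one' y3 (z2 _ ((QuotientGroup.eq_one_iff _).1 e)) (by norm_num))
  · refine le_antisymm ?_ (le_centralizer _)
    intro gb hg
    obtain ⟨g, rfl⟩ := QuotientGroup.mk_surjective gb
    have e1 := hg _ (mem_zpowers _)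
    have e2 : g * δ0 c5 * g⁻¹ * (δ0 c5)⁻¹ ∈ Z := by
      rw [← QuotientGroup.eq_one_iff]
      change (g : X ⧸ Z) * (QuotientGroup.mk' Z).comp δ0 c5 * (g : X ⧸ Z)⁻¹ *
        ((QuotientGroup.mk' Z).comp δ0 c5)⁻¹ = 1
      rw [← e1]; group
    have e3 : g * δ0 c5 * g⁻¹ * (δ0 c5)⁻¹ = 1 := by
      refine pow_one' (a := 3) ?_ (z2 _ e2) (by norm_num)
      have := (zc _ e2 (δ0 c5)).mul_pow 3
      rw [y3, mul_one, inv_mul_cancel_right, conj_pow, y3] at this
      rw [← this]; group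
    have e4 : g * δ0 c5 = δ0 c5 * g := by
      calc _ = g * δ0 c5 * g⁻¹ * (δ0 c5)⁻¹ * (δ0 c5 * g) := by group
        _ = _ := by rw [e3, one_mul]
    have e5 : g.1 * θ (c5, c5) = θ (c5, c5) * g.1 := by
      have := congrArg Subtype.val e4
      rwa [MulMemClass.coe_mul, MulMemClass.coe_mul, dv, ρc] at this
    have sy : s * θ (c5, c5) = θ (c5, c5) * s := by
      have := cs (δ0 c5)
      rw [dv, ρc] at this
      exact this.symm
    have key : ∀ m : A5 × A5, θ m * s = s * θ m → θ m * θ (c5, c5) = θ (c5, c5) * θ m →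
        ∃ a ∈ zpowers c5, θ m = (δ0 a).1 := by
      rintro ⟨a, b⟩ k1 k2
      rw [← map_mul, ← map_mul] at k2
      have k3 : θ (a, b) = θ (ρ b, ρ a) := by
        rw [← sa, ← k1, mul_assoc, ss, mul_one]
      have k4 : b = ρ a := congrArg Prod.snd (h.inj k3)
      refine ⟨a, ?_, by rw [dv, k4]⟩
      rcases F1 a (congrArg Prod.fst (h.inj k2)) with rfl | rfl | rfl
      exacts [one_mem _, mem_zpowers _, inv_mem (mem_zpowers _)]
    have fin : ∀ a ∈ zpowers c5, (QuotientGroup.mk' Z).comp δ0 a ∈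
        zpowers ((QuotientGroup.mk' Z).comp δ0 c5) := by
      rintro _ ⟨k, rfl⟩
      exact ⟨k, (map_zpow _ _ _).symm⟩
    obtain ⟨m, hm | hm⟩ := hIn g.1 g.2.2 (h.cy _ e5)
    · obtain ⟨a, ha, e⟩ := key m (hm ▸ cs g) (hm ▸ e5)
      have : g = δ0 a := Subtype.ext (hm.trans e)
      rw [this]; exact fin a ha
    · have hm' : θ m = g.1 * s := by rw [hm, mul_assoc, ss, mul_one]
      obtain ⟨a, ha, e⟩ := key m (by rw [hm', cs g, mul_assoc, cs g])
        (by rw [hm', mul_assoc, sy, ← mul_assoc, e5, mul_assoc])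
      have : g = δ0 a * ⟨s, sX⟩ := Subtype.ext (by rw [hm, e]; rfl)
      rw [this, QuotientGroup.mk_mul, (QuotientGroup.eq_one_iff (⟨s, sX⟩ : X)).2 (mem_zpowers _),
        mul_one]
      exact fin a ha
  · have : 64 ∣ Nat.card X := by omega
    exact this

omit [Finite G] in
theorem rng (θ : A5 × A5 →* G) (N : Subgroup G) [N.Normal] (hN : ∀ g : G, g ^ 4 ∈ N) :
    θ.range ≤ N := by
  have k : ∀ δ : A5 →* G, ∀ a, δ a ∈ N := fun δ => mem_c δ N c51 (by
    have := hN (δ c5)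
    rwa [← map_pow, show c5 ^ 4 = c5 by decide] at this)
  rintro _ ⟨⟨a, b⟩, rfl⟩
  have : θ (a, b) = θ.comp (MonoidHom.inl _ _) a * θ.comp (MonoidHom.inr _ _) b := by
    simp [← map_mul]
  rw [this]
  exact mul_mem (k _ a) (k _ b)

theorem core (h : H2 θ t σ) (h2 : ¬ 128 ∣ Nat.card G) {M : Subgroup G} (hi : M.index = 2)
    (hM : θ.range ≤ M) {s : G} (sM : s ∈ M) (ss : s * s = 1) (ρ : MulAut A5)
    (sa : ∀ a b, s * θ (a, b) * s = θ (ρ b, ρ a)) (ρρ : ∀ a, ρ (ρ a) = a) (ρc : ρ c5 = c5)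
    (ρe : ρ e5 = e5) (ρV : ∀ a ∈ V4, ρ a ∈ V4)
    (hIn : ∀ g ∈ M, In θ t σ g → ∃ m, g = θ m ∨ g = θ m * s) :
    ∃ K : Subgroup M, K.index = 2 := by
  have : Fact (Nat.Prime 2) := ⟨by norm_num⟩
  have si : s⁻¹ = s := inv_eq_of_mul_eq_one_right ss
  have cM := M.card_mul_index
  rw [hi] at cM
  have h64 : ¬ 64 ∣ Nat.card M := by omega
  have sn : s ∉ θ.range := by
    rintro ⟨m, rfl⟩
    have e := sa c5 1
    nth_rw 2 [← si] at e
    rw [← map_inv, ← map_mul, ← map_mul] at e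
    have e1 : m.1 * c5 * m.1⁻¹ = ρ 1 := congrArg Prod.fst (h.inj e)
    rw [map_one, conj_eq_one_iff] at e1
    exact c51 e1
  have s1 : s ≠ 1 := fun e => sn (e ▸ one_mem _)
  have os : orderOf s = 2 := orderOf_eq_prime (by rw [pow_two, ss]) s1
  have UM : U θ ≤ θ.range := map_le_range _ _
  have cU : Nat.card (U θ) = 16 := by
    rw [U, card_map_of_injective h.inj, Nat.card_congr (prodEquiv V4 V4).toEquiv, Nat.card_prod,
      cardV]
  have pU : IsPGroup 2 (U θ) := IsPGroup.of_card (n := 4) cU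
  have pZ : IsPGroup 2 (zpowers s) := IsPGroup.of_card (n := 1) (by rw [Nat.card_zpowers, os]; rfl)
  have nU : s ∈ normalizer (U θ : Set G) := by
    refine mem_normalizer_fintype ?_
    rintro _ ⟨⟨a, b⟩, ⟨ha, hb⟩, rfl⟩
    rw [si, sa]
    exact ⟨_, ⟨ρV b hb, ρV a ha⟩, rfl⟩
  have pT := pU.to_sup_of_normal_left' pZ ((zpowers_le).2 nU)
  set T := U θ ⊔ zpowers s with hT
  have sT : s ∈ T := le_sup_right (a := U θ) (mem_zpowers s)
  have TM : T ≤ M := sup_le (UM.trans hM) ((zpowers_le).2 sM)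
  have c32 : 32 ∣ Nat.card T := by
    obtain ⟨k, hk⟩ := IsPGroup.iff_card.1 pT
    have d : Nat.card (U θ) ∣ Nat.card T := card_dvd_of_le (le_sup_left : U θ ≤ T)
    have ne : Nat.card T ≠ 16 := fun e =>
      sn (UM ((eq_of_le_of_card_ge (le_sup_left : U θ ≤ T) (e.trans cU.symm).le).ge sT))
    rw [cU, hk] at d
    rw [hk] at ne ⊢
    rcases k with _ | _ | _ | _ | _ | k
    all_goals first | omega | exact ⟨2 ^ k, by ring⟩
  have pT' : IsPGroup 2 (T.subgroupOf M) := pT.of_equiv (subgroupOfEquivOfLe TM).symm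
  obtain ⟨P, hP⟩ := pT'.exists_le_sylow
  have cP : Nat.card (P : Subgroup M) = 32 := by
    obtain ⟨k, hk⟩ := IsPGroup.iff_card.1 P.isPGroup'
    have d1 := card_dvd_of_le hP
    rw [Nat.card_congr (subgroupOfEquivOfLe TM).toEquiv] at d1
    have d2 := card_subgroup_dvd_card (P : Subgroup M)
    have d3 := c32.trans d1
    rw [hk] at d2 d3 ⊢
    rcases k with _ | _ | _ | _ | _ | _ | k
    all_goals first | omega | exact absurd (Dvd.dvd.trans ⟨2 ^ k, by ring⟩ d2) h64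
  have QP : (U θ).subgroupOf M ≤ P := (comap_mono le_sup_left).trans hP
  have qi : ((U θ).subgroupOf M).relIndex P = 2 := by
    have := (((U θ).subgroupOf M).subgroupOf (P : Subgroup M)).card_mul_index
    rw [Nat.card_congr (subgroupOfEquivOfLe QP).toEquiv,
      Nat.card_congr (subgroupOfEquivOfLe (UM.trans hM)).toEquiv, cU, cP] at this
    rw [relIndex]; omega
  have sy : s * θ (c5, c5) = θ (c5, c5) * s := by
    have := sa c5 c5
    rw [ρc] at this
    calc _ = s * θ (c5, c5) * s * s := by rw [mul_assoc _ s s, ss, mul_one]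
      _ = _ := by rw [this]
  rcases Cfsg.Agent.S0111.result P _ QP qi ⟨s, sM⟩ (by rw [← os]; exact (orderOf_coe _).symm)
    (hP sT) (fun e => sn (UM e)) with ⟨K, -, hK, -⟩ | ⟨g, ⟨a, b⟩, ⟨ha, hb⟩, e⟩
  · exact ⟨K, hK⟩
  exfalso
  change θ (a, b) = g.1 * s * g.1⁻¹ at e
  have one : ∀ (k : G) (b : A5), b ∈ V4 → θ (1, b) = k * s * k⁻¹ → False := by
    intro k b hb e
    by_cases b1 : b = 1
    · rw [b1, show ((1 : A5), (1 : A5)) = 1 from rfl, map_one, eq_comm, conj_eq_one_iff] at e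
      exact s1 e
    obtain ⟨c, hc⟩ := F3 hb b1
    refine caseR h sy (g := θ (1, c) * k) ?_
    calc _ = θ (1, c) * (k * s * k⁻¹) * (θ (1, c))⁻¹ := by group
      _ = _ := by rw [← e, ← map_inv, ← map_mul, ← map_mul, ← hc]; simp
  by_cases a1 : a = 1
  · exact one _ b hb (a1 ▸ e)
  by_cases b1 : b = 1
  · refine one (σ * g.1) a ha ?_
    rw [← h.sa, ← b1, e, mul_inv_rev, inv_eq_of_mul_eq_one_right h.ss]; group
  obtain ⟨c1, h1⟩ := F3 ha a1
  obtain ⟨c2, h2'⟩ := F3 hb b1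
  have kM : θ (c1, c2) * g.1 ∈ M := mul_mem (hM ⟨_, rfl⟩) g.2
  have e' : θ (c1, c2) * g.1 * s * (θ (c1, c2) * g.1)⁻¹ = θ (e5, e5) := by
    calc _ = θ (c1, c2) * (g.1 * s * g.1⁻¹) * (θ (c1, c2))⁻¹ := by group
      _ = _ := by
        rw [← e, ← map_inv, ← map_mul, ← map_mul]
        exact congrArg θ (Prod.ext h1 h2')
  generalize θ (c1, c2) * g.1 = k at kM e'
  have TC : T ≤ centralizer ({θ (e5, e5)} : Set G) := by
    refine sup_le ?_ ((zpowers_le).2 (mem_centralizer_singleton_iff.2 ?_))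
    · rintro _ ⟨⟨a, b⟩, ⟨ha, hb⟩, rfl⟩
      rw [mem_centralizer_singleton_iff, ← map_mul, ← map_mul]
      exact congrArg θ (Prod.ext (F4 ha) (F4 hb))
    · have := sa e5 e5
      rw [ρe] at this
      calc _ = s * θ (e5, e5) * s * s := by rw [mul_assoc _ s s, ss, mul_one]
        _ = _ := by rw [this]
  refine caseD h hM h64 sM ss s1 ρ sa ρρ ρc hIn (c32.trans ?_)
  rw [← card_map_of_injective (f := (MulAut.conj k⁻¹).toMonoidHom) (MulAut.conj k⁻¹).injective]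
  refine card_dvd_of_le ?_
  rintro _ ⟨x, hx, rfl⟩
  change k⁻¹ * x * k⁻¹⁻¹ ∈ _
  refine ⟨mem_centralizer_singleton_iff.2 ?_, M.mul_mem (M.mul_mem (M.inv_mem kM) (TM hx))
    (M.inv_mem (M.inv_mem kM))⟩
  have := mem_centralizer_singleton_iff.1 (TC hx)
  rw [← e'] at this
  calc _ = k⁻¹ * (x * (k * s * k⁻¹)) * k := by group
    _ = _ := by rw [this]; group

theorem d3b (h : H2 θ t σ) (h2 : ¬ 128 ∣ Nat.card G) (M : Subgroup G) (hi : M.index = 2)
    (ht : t ∉ M) : ∃ (N : Subgroup G) (_ : N.Normal), θ.range ≤ N ∧ IsPGroup 2 (G ⧸ N) ∧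
      ¬ 32 ∣ Nat.card N := by
  have hn := normal_of_index_eq_two hi
  have hM : θ.range ≤ M := rng θ M fun g => by
    rw [show 4 = 2 * 2 from rfl, pow_mul]; exact sq_mem_of_index_two hi _
  have tm : ∀ m, θ m ∈ M := fun m => hM ⟨m, rfl⟩
  have hK : ∃ K : Subgroup M, K.index = 2 := by
    by_cases hs : σ ∈ M
    · refine core h h2 hi hM hs h.ss 1 h.sa (fun _ => rfl) rfl rfl (fun _ ha => ha) ?_
      rintro g gM ⟨m, e | e | e | e⟩
      · exact ⟨m, Or.inl e⟩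
      · exact absurd ((mul_mem_cancel_left (tm m)).1 (e ▸ gM)) ht
      · exact ⟨m, Or.inr e⟩
      · exact absurd ((mul_mem_cancel_left (tm m)).1 ((mul_mem_cancel_right hs).1 (e ▸ gM))) ht
    · have hs' : t * σ ∈ M := (mul_mem_iff_of_index_two hi).2 (iff_of_false ht hs)
      have ττ : ∀ a, τ (τ a) = a := fun a => Subtype.ext (by
        change swap 3 4 * (swap 3 4 * a.1 * (swap 3 4)⁻¹) * (swap 3 4)⁻¹ = a.1
        simp [mul_assoc])
      refine core h h2 hi hM hs' ?_ τ (fun a b => ?_) ττ (by decide) (by decide) ?_ ?_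
      · calc _ = t * (σ * t) * σ := by group
          _ = t * t * (σ * σ) := by rw [← h.ts]; group
          _ = 1 := by rw [h.tt, h.ss, mul_one]
      · rw [← h.ta, ← h.sa a b]
        calc _ = t * σ * θ (a, b) * (σ * t) := by rw [h.ts]
          _ = _ := by group
      · intro a ha
        rw [memV]
        rcases memV.1 ha with rfl | rfl | rfl | rfl <;> decide
      · rintro g gM ⟨m, e | e | e | e⟩
        · exact ⟨m, Or.inl e⟩
        · exact absurd ((mul_mem_cancel_left (tm m)).1 (e ▸ gM)) ht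
        · exact absurd ((mul_mem_cancel_left (tm m)).1 (e ▸ gM)) hs
        · exact ⟨m, Or.inr (e.trans (mul_assoc _ _ _))⟩
  obtain ⟨K, hK⟩ := hK
  have p4 : ∀ g : G, g ^ 4 ∈ K.map M.subtype := fun g =>
    ⟨_, sq_mem_of_index_two hK ⟨g ^ 2, sq_mem_of_index_two hi g⟩, by
      change (g ^ 2) ^ 2 = _; rw [← pow_mul]⟩
  have p4' : ∀ g : G, g ^ 4 ∈ (K.map M.subtype).normalCore := fun g b => by
    rw [← conj_pow]; exact p4 _
  refine ⟨(K.map M.subtype).normalCore, inferInstance, rng θ _ p4', fun q => ⟨2, ?_⟩, fun d => h2 ?_⟩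
  · obtain ⟨g, rfl⟩ := QuotientGroup.mk_surjective q
    rw [← QuotientGroup.mk_pow, QuotientGroup.eq_one_iff]
    exact p4' g
  · have d1 := d.trans (card_dvd_of_le (normalCore_le _))
    rw [card_subtype] at d1
    have c1 := K.card_mul_index
    have c2 := M.card_mul_index
    rw [hK] at c1
    rw [hi] at c2
    omega

end H5D3b
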