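import Cfsg.Agent.H5.GU
import Cfsg.Agent.H10.GG1
import Cfsg.Agent.H15.B1

/-! Groups with a Sylow `2`-subgroup of type `U₃(2 ^ n)`. -/

set_option autoImplicit false
set_option linter.unusedSectionVars false

namespace H5.Gd

open Subgroup Cfsg
open scoped commutatorElement
open H10 (IsSylowIn)
open CF (img kerf)
open GW.K6

universe u

variable {G : Type u} [Group G] [Finite G] {A S H L E Q V K : Subgroup G} {q n : ℕ}

theorem card_eq_two_pow {k m n : ℕ} (hS : IsSylowIn 2 S H) (e : m * Nat.card H = 2 ^ k * n)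
    (h : Odd m) (h' : Odd n) : Nat.card S = 2 ^ k := by
  refine le_antisymm ?_ (two_pow_le hS e h)
  obtain ⟨j, hj⟩ := IsPGroup.iff_card.1 hS.isPGroup
  refine Nat.le_of_dvd (by positivity) ?_
  have := (card_dvd_of_le hS.le).mul_left m
  rw [e, hj] at this
  rw [hj]
  exact (Nat.Coprime.pow_left j (Nat.coprime_two_left.2 h')).dvd_of_dvd_mul_right this

/-- if `A` is central in a Sylow subgroup, the pair of a member is a direct decomposition -/
theorem Mem.inf_bot (h : Mem A H L) (hS : IsSylowIn 2 S H) (h2 : S ≤ 𝒞(A)) :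
    (A ⊓ L) ⊓ mB A L = ⊥ := by
  by_contra k
  obtain ⟨ρ, c⟩ := h.cd
  obtain ⟨-, x, hx, k1, k2⟩ := c.nc k
  have hN : x ∈ H ⊓ 𝒩(A) := ⟨h.le hx.1, hx.2⟩
  have k3 : x ^ 2 ∈ 𝒞(A) := fun a ha => by
    have e1 := c.leC hx _ (k1 a ha)
    have e2 := h.sc.sq (mB_le A L (k1 a ha))
    have e3 : x * a = ⁅x, a⁆ * a * x := by simp [commutatorElement_def]
    calc a * x ^ 2 = ⁅x, a⁆ * ⁅x, a⁆ * a * x * x := by rw [e2]; simp [pow_two, mul_assoc]
      _ = ⁅x, a⁆ * x * a * x := by rw [mul_assoc _ x a, e3]; simp only [mul_assoc]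
      _ = x * (⁅x, a⁆ * a * x) := by rw [e1]; simp only [mul_assoc]
      _ = x ^ 2 * a := by rw [← e3, pow_two, mul_assoc]
  have hn : (𝒞(A).subgroupOf (H ⊓ 𝒩(A))).Normal := (normal_subgroupOf_iff_le_normalizer_inf).2
    (le_normalizer_inf (inf_le_right.trans (normalizer_le_normalizer_centralizer A)) le_normalizer)
  have k4 : x ^ (𝒞(A).relIndex (H ⊓ 𝒩(A))) ∈ 𝒞(A) := (𝒞(A).subgroupOf (H ⊓ 𝒩(A))).pow_index_mem ⟨x, hN⟩
  have k5 := (hS.of_le (le_inf hS.le (h2.trans (centralizer_le_normalizer _))) inf_le_left).not_dvd_relIndex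
  obtain ⟨m, hm⟩ := Nat.odd_iff.2 (Nat.two_dvd_ne_zero.1 fun e => k5 (e.trans (relIndex_dvd_of_le_left _ h2)))
  rw [hm, pow_succ, pow_mul] at k4
  exact k2 ((mul_mem_cancel_left (pow_mem k3 m)).1 k4)

/-- Frattini argument in the normalizer of a Sylow subgroup of a Bender group -/
theorem BF.frat (h : AS E) (b : BF E Q V K) {s : G} (hs : s ∈ 𝒩(V)) :
    ∃ x ∈ Q, ∃ y ∈ 𝒩(K), s = x * y := by
  have hKQ := b.KN.trans b.normQ
  have e : E ⊓ 𝒩(V) = Q ⊔ K := le_antisymm b.NV (sup_le (le_inf b.syl.le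
    (b.cen.trans (centralizer_le_normalizer _))) (le_inf b.KE b.KN))
  have := h.normal
  obtain ⟨k, hk, y, hy, rfl⟩ := H16.hl_frattini (π := {2}ᶜ) (K := Q ⊔ K) (g := s)
    (by rw [sup_comm]; exact H1.isSolvable_sup (H16.GD.sol_odd b.Kodd)
          (H15.Cfsg.IsPiSubgroup.solvable (H15.IsPGroup.isPi b.syl.isPGroup)) hKQ)
    (H16.hl_sup_right hKQ (by rw [compl_compl]; exact H15.IsPGroup.isPi b.syl.isPGroup)
      (H15.Bd.isPi_two_compl.2 b.Kodd))
    (e ▸ le_normalizer_inf (H10.le_NN_of_normal 𝒩(V) E) (normalizer_le_normalizer_normalizer V) hs)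
  obtain ⟨x, hx, l, hl, rfl⟩ := (mem_sup_of_le_normalizer' hKQ).1 hk
  exact ⟨x, hx, l * y, mul_mem (le_normalizer hl) hy, mul_assoc _ _ _⟩

theorem BF.eq_one (b : BF E Q V K) {v : G} (hv : v ∈ V) (hn : v ∈ 𝒩(K)) : v = 1 := by
  by_contra v1
  obtain ⟨ρ, hρ, tr⟩ := b.rho
  have hV : V ≤ Q := fun x hx => ((b.inv x).1 hx).1
  have h1 : V ⊓ K = ⊥ := H10.eq_bot_of_isPGroup_of_not_dvd
    (b.syl.isPGroup.to_le (inf_le_left.trans hV)) inf_le_right b.Kodd.not_two_dvd_nat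
  have h2 : ⁅ρ, v⁆ ∈ V ⊓ K := mem_inf.2 ⟨mul_mem (H10.conj_mem_of_mem_NN (b.KN hρ) hv) (inv_mem hv), by
    rw [commutatorElement_def, mul_assoc, mul_assoc, ← mul_assoc v]
    exact mul_mem hρ (H10.conj_mem_of_mem_NN hn (inv_mem hρ))⟩
  rw [h1, mem_bot, commutatorElement_eq_one_iff_commute] at h2
  have h3 : V ≤ zpowers v := fun w hw => by
    by_cases w1 : w = 1
    · simp [w1]
    obtain ⟨m, rfl⟩ := tr v hv v1 w hw w1
    rw [(h2.pow_left m).eq, mul_inv_cancel_right]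
    exact mem_zpowers v
  have h4 := card_le_of_le h3
  have h5 := orderOf_le_of_pow_eq_one two_pos ((pow_two v).trans ((b.inv v).1 hv).2)
  have := b.four
  rw [Nat.card_zpowers] at h4
  omega

/-- the properties of a Sylow `2`-subgroup of `U₃(q)` and its centre -/
structure U3 {G : Type*} [Group G] (S A : Subgroup G) (q : ℕ) : Prop where
  le : A ≤ S
  cen : S ≤ 𝒞(A)
  cardS : Nat.card S = q ^ 3
  cardA : Nat.card A = q
  inv : ∀ x ∈ S, x * x = 1 ↔ x ∈ A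
  sq : ∀ x ∈ S, x * x ∈ A
  comm : ∀ x ∈ S, x ∉ A → ∀ a ∈ A, ∃ y ∈ S, ⁅x, y⁆ = a

theorem U3.map {G G' : Type*} [Group G] [Group G'] {S A : Subgroup G} (h : U3 S A q) {f : G →* G'}
    (hf : Function.Injective f) : U3 (S.map f) (A.map f) q := by
  refine ⟨map_mono h.le, ?_, (card_map_of_injective hf).trans h.cardS,
    (card_map_of_injective hf).trans h.cardA, ?_, ?_, ?_⟩
  · rintro _ ⟨x, hx, rfl⟩ _ ⟨a, ha, rfl⟩
    rw [← map_mul, h.cen hx a ha, map_mul]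
  · rintro _ ⟨x, hx, rfl⟩
    rw [← map_mul, map_eq_one_iff f hf, mem_map_iff_mem hf, h.inv x hx]
  · rintro _ ⟨x, hx, rfl⟩
    exact map_mul f x x ▸ mem_map_of_mem f (h.sq x hx)
  · rintro _ ⟨x, hx, rfl⟩ k _ ⟨a, ha, rfl⟩
    obtain ⟨y, hy, rfl⟩ := h.comm x hx (fun e => k (mem_map_of_mem f e)) a ha
    exact ⟨f y, mem_map_of_mem f hy, (map_commutatorElement f x y).symm⟩

section
open H6
attribute [-simp] H23.conj_apply

theorem u3_UG {F : Type*} [Field F] [Fintype F] [CharP F 2] (hF : Fintype.card F = q ^ 2) :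
    ∃ A, U3 (⊤ : Subgroup (UG hF)) A q := by
  have t0 : (2 : F) = 0 := CharTwo.two_eq_zero
  have hq : q ≠ 0 := by rintro rfl; exact Fintype.card_ne_zero hF
  have hs : ∀ μ : F, H23.conj hF μ = μ → ∃ s, s + H23.conj hF s = μ := fun μ h =>
    (Nat.card_ne_zero.1 ((H23.card_trace_eq hF h).symm ▸ hq)).1.elim fun s => ⟨s.1, s.2⟩
  refine ⟨⟨⟨⟨{x | x.a = 0}, fun {x y} hx hy => by simp_all⟩, rfl⟩, fun {x} hx => hx⟩, le_top,
    fun x _ y (hy : y.a = 0) => UG.ext (add_comm _ _) (by simp [hy, add_comm]),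
    (Nat.card_congr topEquiv.toEquiv).trans UG.card, Eq.trans ?_ (H23.card_trace_zero hF),
    fun x _ => UG.mul_self_eq_one, fun x _ => CharTwo.add_self_eq_zero _,
    fun x _ (hx : ¬ x.a = 0) a (ha : a.a = 0) => ?_⟩
  · exact Nat.card_congr ⟨fun x => ⟨x.1.s, by simpa [show x.1.a = 0 from x.2, H23.conj_apply] using x.1.tr⟩,
      fun s => ⟨⟨0, s.1, by rw [mul_zero]; exact s.2⟩, rfl⟩,
      fun x => Subtype.ext (UG.ext (show x.1.a = 0 from x.2).symm rfl), fun _ => rfl⟩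
  have h1 := a.tr
  rw [ha, mul_zero] at h1
  obtain ⟨w, hw⟩ := hs a.s (by linear_combination h1 - a.s * t0)
  obtain ⟨s, h2⟩ := hs (H23.conj hF (w / H23.conj hF x.a) * (w / H23.conj hF x.a))
    (by rw [map_mul, H23.conj_conj, mul_comm])
  refine ⟨⟨_, s, h2⟩, trivial, ?_⟩
  rw [commutatorElement_def, mul_inv_eq_iff_eq_mul, mul_inv_eq_iff_eq_mul]
  have h3 : H23.conj hF x.a ≠ 0 := by simpa using hx
  refine UG.ext (by simp [ha, add_comm]) ?_
  simp only [UG.mul_s, UG.mul_a, ha, map_zero, zero_mul, add_zero, zero_add, map_div₀, H23.conj_conj]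
  field_simp
  linear_combination hw - (H23.conj hF w) * t0

theorem u3_sylow {F : Type*} [Field F] [Fintype F] (hn : 1 ≤ n) (hF : Fintype.card F = (2 ^ n) ^ 2)
    (P : Sylow 2 (PSU 3 F (2 ^ n))) : ∃ A, U3 (⊤ : Subgroup P) A (2 ^ n) := by
  have : CharP F 2 := charP_of_card_eq_prime_pow (hF.trans (pow_mul 2 n 2).symm)
  have h2 : IsPGroup 2 (UG hF) := IsPGroup.of_card (UG.card.trans (pow_mul 2 n 3).symm)
  have hz := H22.card_center_SU hF 3 (by norm_num)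
  have hzo : Odd (Nat.card (center (SU 3 F (2 ^ n)))) :=
    hz ▸ Odd.of_dvd_nat (by decide) (Nat.gcd_dvd_left _ _)
  let f := (QuotientGroup.mk' (center (SU 3 F (2 ^ n)))).comp (UG.toSU (hF := hF))
  have hf : Function.Injective f := (injective_iff_map_eq_one _).2 fun x hx => by
    obtain ⟨k, hk⟩ := h2 x
    have h3 := hzo.of_dvd_nat (Subgroup.orderOf_dvd_natCard _ ((QuotientGroup.eq_one_iff _).1 hx))
    rw [orderOf_injective _ UG.toSU_injective] at h3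
    exact orderOf_eq_one_iff.1 (Nat.Coprime.eq_one_of_dvd (Nat.Coprime.pow_right k
      (Nat.coprime_two_right.2 h3)) (orderOf_dvd_of_pow_eq_one hk))
  have h3 := (H10.sylow_su3 h2 (Nat.even_pow.2 ⟨even_two, by omega⟩)).map_top
    (QuotientGroup.mk'_surjective (center _))
  rw [MonoidHom.map_range] at h3
  obtain ⟨A, h⟩ := u3_UG hF
  let e := (MonoidHom.ofInjective hf).trans (h3.toSylowTop.equiv P)
  have := h.map (f := e.toMonoidHom) e.injective
  rw [map_top_of_surjective _ e.surjective] at this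
  exact ⟨_, this⟩

end

namespace U3
variable (h : U3 S A (2 ^ n)) (hS : IsSylowIn 2 S ⊤) (hn : 2 ≤ n)
include h

theorem ea : IsElementaryAbelian 2 A :=
  ⟨H10.isMulCommutative_iff_le_CC.2 (h.le.trans h.cen), fun x hx => by
    rw [pow_two, (h.inv x (h.le hx)).2 hx]⟩

omit h in
theorem der (x y : G) :
    ⁅x⁻¹, y⁆ = (x * x)⁻¹ * (x * y * (x * y)) * (y * y)⁻¹ := by
  group

include hn

theorem four : 4 ≤ Nat.card A := h.cardA ▸ Nat.pow_le_pow_right (n := 2) two_pos hn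

theorem not_le : ¬ S ≤ A := fun k => by
  have h1 := card_le_of_le k
  have h2 := h.four hn
  rw [h.cardA] at h2
  rw [h.cardA, h.cardS] at h1
  nlinarith [Nat.pow_le_pow_left h2 2]

theorem ne_bot : A ≠ ⊥ := fun e => by simpa [e] using h.four hn

omit hn
include hS

theorem sc : SC A ⊤ :=
  sc_of_sylow hS h.le h.ea fun a ha g _ k =>
    (h.inv _ k).1 (by rw [← pow_two, conj_pow, h.ea.2 a ha]; simp)

theorem om : Om A ⊤ := fun P hP h1 _ x hx x2 => by
  obtain ⟨g, -, k⟩ := hS.exists_cj_le hP le_top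
  have := (h.inv _ (k (H10.conj_mem_cj hx))).1 (by rw [← pow_two, conj_pow, pow_two, x2]; simp)
  rw [← (h.sc hS).cj_eq hS.isPGroup h.le (mem_top g) ((cj_mono h1).trans k)] at this
  exact H10.conj_mem_cj_iff.1 this

include hn

theorem mem_not_le (hL : Mem A ⊤ L) : ¬ S ⊓ L ≤ A := fun k => by
  obtain ⟨Y, _, _, f, b⟩ := exists_bar hL.comp
  have hD : S ≤ ⊤ ⊓ 𝒩(L) := (le_inf le_top h.cen).trans hL.cent_le_D
  have hQ := syl_img f (hS.inf_subn (H10.subnIn_top.2 (hL.comp.sn.isSubnormal .top)))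
    (le_inf le_top le_normalizer)
  have hc : img f S ≤ 𝒞(img f (S ⊓ L)) := img_le_C f (h.cen.trans (centralizer_anti k))
  have h1 : img f S ≤ img f (S ⊓ L) := fun x hx => b.as.inner hQ ((CF.img_mono f inf_le_left).trans hc)
    ((isPGroup_img f hS.isPGroup).to_le (zpowers_le.2 hx)) (hc hx)
  obtain ⟨x, hx, x0⟩ := SetLike.not_le_iff_exists.1 (h.not_le hn)
  refine (hL.bar_img b).2.1 ((img_eq_bot f hL.le_D).2 fun a ha => ?_)
  obtain ⟨y, hy, rfl⟩ := h.comm x hx x0 a ha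
  rw [← pr_eq_one f (hL.le_D ha), pr_comm f (hD hx) (hD hy), commutatorElement_eq_one_iff_mul_comm]
  exact hc (pr_mem_img f hy (hD hy)) _ (h1 (pr_mem_img f hx (hD hx)))

theorem mem_as (hO : 𝒪((⊤ : Subgroup G)) = ⊥) (hL : Mem A ⊤ L) : AS L ∧ A ≤ L := by
  obtain ⟨x, hx, x0⟩ := SetLike.not_le_iff_exists.1 (h.mem_not_le hS hn hL)
  have h1 : A ≤ L := fun a ha => by
    obtain ⟨y, hy, rfl⟩ := h.comm x hx.1 x0 a ha
    rw [commutatorElement_def, mul_assoc, mul_assoc, ← mul_assoc y]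
    exact mul_mem hx.2 (H10.conj_mem_of_mem_NN (hL.cent_le_D ⟨trivial, h.cen hy⟩).2 (inv_mem hx.2))
  have h2 := hL.inf_bot hS h.cen
  rw [inf_eq_left.2 h1, inf_eq_right.2 (mB_le A L)] at h2
  exact ⟨hL.as_of hO h2 (h.om hS), h1⟩

theorem as (hE : AS E) (hA : A ≤ E) (hne : ¬ S ⊓ E ≤ A) {F : Type*} [Field F] [Fintype F]
    (hF : Fintype.card F = 4 ^ n) : S ≤ E ∧ Nonempty (E ≃* PSU 3 F (2 ^ n)) := by
  have hQ : IsSylowIn 2 (S ⊓ E) E := hS.inf_normal le_top (normalizer_eq_top_iff.2 hE.normal).ge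
  have hA1 := h.ne_bot hn
  have hel : ¬ IsElementaryAbelian 2 (S ⊓ E : Subgroup G) := fun k => hne fun x hx =>
    (h.inv x hx.1).1 (by rw [← pow_two]; exact k.2 x hx)
  obtain hB | hD | hR := hE.types (h.sc hS) hA1 hA
  rotate_left
  · exact (hel (hE.d_card hD hQ).1).elim
  · exact (hel (hE.r_card hR hQ).1).elim
  obtain ⟨V, K, b⟩ := hE.bf hB.1 hQ
  obtain rfl : V = A := by
    ext x
    exact (b.inv x).trans ⟨fun k => (h.inv x k.1.1).1 k.2, fun k => ⟨⟨h.le k, hA k⟩, (h.inv x (h.le k)).2 k⟩⟩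
  have hSE : S ≤ E := fun s hs => by
    obtain ⟨x, hx, y, hy, rfl⟩ := b.frat hE (centralizer_le_normalizer _ (h.cen hs))
    have h1 := (S.mul_mem_cancel_left hx.1).1 hs
    exact mul_mem hx.2 (hA ((h.inv y h1).1 (b.eq_one (h.sq y h1) (mul_mem hy hy))))
  rw [inf_eq_left.2 hSE] at hQ hne
  refine ⟨hSE, ?_⟩
  have := hE.simple
  have hc := h.cardS
  rw [← pow_mul] at hc
  rcases hB.1.tri hE.simple hE.nab with ⟨K, i, j, m, h1, h2, e⟩ | hz | ⟨K, i, j, m, h1, h2, ⟨e⟩⟩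
  · exfalso
    obtain ⟨x, hx, x0⟩ := SetLike.not_le_iff_exists.1 hne
    obtain ⟨⟨z, hz⟩, z1⟩ := (ne_bot_iff_exists_ne_one).1 hA1
    have z1' : z ≠ 1 := fun k => z1 (Subtype.ext k)
    obtain ⟨y, hy, e'⟩ := h.comm x hx x0 z hz
    have y1 : y ≠ 1 := by rintro rfl; exact z1' (by simpa using e'.symm)
    exact z1' (e' ▸ commutatorElement_eq_one_iff_mul_comm.2 (congrArg Subtype.val
      ((Cfsg.Agent.S5748.result hE.nab).2 ⟨K, i, j, m, h1, h2, e⟩ ⟨x, hSE hx⟩ ⟨z, hA hz⟩ ⟨y, hSE hy⟩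
      (fun k => x0 (by rw [show x = 1 from congrArg Subtype.val k]; exact one_mem _))
      (fun k => z1' (congrArg Subtype.val k)) (fun k => y1 (congrArg Subtype.val k))
      (Subtype.ext (h.cen hx z hz).symm) (Subtype.ext (h.cen hy z hz))).eq))
  · exfalso
    obtain ⟨-, m, -, e⟩ := H17.isSuzuki_of_iso hz
    obtain ⟨ρ, hρ, tr⟩ := b.rho
    have h3 := (tr.dvd (b.KN hρ) hA1).trans (orderOf_dvd_natCard _ (b.KE hρ))
    have he : Even (2 ^ (2 * m + 1)) := Nat.even_pow.2 ⟨even_two, by omega⟩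
    have h4 := card_eq_two_pow (k := (2 * m + 1) * 2) hQ (by rw [one_mul, e, mul_assoc, pow_mul]) odd_one
      ((he.pow_of_ne_zero two_ne_zero).add_one.mul (Nat.Even.sub_odd Nat.one_le_two_pow he odd_one))
    rw [hc, Nat.pow_right_inj one_lt_two] at h4
    obtain ⟨k, rfl⟩ : ∃ k, n = 2 * k := ⟨n / 2, by omega⟩
    have h5 : 3 ∣ 2 ^ (2 * k) - 1 := by
      rw [pow_mul]; exact (Nat.sub_dvd_pow_sub_pow 4 1 k).trans (by simp)
    have hq : 2 ^ (2 * m + 1) % 3 = 2 := by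
      rw [pow_succ, pow_mul, Nat.mul_mod, Nat.pow_mod]; simp
    rw [h.cardA, e] at h3
    replace h3 := h5.trans h3
    generalize 2 ^ (2 * m + 1) = q at h3 hq
    obtain ⟨k, rfl⟩ : ∃ k, q = 3 * k + 2 := ⟨q / 3, by omega⟩
    rw [show (3 * k + 2) ^ 2 * ((3 * k + 2) ^ 2 + 1) * (3 * k + 2 - 1) =
      3 * (81 * k ^ 5 + 243 * k ^ 4 + 297 * k ^ 3 + 183 * k ^ 2 + 56 * k + 6) + 2 by
        rw [show 3 * k + 2 - 1 = 3 * k + 1 by omega]; ring] at h3
    omega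
  · have h5 := Cfsg.Agent.S0280.result h2 3 (by norm_num)
    have he : Even (2 ^ m) := Nat.even_pow.2 ⟨even_two, by omega⟩
    have ho := he.add_one
    rw [← mul_assoc, ← Nat.card_congr e.toEquiv, ← pow_mul] at h5
    have h6 := card_eq_two_pow hQ h5 ((ho.of_dvd_nat (Nat.gcd_dvd_right _ _)).mul ho) (by
      simp only [Finset.prod_range_succ]
      norm_num [Nat.odd_mul]
      exact ⟨⟨ho, Nat.Even.sub_odd (Nat.one_le_pow _ _ (by positivity)) (he.pow_of_ne_zero two_ne_zero) odd_one⟩,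
        (he.pow_of_ne_zero three_ne_zero).add_one⟩)
    rw [hc, Nat.pow_right_inj one_lt_two] at h6
    obtain rfl : n = m := by omega
    obtain ⟨e'⟩ := psu_congr (K := F) (h2.trans (by rw [hF, ← pow_mul, mul_comm, pow_mul]; rfl)) 3 (2 ^ n)
    exact ⟨e.trans e'⟩

theorem central (hO : 𝒪((⊤ : Subgroup G)) = ⊥) (hN : ⊤ ≤ 𝒩(A)) : ⊤ ≤ 𝒩(S) := by
  set H := 𝒞(A) with hH
  have hHN : ⊤ ≤ 𝒩(H) := hN.trans (normalizer_le_normalizer_centralizer A)
  have hSH : IsSylowIn 2 S H := hS.of_le h.cen le_top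
  have : A.Normal := H10.normal_of_top_le_NN hN
  let φ := QuotientGroup.mk' A
  have hk : φ.ker = A := QuotientGroup.ker_mk' A
  have hk' : ∀ {x}, φ x = 1 ↔ x ∈ A := by intro x; rw [← MonoidHom.mem_ker, hk]
  have hAH : A ≤ H := h.le.trans h.cen
  have hS' := hSH.map φ
  have h2 : ∀ s ∈ S.map φ, s * s = 1 := by
    rintro _ ⟨x, hx, rfl⟩
    rw [← map_mul, hk']
    exact h.sq x hx
  have hab : S.map φ ≤ 𝒞(S.map φ) := fun x hx y hy => (H6.G9.commute_of_sq h2 hy hx).eq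
  have sc : SC (S.map φ) (H.map φ) := sc_of_sylow hS' le_rfl
    ⟨H10.isMulCommutative_iff_le_CC.2 hab, fun x hx => by rw [pow_two, h2 x hx]⟩ fun _ _ _ _ k => k
  have hcm : (H.map φ).comap φ = H := by rw [comap_map_eq, hk, sup_eq_left.2 hAH]
  have hO' : 𝒪(H.map φ) = ⊥ := by
    set O := 𝒪(H.map φ)
    have h3 : O.comap φ ≤ H := (comap_mono (oppOf_le 2 _)).trans hcm.le
    have hK : O.comap φ ≤ A := (H6.G9.le_sup_core (A := A) ⟨hk.ge.trans (ker_le_comap _ _), (h.sc hS).two,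
      fun Q hQ h1 h3 => le_antisymm (hk ▸ (map_eq_bot_iff Q).1 (H10.eq_bot_of_isPGroup_of_not_dvd (hQ.map φ)
        (map_le_iff_le_comap.2 h3) (not_dvd_card_oppOf Nat.prime_two _))) h1⟩ h3).trans
      (sup_le le_rfl (((((hcm ▸ (SN.of_normal (oppOf_le 2 _) (self_le_normalizer_oppOf 2 _)).comap φ :
        SN _ H).trans (SN.of_normal le_top hHN)).oppOf_le 2).trans hO.le).trans bot_le))
    refine le_bot_iff.1 fun o ho => ?_
    obtain ⟨o, rfl⟩ := QuotientGroup.mk'_surjective A o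
    exact mem_bot.2 (hk'.2 (hK ho))
  have nm : ∀ L, ¬ Mem (S.map φ) (H.map φ) L := fun L hL => by
    obtain ⟨ρ, c⟩ := hL.cd
    have hb := hL.inf_bot hS' hab
    have hLH : L.comap φ ≤ H := (comap_mono hL.le).trans hcm.le
    have hB : mB (S.map φ) L ≤ 𝒞(L) := by
      rw [hL.mB_eq, hO', centMod_bot]; exact inf_le_right
    obtain ⟨_, ⟨⟨x, hx, rfl⟩, hxL⟩, x0⟩ := SetLike.not_le_iff_exists.1 hL.not_le_cent
    replace hxL : φ x ∈ L := hxL
    have x1 : x ∉ A := fun k => x0 (hk'.2 k ▸ one_mem _)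
    obtain ⟨r, hr, rfl⟩ := hL.le c.mem.1
    have key : ∀ y ∈ S, φ y ∈ L → y ∉ A → y * y = x * x := fun y hy h3 h4 => by
      have k0 : ∀ y ∈ S, φ y ∈ L → y ∉ A → φ y ∉ mB (S.map φ) L := fun y hy h3 h4 k =>
        h4 (hk'.1 (mem_bot.1 (hb ▸ ⟨⟨mem_map_of_mem φ hy, h3⟩, k⟩)))
      obtain ⟨m, hm⟩ := c.tr _ (mem_map_of_mem φ hx) (k0 x hx hxL x1) _ (mem_map_of_mem φ (inv_mem hy))
        (k0 _ (inv_mem hy) (map_inv φ y ▸ inv_mem h3) fun k => h4 (inv_mem_iff.1 k))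
      have e : r ^ m * x * (r ^ m)⁻¹ * y⁻¹ ∈ A := by
        rw [← hk', map_mul, map_mul, map_mul, map_inv, map_pow, ← mem_bot, ← hb]
        exact ⟨⟨mB_le _ _ hm, L.mul_mem (L.mul_mem (L.mul_mem (L.pow_mem c.mem.1 m) hxL) (L.inv_mem (L.pow_mem c.mem.1 m)))
          (map_inv φ y ▸ L.inv_mem h3)⟩, hm⟩
      have e2 : r ^ m * x * (r ^ m)⁻¹ * (r ^ m * x * (r ^ m)⁻¹) = x * x := by
        rw [H6.G9.conj_sq, ← pow_mem hr m _ (h.sq x hx), mul_inv_cancel_right]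
      generalize r ^ m * x * (r ^ m)⁻¹ = u at e e2
      obtain ⟨a, rfl⟩ : ∃ a, u = a * y := ⟨u * y⁻¹, by simp⟩
      rw [mul_inv_cancel_right] at e
      rw [← e2, mul_assoc a, ← mul_assoc y, ← h.cen hy a e, ← mul_assoc, ← mul_assoc, (h.sc hS).sq e, one_mul]
    have k1 : ∀ y ∈ S, φ y ∈ mB (S.map φ) L → Commute x y := fun y hy k => by
      have k2 : ⁅⁅L.comap φ, zpowers y⁆, L.comap φ⁆ = ⊥ := by
        refine H10.comm_eq_bot.2 (le_centralizer_iff.1 (hLH.trans (centralizer_anti (commutator_le.2 fun l hl z hz => ?_))))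
        rw [← hk', map_commutatorElement, commutatorElement_eq_one_iff_mul_comm]
        exact zpowers_le.2 (mem_comap.2 (hB k)) hz _ hl
      have k3 := commutator_commutator_eq_bot_of_rotate k2 (by rwa [commutator_comm (zpowers y)])
      have k4 : φ x ∈ ⁅L.comap φ, L.comap φ⁆.map φ := by
        rwa [map_commutator, map_comap_eq_self_of_surjective (QuotientGroup.mk'_surjective A), hL.comp.perfect]
      obtain ⟨l, hl, e⟩ := k4
      rw [MonoidHom.eq_iff, hk] at e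
      have := (show Commute l y from (H10.comm_eq_bot.1 k3 hl y (mem_zpowers y)).symm).mul_left
        (show Commute _ y from h.cen hy _ (inv_mem e))
      simpa using this
    have k2 : A ≤ zpowers (x * x) := fun a ha => by
      obtain ⟨y, hy, rfl⟩ := h.comm x⁻¹ (inv_mem hx) (fun k => x1 (inv_mem_iff.1 k)) a ha
      obtain ⟨_, ⟨⟨v, hv, rfl⟩, hvL⟩, w, hw, e⟩ := (mem_sup_of_le_normalizer' ((mB_le _ _).trans
        (hab.trans ((centralizer_anti inf_le_left).trans (centralizer_le_normalizer _))))).1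
        (hL.sup.ge (mem_map_of_mem φ hy))
      have k3 := k1 (v⁻¹ * y) (mul_mem (inv_mem hv) hy) (by rwa [map_mul, map_inv, ← e, inv_mul_cancel_left])
      have k4 : ⁅x⁻¹, y⁆ = ⁅x⁻¹, v⁆ := by
        calc ⁅x⁻¹, y⁆ = x⁻¹ * v * (v⁻¹ * y * x) * y⁻¹ := by group
          _ = _ := by rw [← k3.eq]; group
      rw [k4]
      by_cases v0 : v ∈ A
      · rw [commutatorElement_eq_one_iff_mul_comm.2 (h.cen (inv_mem hx) v v0).symm]; exact one_mem _
      by_cases v1 : x * v ∈ A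
      · rw [show ⁅x⁻¹, v⁆ = x⁻¹ * x⁻¹ * (x * v * x) * v⁻¹ by group, h.cen hx _ v1]
        simp
      rw [der, key v hv hvL v0, key _ (mul_mem hx hv) (map_mul φ x v ▸ mul_mem hxL hvL) v1,
        inv_mul_cancel, one_mul]
      exact inv_mem (mem_zpowers _)
    have k3 := card_le_of_le k2
    have k4 := orderOf_le_of_pow_eq_one two_pos (h.ea.2 _ (h.sq x hx))
    have := h.four hn
    rw [Nat.card_zpowers] at k3
    omega
  have gen := sc.gen (good _) (M := 𝒩(S.map φ)) (hO'.le.trans bot_le) (fun L hL => (nm L hL).elim) inf_le_right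
  refine (hSH.frattini_sup le_top hHN).ge.trans (sup_le (fun g hg => H10.mem_NN_of_conj_mem fun s hs => ?_)
    inf_le_right)
  have := H10.conj_mem_of_mem_NN (gen (mem_map_of_mem φ hg)) (mem_map_of_mem φ hs)
  rwa [← map_inv, ← map_mul, ← map_mul, ← mem_comap, comap_map_eq, hk, sup_eq_left.2 h.le] at this

theorem main (hO : 𝒪((⊤ : Subgroup G)) = ⊥) {F : Type*} [Field F] [Fintype F]
    (hF : Fintype.card F = 4 ^ n) :
    ⊤ ≤ 𝒩(S) ∨ ∃ E : Subgroup G, E.Normal ∧ S ≤ E ∧ Nonempty (E ≃* PSU 3 F (2 ^ n)) := by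
  by_cases hm : ∃ L, Mem A ⊤ L
  · obtain ⟨L, hL⟩ := hm
    obtain ⟨h1, h2⟩ := h.mem_as hS hn hO hL
    exact Or.inr ⟨L, h1.normal, h.as hS hn h1 h2 (h.mem_not_le hS hn hL) hF⟩
  · exact Or.inl (h.central hS hn hO ((h.sc hS).gen (good _) (hO.le.trans bot_le)
      (fun L hL => (hm ⟨L, hL⟩).elim) inf_le_right))

end U3

end H5.Gd
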