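import Cfsg.Agent.H5.Mt3
import Cfsg.Agent.H1.CIT13
import Cfsg.Agent.H1.Hig2

/-! Martineau's theorem: a normal `2`-subgroup of a CIT-group with Suzuki quotient is elementary. -/

set_option autoImplicit false
set_option linter.unusedSectionVars false
set_option linter.unusedSimpArgs false

namespace H5Mt
open Subgroup Cfsg H10 H1.CIT H26 H26.Sz
open scoped MatrixGroups commutatorElement

universe u
variable {G : Type u} [Group G] [Finite G] {L : Type*} [Group L] {π : G →* L}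

theorem lift_odd (hs : Function.Surjective π) (hQ : IsPGroup 2 π.ker) {l : L} (ho : Odd (orderOf l)) :
    ∃ g, π g = l ∧ Odd (orderOf g) := by
  obtain ⟨g, rfl⟩ := hs l
  obtain ⟨k, hk⟩ := hQ ⟨g ^ orderOf (π g), by rw [MonoidHom.mem_ker, map_pow, pow_orderOf_eq_one]⟩
  replace hk : (g ^ orderOf (π g)) ^ 2 ^ k = 1 := congrArg Subtype.val hk
  have h1 := Nat.ModEq.pow_totient ((Nat.coprime_two_left.2 ho).pow_left k)
  obtain ⟨j, hj⟩ : ∃ j, (orderOf (π g)).totient = j + 1 :=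
    Nat.exists_eq_add_one.2 (Nat.totient_pos.2 ho.pos)
  refine ⟨g ^ (2 ^ k) ^ (orderOf (π g)).totient, ?_, ho.of_dvd_nat (orderOf_dvd_of_pow_eq_one ?_)⟩
  · rw [map_pow, pow_eq_pow_iff_modEq.2 h1, pow_one]
  · rw [← pow_mul, mul_comm, hj, pow_succ', ← mul_assoc, pow_mul, pow_mul, hk, one_pow]

theorem exists_rep (hG : Cit G) (hs : Function.Surjective π) (hQ : IsPGroup 2 π.ker) (V : Subgroup G)
    [V.Normal] (hV : V ≤ π.ker) (hc : ∀ q ∈ π.ker, ∀ v ∈ V, q * v = v * q) :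
    ∃ (N : Type u) (_ : AddCommGroup N) (_ : Finite N) (φ : Representation ℤ L N) (e : N → G),
      Function.Injective e ∧ (∀ a b, e (a + b) = e a * e b) ∧ (∀ v, v ∈ V ↔ ∃ n, e n = v) ∧
      (∀ g n, e (φ (π g) n) = g * e n * g⁻¹) ∧
      ∀ l, Odd (orderOf l) → l ≠ 1 → ∀ n, φ l n = n → n = 0 := by
  let _ : CommGroup V := { (inferInstance : Group V) with
    mul_comm := fun a b => Subtype.ext (hc _ (hV a.2) _ b.2) }
  let c : L →* MulAut V := π.liftOfSurjective hs ⟨MulAut.conjNormal, fun a ha => by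
    ext b
    rw [MulAut.conjNormal_apply, hc a ha b b.2]; simp⟩
  have hcπ : ∀ g, c (π g) = MulAut.conjNormal g := fun g => MonoidHom.liftOfRightInverse_comp_apply ..
  let φ : Representation ℤ L (Additive V) :=
    { toFun := fun g => (MonoidHom.toAdditive (c g).toMonoidHom).toIntLinearMap
      map_one' := by rw [map_one]; rfl
      map_mul' := fun a b => by rw [map_mul]; rfl }
  have hφ : ∀ g m, ((φ (π g) m).toMul : G) = g * m.toMul * g⁻¹ := fun g m => by
    show (c (π g) m.toMul : G) = _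
    rw [hcπ]; rfl
  refine ⟨Additive V, inferInstance, inferInstance, φ, fun m => m.toMul,
    Subtype.val_injective.comp Additive.toMul.injective, fun _ _ => rfl,
    fun v => ⟨fun h => ⟨.ofMul ⟨v, h⟩, rfl⟩, fun ⟨n, h⟩ => h ▸ n.toMul.2⟩, hφ, fun l ho l1 n hn => ?_⟩
  obtain ⟨g, rfl, og⟩ := lift_odd hs hQ ho
  by_contra h0
  have e := hφ g n
  rw [hn, eq_mul_inv_iff_mul_eq] at e
  exact l1 (by rw [hG.two hQ (hV n.toMul.2) (fun e => h0 (Subtype.ext e)) og e, map_one])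

theorem exists_Z {Q : Subgroup G} [hn : Q.Normal] (hQ : IsPGroup 2 Q) (h0 : Q ≠ ⊥) :
    ∃ V : Subgroup G, V.Normal ∧ V ≠ ⊥ ∧ V ≤ Q ∧ (∀ q ∈ Q, ∀ v ∈ V, q * v = v * q) ∧ ∀ v ∈ V, v * v = 1 := by
  let V : Subgroup G :=
    { carrier := {v | v ∈ Q ∧ (∀ q ∈ Q, q * v = v * q) ∧ v * v = 1}
      one_mem' := ⟨one_mem _, by simp, by simp⟩
      mul_mem' := fun {a b} ha hb => ⟨mul_mem ha.1 hb.1, fun q hq => by
        rw [← mul_assoc, ha.2.1 q hq, mul_assoc, hb.2.1 q hq, mul_assoc], by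
        rw [mul_assoc, ← mul_assoc b, ha.2.1 b hb.1, mul_assoc, hb.2.2, mul_one, ha.2.2]⟩
      inv_mem' := fun {a} ha => by rwa [inv_eq_of_mul_eq_one_right ha.2.2] }
  refine ⟨V, ⟨fun v hv g => ⟨hn.conj_mem v hv.1 g, fun q hq => ?_, ?_⟩⟩, ?_, fun v hv => hv.1,
    fun q hq v hv => hv.2.1 q hq, fun v hv => hv.2.2⟩
  · have := hv.2.1 _ (hn.conj_mem' q hq g)
    calc _ = g * (g⁻¹ * q * g * v) * g⁻¹ := by group
      _ = _ := by rw [this]; group
  · calc _ = g * (v * v) * g⁻¹ := by group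
      _ = _ := by rw [hv.2.2]; group
  · obtain ⟨x, hx, ox⟩ := exists_orderOf_eq_of_ne_bot (hQ.to_le inf_le_left)
      (inf_CC_ne_bot hQ le_rfl le_rfl (le_NN_self Q) h0)
    exact fun e => H6.ord2_ne_one ox (e.le (show x ∈ V from ⟨hx.1, hx.2, H6.ord2_mul_self ox⟩))

variable {F : Type*} [Field F] [Fintype F] {m : ℕ} (M : SzModel L F m)

theorem a5_ord : orderOf (a5 M) = 5 := by
  have := M.charP
  have e : M.ρ (a5 M) = !![1, 1, 0, 1; 1, 0, 1, 0; 0, 1, 0, 0; 1, 0, 0, 0] := by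
    rw [a5, x_sq, map_mul, M.ρ_u, M.ρ_w]
    ext i j; fin_cases i <;> fin_cases j <;> simp [uM, wM, ff, Matrix.mul_apply, Fin.sum_univ_four]
  have := Fact.mk Nat.prime_five
  refine orderOf_eq_prime (M.inj ?_) fun h => ?_
  · simp only [map_mul, pow_succ, pow_zero, one_mul, e, map_one]
    ext i j; fin_cases i <;> fin_cases j <;> simp [Matrix.mul_apply, Fin.sum_univ_four] <;> grind
  · rw [h, map_one] at e
    simpa using congrFun (congrFun e 1) 1

variable {M} in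
theorem p5_of {N : Type*} [AddCommGroup N] {φ : Representation ℤ L N}
    (h : ∀ l, Odd (orderOf l) → l ≠ 1 → ∀ n, φ l n = n → n = 0) : P5 M φ := fun y => by
  have e := a5_ord M
  refine h (a5 M) (by rw [e]; decide) (fun h => by rw [h, orderOf_one] at e; omega) _ ?_
  have : φ (a5 M) (φ (a5 M) (φ (a5 M) (φ (a5 M) (φ (a5 M) y)))) = y := by
    have := pow_orderOf_eq_one (a5 M)
    rw [e] at this
    simp only [pow_succ, pow_zero, one_mul, mul_assoc] at this
    simp only [← rmul, this, map_one, Module.End.one_apply]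
  simp only [map_add, this]; abel

include M in
theorem martineau (n : ℕ) : ∀ (G : Type u) [Group G] [Finite G] (π : G →* L), Nat.card G = n → Cit G →
    Function.Surjective π → IsPGroup 2 π.ker → ∀ q ∈ π.ker, q * q = 1 := by
  induction n using Nat.strong_induction_on with
  | _ n ih =>
  intro G _ _ π hn hG hs hQ
  by_cases h0 : π.ker = ⊥
  · intro q hq
    rw [h0.le hq, mul_one]
  obtain ⟨V, _, V0, hV, hc, h2⟩ := exists_Z hQ h0
  let f := QuotientGroup.mk' V
  let π' : G ⧸ V →* L := QuotientGroup.lift V π hV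
  have hπ : ∀ g, π' (f g) = π g := fun _ => rfl
  have hf : Function.Surjective f := QuotientGroup.mk'_surjective V
  have hs' : Function.Surjective π' := fun l => (hs l).elim fun g e => ⟨f g, e⟩
  have hQ' : IsPGroup 2 π'.ker := (hQ.map f).to_le fun x hx => by
    obtain ⟨x, rfl⟩ := hf x
    exact ⟨x, hx, rfl⟩
  have lt : Nat.card (G ⧸ V) < Nat.card G := by
    rw [card_eq_card_quotient_mul_card_subgroup V]
    exact lt_mul_of_one_lt_right Nat.card_pos (V.one_lt_card_iff_ne_bot.2 V0)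
  have k := ih _ (hn ▸ lt) (G ⧸ V) π' rfl (hG.quot hf) hs' hQ'
  have kc : ∀ a ∈ π'.ker, ∀ b ∈ π'.ker, a * b = b * a := fun a ha b hb => by
    rw [← inv_eq_of_mul_eq_one_right (k _ (mul_mem ha hb)), mul_inv_rev,
      inv_eq_of_mul_eq_one_right (k a ha), inv_eq_of_mul_eq_one_right (k b hb)]
  obtain ⟨N, _, _, φ, e, e1, e2, e3, e4, e5⟩ := exists_rep hG hs hQ V hV hc
  obtain ⟨N', _, _, φ', e', e1', e2', e3', e4', e5'⟩ := exists_rep (hG.quot hf) hs' hQ' π'.ker le_rfl kc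
  have e0 : e 0 = 1 := by simpa using e2 0 0
  have mc : ∀ a ∈ π.ker, ∀ b ∈ π.ker, ⁅a, b⁆ ∈ V := fun a ha b hb =>
    (QuotientGroup.eq_one_iff _).1 (show f _ = 1 by
      rw [map_commutatorElement, commutatorElement_eq_one_iff_mul_comm, kc (f a) ha (f b) hb])
  choose s hs1 using fun y => hf (e' y)
  have hs2 : ∀ y, s y ∈ π.ker := fun y => by
    have := (e3' _).2 ⟨y, rfl⟩
    rwa [← hs1] at this
  choose β hβ using fun y z => (e3 _).1 (mc _ (hs2 y) _ (hs2 z))
  have wd : ∀ a ∈ π.ker, ∀ a', f a' = f a → ∀ b ∈ π.ker, ⁅a', b⁆ = ⁅a, b⁆ := fun a ha a' h b hb => by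
    obtain ⟨v, hv, rfl⟩ := (QuotientGroup.mk'_eq_mk' V).1 h.symm
    calc _ = a * (v * b) * v⁻¹ * a⁻¹ * b⁻¹ := by simp only [commutatorElement_def]; group
      _ = _ := by rw [← hc b hb v hv, commutatorElement_def]; group
  have hβ' : ∀ {a b y z}, a ∈ π.ker → b ∈ π.ker → f a = e' y → f b = e' z → e (β y z) = ⁅a, b⁆ :=
    fun {a b y z} ha hb h1 h2 => by
      rw [hβ, wd a ha _ ((hs1 y).trans h1.symm) _ (hs2 z), ← commutatorElement_inv,
        wd b hb _ ((hs1 z).trans h2.symm) _ ha, commutatorElement_inv]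
  have bl : ∀ a ∈ π.ker, ∀ b ∈ π.ker, ∀ c ∈ π.ker, ⁅a * b, c⁆ = ⁅b, c⁆ * ⁅a, c⁆ :=
    fun a ha b hb c h => by
    calc ⁅a * b, c⁆ = a * ⁅b, c⁆ * a⁻¹ * ⁅a, c⁆ := by simp only [commutatorElement_def]; group
      _ = _ := by rw [hc a ha _ (mc b hb c h), mul_inv_cancel_right]
  have a1 : ∀ y y' z, β (y + y') z = β y z + β y' z := fun y y' z => e1 (by
    rw [hβ' (mul_mem (hs2 y) (hs2 y')) (hs2 z) (by rw [map_mul, hs1, hs1, e2']) (hs1 z), add_comm, e2,
      hβ, hβ, bl _ (hs2 y) _ (hs2 y') _ (hs2 z)])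
  have a2 : ∀ y z z', β y (z + z') = β y z + β y z' := fun y z z' => e1 (by
    rw [hβ' (hs2 y) (mul_mem (hs2 z) (hs2 z')) (hs1 y) (by rw [map_mul, hs1, hs1, e2']), e2,
      hβ, hβ, ← commutatorElement_inv, bl _ (hs2 z) _ (hs2 z') _ (hs2 y), mul_inv_rev,
      commutatorElement_inv, commutatorElement_inv])
  have N2 : ∀ n : N, n + n = 0 := fun n => e1 (by rw [e2, e0, h2 _ ((e3 _).2 ⟨n, rfl⟩)])
  have b0 := ztri (M := M) (p5_of e5) N2 (p5_of e5') (AddMonoidHom.mk' (fun y =>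
    (AddMonoidHom.mk' (β y) (a2 y)).toIntLinearMap) fun y y' => LinearMap.ext (a1 y y')).toIntLinearMap
    fun l y z => e1 (by
      obtain ⟨g, rfl⟩ := hs l
      show e (β _ _) = e (φ _ (β _ _))
      have := π.normal_ker.conj_mem
      rw [e4, hβ y z, conjugate_commutatorElement, hβ' (this _ (hs2 y) g) (this _ (hs2 z) g)] <;>
        rw [← hπ, e4', map_mul, map_mul, hs1, map_inv])
  have cm : ∀ a ∈ π.ker, ∀ b ∈ π.ker, a * b = b * a := fun a ha b hb => by
    obtain ⟨y, hy⟩ := (e3' (f a)).1 ha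
    obtain ⟨z, hz⟩ := (e3' (f b)).1 hb
    rw [← commutatorElement_eq_one_iff_mul_comm, ← hβ' ha hb hy.symm hz.symm, ← e0]
    exact congrArg e (b0 y z)
  obtain ⟨E, _, _, ψ, d, d1, d2, d3, -, d5⟩ := exists_rep hG hs hQ π.ker le_rfl cm
  have d0 : d 0 = 1 := by simpa using d2 0 0
  intro q hq
  obtain ⟨y, rfl⟩ := (d3 q).1 hq
  rw [← d2, exp_two (M := M) (p5_of d5) (fun y => d1 ?_), d0]
  rw [d2, d2, d0]
  exact h2 _ ((QuotientGroup.eq_one_iff _).1 (k (f (d y)) ((d3 _).2 ⟨y, rfl⟩)))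

open H4 H1.Hig in
theorem not_psl {F : Type*} [Field F] [Fintype F] (hp : (Fintype.card F).Prime) (h7 : 7 ≤ Fintype.card F)
    {π : G →* PSL(2, F)} (hG : Cit G) (hs : Function.Surjective π) (hQ : IsPGroup 2 π.ker) :
    π.ker = ⊥ := by
  by_contra h0
  obtain ⟨V, _, V0, hV, hc, -⟩ := exists_Z hQ h0
  obtain ⟨N, _, _, φ, e, e1, e2, e3, -, e5⟩ := exists_rep hG hs hQ V hV hc
  have := Fact.mk hp
  have := charP_of_card_eq_prime (R := F) rfl
  let pr : SL(2, F) →* PSL(2, F) := QuotientGroup.mk' _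
  let ψ : SL(2, F) →* Module.End ℤ N := φ.comp pr
  have ne : ∀ k : ℕ, 0 < k → k < 7 → (k : F) ≠ 0 := fun k h1 h2 e => by
    have := Nat.le_of_dvd h1 ((CharP.cast_eq_zero_iff F (Fintype.card F) k).1 e)
    omega
  have n2 : (2 : F) ≠ 0 := ne 2 two_pos (by omega)
  have nc : ∀ g : SL(2, F), g.1 0 1 ≠ 0 → pr g ≠ 1 := fun g h e => by
    obtain ⟨r, -, hr⟩ := Matrix.SpecialLinearGroup.mem_center_iff.1 ((QuotientGroup.eq_one_iff _).1 e)
    exact h (by rw [← hr]; simp)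
  have m1 : pr (-1) = 1 := (QuotientGroup.eq_one_iff _).2 (mem_center_iff.2 fun g => by simp)
  have p3 : ∀ g : SL(2, F), g.1 0 1 ≠ 0 → g * g * g = -1 → ψ g * ψ g + ψ g + 1 = 0 := fun g h1 h2 => by
    have h3 : pr g * pr g * pr g = 1 := by rw [← map_mul, ← map_mul, h2, m1]
    have := Fact.mk Nat.prime_three
    refine LinearMap.ext fun n => e5 (pr g) (by
      rw [orderOf_eq_prime (p := 3) (by rw [pow_three', h3]) (nc g h1)]; decide) (nc g h1) _ ?_
    show φ (pr g) (φ (pr g) (φ (pr g) n) + φ (pr g) n + n) = φ (pr g) (φ (pr g) n) + φ (pr g) n + n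
    simp only [map_add, ← rmul, ← mul_assoc, h3, map_one, Module.End.one_apply]; abel
  have up : ∀ k : ℕ, 0 < k → k < 7 → ∀ n, ψ (upT (k : F)) n = n → n = 0 := fun k h1 h2 =>
    have h3 := nc (upT (k : F)) (ne k h1 h2)
    e5 _ (by
      rw [orderOf_eq_prime (p := Fintype.card F) (by rw [← map_pow, upT_pow]; simp [upT_zero]) h3]
      exact hp.odd_of_ne_two (by omega)) h3
  have y3 : upT (1 : F) * loT (-1) * (upT 1 * loT (-1)) * (upT 1 * loT (-1)) = -1 := by
    apply sl2_ext <;> simp [sl2_mul_apply, coe_upT, coe_loT]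
  have z3 : loT (-1) * upT (1 : F) * (loT (-1) * upT 1) * (loT (-1) * upT 1) = -1 := by
    apply sl2_ext <;> simp [sl2_mul_apply, coe_upT, coe_loT]
  have gen : Subgroup.closure {upT (1 : F) * loT (-1), loT (-1) * upT 1} = ⊤ := by
    set H := Subgroup.closure {upT (1 : F) * loT (-1), loT (-1) * upT 1}
    have hy : upT (1 : F) * loT (-1) ∈ H := subset_closure (by simp)
    have hz : loT (-1) * upT (1 : F) ∈ H := subset_closure (by simp)
    have h2 : upT (-2 : F) ∈ H := by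
      convert mul_mem (mul_mem (mul_mem hy hy) hy) (mul_mem hz hy) using 1
      rw [y3]
      apply sl2_ext <;> simp [sl2_mul_apply, coe_upT, coe_loT]
      norm_num
    refine H12.sl2_eq_top_of_upU (fun x hx => ?_) hy (by simp [sl2_mul_apply, coe_upT, coe_loT])
    obtain ⟨t, rfl⟩ := H12.mem_upU.1 hx
    obtain ⟨j, hj⟩ : ∃ j : ℕ, (j : F) = t / -2 := by
      obtain ⟨j, hj⟩ := (ZMod.ringEquivOfPrime F hp rfl).surjective (t / -2)
      exact ⟨j.val, by rw [← hj, ← map_natCast (ZMod.ringEquivOfPrime F hp rfl), ZMod.natCast_zmod_val]⟩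
    have := pow_mem h2 j
    rwa [upT_pow, hj, div_mul_cancel₀ _ (neg_ne_zero.2 n2)] at this
  have c := (cen ψ (p3 _ (by simp [sl2_mul_apply, coe_upT, coe_loT]) y3)
    (p3 _ (by simp [sl2_mul_apply, coe_upT, coe_loT]) z3) gen (upT 1)
    (dg (Units.mk0 2 n2))).eq
  obtain ⟨v, hv, v1⟩ := (bot_or_exists_ne_one V).resolve_left V0
  obtain ⟨n, rfl⟩ := (e3 v).1 hv
  suffices h : n = 0 by
    rw [h] at v1
    exact v1 (by simpa using e2 0 0)
  refine up 3 (by omega) (by omega) n (sub_eq_zero.1 (up 5 (by omega) (by omega) _ ?_))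
  rw [add_mul, mul_add, upT_inv, ← map_mul, ← map_mul, ← map_mul, ← map_mul, dg_upT, dg_upT, map_mul, map_mul,
    map_mul, map_mul, ← add_mul, ← add_mul] at c
  have c' := congrArg (fun x => ψ (upT 4) * (x * ψ (dg (Units.mk0 2 n2))⁻¹)) c
  simp only [mul_assoc, ← map_mul, mul_inv_cancel, map_one, mul_one, mul_add, ← upT_add] at c'
  have c'' := LinearMap.congr_fun c' n
  norm_num [upT_zero] at c''
  simp only [map_sub, ← Module.End.mul_apply, ← map_mul, ← upT_add]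
  norm_num
  linear_combination (norm := abel) -c''

end H5Mt
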