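/-
Solvability of `Out(G)` from the action on a Sylow 2-subgroup.
-/
import Cfsg.Agent.S0227
import Cfsg.Prelude.Def_KGroupFacts

set_option autoImplicit false
set_option linter.unusedSectionVars false

namespace H5

open Subgroup Cfsg
open scoped Pointwise

variable {G : Type*} [Group G] [Finite G]

/-- Automorphisms of `G` leaving the subgroup `S` invariant. -/
def autStab (S : Subgroup G) : Subgroup (MulAut G) where
  carrier := {φ | ∀ s : G, φ s ∈ S ↔ s ∈ S}
  one_mem' := fun _ => Iff.rfl
  mul_mem' := fun {a b} ha hb s => by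
    rw [MulAut.mul_apply, ha, hb]
  inv_mem' := fun {a} ha s => by
    rw [← ha, MulAut.apply_inv_self]

theorem mem_autStab {S : Subgroup G} {φ : MulAut G} :
    φ ∈ autStab S ↔ ∀ s : G, φ s ∈ S ↔ s ∈ S := Iff.rfl

/-- Restriction of automorphisms to an invariant subgroup. -/
def autRes (S : Subgroup G) : autStab S →* MulAut S where
  toFun φ :=
    { toFun := fun s => ⟨φ.1 s, (φ.2 s).2 s.2⟩
      invFun := fun s => ⟨(φ.1)⁻¹ s, ((autStab S).inv_mem φ.2 s).2 s.2⟩
      left_inv := fun s => Subtype.ext (MulAut.inv_apply_self _ _ _)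
      right_inv := fun s => Subtype.ext (MulAut.apply_inv_self _ _ _)
      map_mul' := fun a b => Subtype.ext (map_mul φ.1 a.1 b.1) }
  map_one' := by ext s; rfl
  map_mul' := fun a b => by ext s; rfl

theorem autRes_apply {S : Subgroup G} (φ : autStab S) (s : S) :
    ((autRes S φ s : S) : G) = φ.1 s := rfl

theorem exists_inn_mul_mem_autStab {p : ℕ} [Fact p.Prime] (S : Sylow p G) (φ : MulAut G) :
    ∃ g : G, MulAut.conj g * φ ∈ autStab (S : Subgroup G) := by
  obtain ⟨g, hg⟩ := MulAction.exists_smul_eq G (φ • S) S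
  refine ⟨g, fun s => ?_⟩
  have h : (MulAut.conj g * φ) • (S : Subgroup G) = S := by
    rw [mul_smul]
    have := congrArg (fun P : Sylow p G => (P : Subgroup G)) hg
    simpa [Sylow.coe_subgroup_smul, Sylow.pointwise_smul_def] using this
  conv_lhs => rw [← h]
  exact Subgroup.smul_mem_pointwise_smul_iff (a := MulAut.conj g * φ) (x := s)

theorem out_solvable_of_autStab {p : ℕ} [Fact p.Prime] (S : Sylow p G)
    (h : Group.IsSolvable (autStab (S : Subgroup G))) : Group.IsSolvable (Out G) := by
  refine Group.isSolvable_of_surjective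
    (f := (QuotientGroup.mk' (Inn G)).comp (autStab (S : Subgroup G)).subtype) ?_
  intro x
  obtain ⟨φ, rfl⟩ := QuotientGroup.mk'_surjective (Inn G) x
  obtain ⟨g, hg⟩ := exists_inn_mul_mem_autStab S φ
  refine ⟨⟨_, hg⟩, ?_⟩
  simp only [MonoidHom.comp_apply, coe_subtype, map_mul]
  have : QuotientGroup.mk' (Inn G) (MulAut.conj g) = 1 :=
    (QuotientGroup.eq_one_iff _).2 ⟨g, rfl⟩
  rw [this, one_mul]

theorem autStab_solvable (hO : ∀ N : Subgroup G, N.Normal → Odd (Nat.card N) → N = ⊥)
    (S : Sylow 2 G) (h : Group.IsSolvable (autRes (S : Subgroup G)).range) :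
    Group.IsSolvable (autStab (S : Subgroup G)) := by
  let C : Subgroup (MulAut G) := ((autRes (S : Subgroup G)).ker).map (autStab _).subtype
  have hC : ∀ φ : MulAut G, φ ∈ C ↔ ∀ s : G, s ∈ S → φ s = s := by
    intro φ
    constructor
    · rintro ⟨ψ, hψ, rfl⟩ s hs
      have := congrArg (fun f : MulAut (S : Subgroup G) => ((f ⟨s, hs⟩ : (S : Subgroup G)) : G))
        ((MonoidHom.mem_ker).1 hψ)
      exact this
    · intro hφ
      have hm : φ ∈ autStab (S : Subgroup G) := by
        intro s
        constructor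
        · intro hs
          have h1 : φ (φ s) = φ s := hφ _ hs
          rw [← φ.injective h1]; exact hs
        · intro hs; rw [hφ s hs]; exact hs
      refine ⟨⟨φ, hm⟩, ?_, rfl⟩
      rw [SetLike.mem_coe, MonoidHom.mem_ker]
      ext s
      exact hφ s.1 s.2
  have hCs := (Cfsg.Agent.S0227.result hO S C hC).2
  have hk : Group.IsSolvable (autRes (S : Subgroup G)).ker := by
    let e : (autRes (S : Subgroup G)).ker ≃* C :=
      Subgroup.equivMapOfInjective _ _ (autStab _).subtype_injective
    exact Group.isSolvable_of_isSolvable_injective (f := e.toMonoidHom) e.injective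
  refine Group.isSolvable_of_ker_le_range (autRes (S : Subgroup G)).ker.subtype
    (autRes (S : Subgroup G)).rangeRestrict ?_
  rw [MonoidHom.ker_rangeRestrict, Subgroup.range_subtype]

theorem odd_normal_eq_bot_of_simple [IsSimpleGroup G] (S : Sylow 2 G)
    (hS1 : (S : Subgroup G) ≠ ⊥) :
    ∀ N : Subgroup G, N.Normal → Odd (Nat.card N) → N = ⊥ := by
  intro N hN hodd
  rcases hN.eq_bot_or_eq_top with h | h
  · exact h
  · exfalso
    subst h
    rw [Subgroup.card_top] at hodd
    obtain ⟨n, hn⟩ := IsPGroup.iff_card.1 S.isPGroup'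
    have hn0 : n ≠ 0 := by
      rintro rfl
      exact hS1 (Subgroup.card_eq_one.1 (by simpa using hn))
    have h2 : 2 ∣ Nat.card G :=
      (hn ▸ dvd_pow_self 2 hn0).trans (Subgroup.card_subgroup_dvd_card (S : Subgroup G))
    exact (Nat.not_even_iff_odd.2 hodd) (even_iff_two_dvd.2 h2)

theorem out_solvable_of_range [IsSimpleGroup G] (S : Sylow 2 G) (hS1 : (S : Subgroup G) ≠ ⊥)
    (h : Group.IsSolvable (autRes (S : Subgroup G)).range) : Group.IsSolvable (Out G) :=
  out_solvable_of_autStab S (autStab_solvable (odd_normal_eq_bot_of_simple S hS1) S h)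

end H5
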