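import Cfsg.Agent.H5.PD1
/-! The table model maps onto a group given by generators and relations. -/
set_option autoImplicit false
namespace H5PD
open Subgroup
variable {G : Type*} [Group G]

structure Rel (k l t r : G) : Prop where
  k4 : k^4 = 1
  l4 : l^4 = 1
  kl : k*l = l*k
  tt : t*t = 1
  rr : r*r = 1
  tr : t*r = r*t
  tk : t*k*t = k⁻¹
  tl : t*l*t = l⁻¹
  rk : r*k*r = k
  rl : r*l*r = k⁻¹*l⁻¹

def F (k l t r : G) (n : ℕ) : G := k ^ (n % 4) * l ^ (n / 4 % 4) * t ^ (n / 16 % 2) * r ^ (n / 32 % 2)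

theorem pow_mod' {g : G} {n : ℕ} (h : g ^ n = 1) (i : ℕ) : g ^ (i % n) = g ^ i := (pow_eq_pow_mod i h).symm

theorem sw_pow {t g h : G} (e : t * g = h * t) (i : ℕ) : t * g ^ i = h ^ i * t := by
  induction i with
  | zero => simp
  | succ i ih => rw [pow_succ, ← mul_assoc, ih, mul_assoc, e, pow_succ, mul_assoc]

theorem inv_eq_cube {g : G} (h : g ^ 4 = 1) : g⁻¹ = g ^ 3 := by
  rw [inv_eq_iff_mul_eq_one, ← pow_succ']; exact h

namespace Rel
variable {k l t r : G} (R : Rel k l t r)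
include R

theorem tk' : t * k = k ^ 3 * t := by
  rw [← inv_eq_cube R.k4, ← R.tk, mul_assoc, R.tt, mul_one]
theorem tl' : t * l = l ^ 3 * t := by
  rw [← inv_eq_cube R.l4, ← R.tl, mul_assoc, R.tt, mul_one]
theorem rk' : r * k = k * r := by
  conv_rhs => rw [← R.rk, mul_assoc, R.rr, mul_one]
theorem rl' : r * l = (k ^ 3 * l ^ 3) * r := by
  rw [← inv_eq_cube R.k4, ← inv_eq_cube R.l4, ← R.rl, mul_assoc, R.rr, mul_one]
theorem ckl : Commute k l := R.kl

theorem tsw (a : ℕ) (ha : a < 2) (i j : ℕ) :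
    t ^ a * (k ^ i * l ^ j) = k ^ ((1 + 2 * a) * i) * l ^ ((1 + 2 * a) * j) * t ^ a := by
  interval_cases a
  · simp
  · rw [pow_one, ← mul_assoc, sw_pow R.tk', mul_assoc, sw_pow R.tl', ← pow_mul, ← pow_mul, mul_assoc]

theorem rsw (b : ℕ) (hb : b < 2) (i j : ℕ) :
    r ^ b * (k ^ i * l ^ j) = k ^ (i + 3 * b * j) * l ^ ((1 + 2 * b) * j) * r ^ b := by
  interval_cases b
  · simp
  · rw [pow_one, ← mul_assoc, sw_pow R.rk', mul_assoc, sw_pow R.rl', ((R.ckl.pow_pow 3 3).mul_pow), ← pow_mul, ← pow_mul,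
      pow_add]
    simp [mul_assoc]

theorem F_mf (x y : ℕ) : F k l t r (mf x y) = F k l t r x * F k l t r y := by
  have t2 : t ^ 2 = 1 := by rw [pow_two, R.tt]
  have r2 : r ^ 2 = 1 := by rw [pow_two, R.rr]
  have ctr : Commute t r := R.tr
  unfold F mf
  have ha : x / 16 % 2 < 2 := Nat.mod_lt _ (by norm_num)
  have hb : x / 32 % 2 < 2 := Nat.mod_lt _ (by norm_num)
  generalize x % 4 = i, x / 4 % 4 = j, x / 16 % 2 = a, x / 32 % 2 = b, y % 4 = i', y / 4 % 4 = j', y / 16 % 2 = a',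
    y / 32 % 2 = b' at ha hb ⊢
  generalize hI : i + (1 + 2 * a) * (i' + 3 * b * j') = I
  generalize hJ : j + (1 + 2 * a) * ((1 + 2 * b) * j') = J
  have e1 : (I % 4 + 4 * (J % 4) + 16 * ((a + a') % 2) + 32 * ((b + b') % 2)) % 4 = I % 4 := by omega
  have e2 : (I % 4 + 4 * (J % 4) + 16 * ((a + a') % 2) + 32 * ((b + b') % 2)) / 4 % 4 = J % 4 := by omega
  have e3 : (I % 4 + 4 * (J % 4) + 16 * ((a + a') % 2) + 32 * ((b + b') % 2)) / 16 % 2 = (a + a') % 2 := by omega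
  have e4 : (I % 4 + 4 * (J % 4) + 16 * ((a + a') % 2) + 32 * ((b + b') % 2)) / 32 % 2 = (b + b') % 2 := by omega
  rw [e1, e2, e3, e4, pow_mod' R.k4, pow_mod' R.l4, pow_mod' t2, pow_mod' r2, ← hI, ← hJ]
  symm
  calc k ^ i * l ^ j * t ^ a * r ^ b * (k ^ i' * l ^ j' * t ^ a' * r ^ b')
      = k ^ i * l ^ j * (t ^ a * (r ^ b * (k ^ i' * l ^ j'))) * t ^ a' * r ^ b' := by simp only [mul_assoc]
    _ = k ^ i * l ^ j * (t ^ a * (k ^ (i' + 3 * b * j') * l ^ ((1 + 2 * b) * j'))) * (r ^ b * t ^ a') * r ^ b' := by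
      rw [R.rsw b hb]; simp only [mul_assoc]
    _ = k ^ i * (l ^ j * k ^ ((1 + 2 * a) * (i' + 3 * b * j'))) * l ^ ((1 + 2 * a) * ((1 + 2 * b) * j')) * t ^ a *
        (t ^ a' * r ^ b) * r ^ b' := by
      rw [R.tsw a ha, (ctr.pow_pow a' b).eq]; simp only [mul_assoc]
    _ = _ := by
      rw [← (R.ckl.pow_pow _ j).eq, pow_add, pow_add, pow_add, pow_add]; simp only [mul_assoc]

omit R in
theorem F_mod (x : ℕ) : F k l t r (x % 64) = F k l t r x := by
  unfold F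
  rw [show x % 64 % 4 = x % 4 by omega, show x % 64 / 4 % 4 = x / 4 % 4 by omega,
    show x % 64 / 16 % 2 = x / 16 % 2 by omega, show x % 64 / 32 % 2 = x / 32 % 2 by omega]

theorem F_mu (x y : ℕ) : F k l t r (mu x y) = F k l t r x * F k l t r y := by
  have : mu x y = mu (x % 64) (y % 64) := by unfold mu; rw [Nat.mod_mod, Nat.mod_mod]
  rw [this, mu_mf _ (Nat.mod_lt _ (by norm_num)) _ (Nat.mod_lt _ (by norm_num)), R.F_mf, F_mod, F_mod]

omit R in
theorem F0 : F k l t r 0 = 1 := by simp [F]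
omit R in
theorem F1 : F k l t r 1 = k := by simp [F]
omit R in
theorem F2 : F k l t r 2 = k * k := by simp [F, pow_two]
omit R in
theorem F4 : F k l t r 4 = l := by simp [F]
omit R in
theorem F8 : F k l t r 8 = l * l := by simp [F, pow_two]
omit R in
theorem F16 : F k l t r 16 = t := by simp [F]
omit R in
theorem F32 : F k l t r 32 = r := by simp [F]
theorem F48 : F k l t r 48 = r * t := by simp [F, R.tr]
theorem F19 : F k l t r 19 = t * k := by simp [F, R.tk']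

theorem F_pw (x n : ℕ) : F k l t r (pw x n) = F k l t r x ^ n := by
  induction n with
  | zero => simp [pw, F0]
  | succ n ih => rw [pw, R.F_mu, ih, pow_succ]

theorem F_pr (w : List ℕ) : F k l t r (pr w) = (w.map (F k l t r)).prod := by
  induction w with
  | nil => simp [pr, F0]
  | cons x w ih => rw [pr, R.F_mu, ih, List.map_cons, List.prod_cons]

omit R in
theorem F_mem (x : ℕ) : F k l t r x ∈ closure ({k, l, t, r} : Set G) := by
  unfold F
  refine mul_mem (mul_mem (mul_mem (pow_mem ?_ _) (pow_mem ?_ _)) (pow_mem ?_ _)) (pow_mem ?_ _) <;>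
    exact subset_closure (by simp)

theorem mem_S {g : G} (h : g ∈ closure ({k, l, t, r} : Set G)) : ∃ m < 64, F k l t r m = g := by
  induction h using closure_induction with
  | mem x hx =>
    simp only [Set.mem_insert_iff, Set.mem_singleton_iff] at hx
    rcases hx with rfl | rfl | rfl | rfl
    exacts [⟨1, by norm_num, F1⟩, ⟨4, by norm_num, F4⟩, ⟨16, by norm_num, F16⟩, ⟨32, by norm_num, F32⟩]
  | one => exact ⟨0, by norm_num, F0⟩
  | mul a b _ _ ha hb =>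
    obtain ⟨m, -, rfl⟩ := ha
    obtain ⟨n, -, rfl⟩ := hb
    exact ⟨mu m n, mu_lt _ _, R.F_mu _ _⟩
  | inv a _ ha =>
    obtain ⟨m, hm, rfl⟩ := ha
    obtain ⟨n, hn, e, -⟩ := I_chk m hm
    exact ⟨n, hn, eq_inv_of_mul_eq_one_left (by rw [← R.F_mu, e, F0])⟩

theorem mem_Q {g : G} (h : g ∈ closure ({k, l * l, t, r} : Set G)) : ∃ m < 64, m / 4 % 2 = 0 ∧ F k l t r m = g := by
  induction h using closure_induction with
  | mem x hx =>
    simp only [Set.mem_insert_iff, Set.mem_singleton_iff] at hx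
    rcases hx with rfl | rfl | rfl | rfl
    exacts [⟨1, by norm_num, by norm_num, F1⟩, ⟨8, by norm_num, by norm_num, F8⟩, ⟨16, by norm_num, by norm_num, F16⟩,
      ⟨32, by norm_num, by norm_num, F32⟩]
  | one => exact ⟨0, by norm_num, by norm_num, F0⟩
  | mul a b _ _ ha hb =>
    obtain ⟨m, hm, m2, rfl⟩ := ha
    obtain ⟨n, hn, n2, rfl⟩ := hb
    exact ⟨mu m n, mu_lt _ _, Q_chk m hm n hn m2 n2, R.F_mu _ _⟩
  | inv a _ ha =>
    obtain ⟨m, hm, m2, rfl⟩ := ha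
    obtain ⟨n, hn, e, e2⟩ := I_chk m hm
    exact ⟨n, hn, e2 m2, eq_inv_of_mul_eq_one_left (by rw [← R.F_mu, e, F0])⟩

theorem inj (c64 : Nat.card (closure ({k,l,t,r} : Set G)) = 64) {x y : ℕ} (hx : x < 64) (hy : y < 64)
    (h : F k l t r x = F k l t r y) : x = y := by
  let f : Fin 64 → closure ({k,l,t,r} : Set G) := fun i => ⟨F k l t r i, F_mem _⟩
  have hs : Function.Surjective f := fun g => by
    obtain ⟨m, hm, e⟩ := R.mem_S g.2
    exact ⟨⟨m, hm⟩, Subtype.ext e⟩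
  have hb := hs.bijective_of_nat_card_le (by rw [c64]; simp)
  have := hb.1 (a₁ := ⟨x, hx⟩) (a₂ := ⟨y, hy⟩) (Subtype.ext h)
  exact congrArg Fin.val this

theorem F_ex {x : G} {p1 p2 p3 p4 : ℕ} (h1 : x * t * x⁻¹ = F k l t r p1) (h2 : x * r * x⁻¹ = F k l t r p2)
    (h3 : x * (t * k) * x⁻¹ = F k l t r p3) (h4 : x * (l * l) * x⁻¹ = F k l t r p4) {m : ℕ} (hm : m / 4 % 2 = 0) :
    F k l t r (ex p1 p2 p3 p4 m) = x * F k l t r m * x⁻¹ := by
  have hk : F k l t r p1 * F k l t r p3 = x * k * x⁻¹ := by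
    rw [← h1, ← h3]
    calc _ = x * (t * t * k) * x⁻¹ := by group
      _ = _ := by rw [R.tt, one_mul]
  rw [ex, R.F_mu, R.F_mu, R.F_mu, R.F_pw, R.F_pw, R.F_pw, R.F_pw, R.F_mu, hk, ← h1, ← h2, ← h4, conj_pow, conj_pow,
    conj_pow, conj_pow, F, show m / 4 % 4 = 2 * (m / 8 % 2) by omega, pow_mul, pow_two]
  group

end Rel
end H5PD
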