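import Cfsg.Agent.H26.JRy
import Cfsg.Agent.H26.JRU

/-! Groups of Ree type have non-abelian Sylow `3`-subgroups. -/

set_option autoImplicit false
set_option linter.unusedSectionVars false

namespace H26.J

open Subgroup Cfsg H1 _root_.H15 H16 H16.GD
open scoped commutatorElement

variable {G : Type*} [Group G] {S P Y Q B : Subgroup G} {p n ρ τ f : ℕ} {t s ν a u v : G}

theorem fix_or_inv (hc : Q ≤ C[Q]) (hQ : Q ≤ B) (ti : ∀ g, g ∉ B → ∀ x ∈ Q, g⁻¹ * x * g ∈ B → x = 1)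
    (hs : s ∉ B) (s2 : s * s = 1) (hν : ν ∉ B) (n2 : ν * ν = 1) (ht : t ∈ N[Q]) (ts : t * s * t⁻¹ = s)
    (tn : t * ν * t⁻¹ = ν) (ha : a ∈ Q) (a1 : a ≠ 1) (a3 : a ^ 3 = 1) (hu : u ∈ Q) (hv : v ∈ Q)
    (e : s * a * s = u * ν * v) : t * a * t⁻¹ = a ∨ t * a * t⁻¹ = a⁻¹ := by
  have si := inv_eq_of_mul_eq_one_right s2
  have ni := inv_eq_of_mul_eq_one_right n2
  have inj : ∀ a ∈ Q, a ≠ 1 → ∀ u ∈ Q, ∀ v, s * a * s = u * ν * v → ∀ b ∈ Q, ∀ w ∈ Q, ∀ z,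
      s * b * s = w * ν * z → z * w = v * u → b = a := fun a ha a1 u hu v e b hb w hw z e' k => by
    have k1 : (s⁻¹ * (u * w⁻¹) * s)⁻¹ * a * (s⁻¹ * (u * w⁻¹) * s) = b := by
      calc _ = s⁻¹ * (w * u⁻¹ * (s * a * s⁻¹) * u * w⁻¹) * s := by group
        _ = s⁻¹ * (w * ν * (v * u) * w⁻¹) * s := by rw [si, e]; group
        _ = s⁻¹ * (s * b * s⁻¹) * s := by rw [← k, si, e']; group
        _ = b := by group
    have k2 := ti s hs _ (mul_mem hu (inv_mem hw)) (by_contra fun k => a1 (ti _ k a ha (k1 ▸ hQ hb)))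
    rw [← k1, k2]; group
  have uq : ∀ y, (ν * y) ^ 3 = 1 → ν * y * ν = y⁻¹ * ν * y⁻¹ := fun y k => by
    calc _ = (ν * y) ^ 3 * (y⁻¹ * ν⁻¹ * y⁻¹) := by simp [pow_succ, mul_assoc]
      _ = _ := by rw [k, ni, one_mul]
  have hy := mul_mem hv hu
  have hz := conj_mem ht hy
  have e1 : s * (t * a * t⁻¹) * s = t * u * t⁻¹ * ν * (t * v * t⁻¹) := by
    calc _ = t * s * t⁻¹ * (t * a * t⁻¹) * (t * s * t⁻¹) := by rw [ts]
      _ = t * (s * a * s) * t⁻¹ := by group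
      _ = t * u * t⁻¹ * (t * ν * t⁻¹) * (t * v * t⁻¹) := by rw [e]; group
      _ = _ := by rw [tn]
  have e2 : s * a⁻¹ * s = v⁻¹ * ν * u⁻¹ := by
    simpa only [mul_inv_rev, si, ni, mul_assoc] using congrArg Inv.inv e
  have y3 : (ν * (v * u)) ^ 3 = 1 := by
    have : ν * (v * u) = u⁻¹ * s * a * (u⁻¹ * s)⁻¹ :=
      calc _ = u⁻¹ * (u * ν * v) * u := by group
        _ = _ := by rw [← e, mul_inv_rev, si]; group
    rw [this, conj_pow, a3]
    group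
  have z3 : (ν * (t * (v * u) * t⁻¹)) ^ 3 = 1 := by
    rw [← tn, show t * ν * t⁻¹ * (t * (v * u) * t⁻¹) = t * (ν * (v * u)) * t⁻¹ by group, conj_pow, y3]
    group
  have k : t * v * t⁻¹ * (t * u * t⁻¹) = t * (v * u) * t⁻¹ := by group
  by_cases w1 : (v * u)⁻¹ * (t * (v * u) * t⁻¹)⁻¹ = 1
  · refine Or.inr (inj _ (inv_mem ha) (inv_ne_one.2 a1) _ (inv_mem hv) _ e2 _ (conj_mem ht ha) _ (conj_mem ht hu) _ e1 ?_)
    rw [k, ← mul_inv_rev, eq_inv_of_mul_eq_one_left w1, inv_inv]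
  refine Or.inl (inj _ ha a1 _ hu _ e _ (conj_mem ht ha) _ (conj_mem ht hu) _ e1 (k.trans ?_))
  generalize t * (v * u) * t⁻¹ = z at *
  generalize v * u = y at *
  have k1 : ν * y * ν * (ν * z * ν) = ν * z * ν * (ν * y * ν) := by
    calc _ = ν * (y * (ν * ν) * z) * ν := by group
      _ = ν * (z * (ν * ν) * y) * ν := by rw [n2, mul_one, mul_one, hc hz y hy]
      _ = _ := by group
  rw [uq y y3, uq z z3] at k1
  refine mul_inv_eq_one.1 (ti (ν⁻¹ * (y⁻¹ * z⁻¹) * ν) (fun k => w1 (ti ν hν _ (mul_mem (inv_mem hy) (inv_mem hz)) k)) _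
    (mul_mem hz (inv_mem hy)) ?_)
  convert hQ (mul_mem (inv_mem hy) hz) using 1
  calc _ = (ν⁻¹ * (y⁻¹ * z⁻¹) * ν)⁻¹ * z * (y⁻¹ * ν⁻¹ * y⁻¹ * (z⁻¹ * ν * z⁻¹)) * z := by group
    _ = (ν * (y⁻¹ * z⁻¹) * ν)⁻¹ * (ν * (y * z)⁻¹ * ν) * (y⁻¹ * z) := by rw [ni, k1]; group
    _ = _ := by rw [hc hz y hy]; group

theorem UQ.not_comm [Finite G] (h : JR S 3 n ρ τ f) (c : C3 S t s P Y) (q : UQ S t P Y Q B) : ¬ Q ≤ C[Q] := by
  classical
  intro hc
  have := Fintype.ofFinite G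
  obtain ⟨-, k1, k2, k3, -⟩ := h.main3 c q
  have ot := q.ot h c
  have hQ := q.le h c
  have hs := q.s_not_mem h c
  have ti : ∀ g, g ∉ B → ∀ x ∈ Q, g⁻¹ * x * g ∈ B → x = 1 := fun g hg x hx k =>
    eq_one_of_mem_bot (q.semi g hg) ⟨hx, mem_cj.2 k⟩
  have s2 := h.rf.sq s c.sS
  have ts : t * s = s * t := h.comm c.sS t c.tS
  have tN := q.le_norm h c (q.t_mem h c)
  have key : ∀ a ∈ Q, a ≠ 1 → a ^ 3 = 1 → t * a * t⁻¹ = a ∨ t * a * t⁻¹ = a⁻¹ := fun a ha a1 a3 => by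
    obtain ⟨u, hu, b, hb, e⟩ := Hk.bruhat (k1 ▸ k2) hs hQ (q.semi s hs) (g := s * a * s)
      fun k => a1 (ti s hs a ha (by rwa [inv_eq_of_mul_eq_one_right s2]))
    rw [k3, sup_comm] at hb
    obtain ⟨b, hb', v, hv, rfl⟩ := (mem_sup_r (le_sup_right.trans (k3.ge.trans (q.le_norm h c)))).1 hb
    have hB : b ∈ B := k3.ge (mem_sup_right hb')
    obtain ⟨r, hr, y, hy, rfl⟩ := (mem_sup_l ((q.Y_cent h c).trans (cent1_le_norm t))).1 hb'
    have c1 : Commute t y := (mem_centralizer_singleton_iff.1 (q.Y_cent h c hy)).symm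
    obtain ⟨i, rfl⟩ := hr
    refine fix_or_inv hc hQ ti hs s2 (ν := s * (t ^ i * y)) (fun k => hs ((mul_mem_cancel_right hB).1 k)) ?_ tN
      (by rw [ts, mul_inv_cancel_right]) ?_ ha a1 a3 hu hv (by rw [e]; group)
    · rw [← (Commute.zpow_left ts i).left_comm, ((Commute.mul_right ts c1).zpow_left i).symm.mul_mul_mul_comm,
        ← (Commute.refl t).mul_zpow, sq_of_ord ot, show s * y * (s * y) = s * y * s⁻¹ * (s * s) * y by group,
        h.c3_inv rfl c hy, s2]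
      simp
    · rw [((show Commute t s from ts).mul_right ((Commute.self_zpow t i).mul_right c1)).eq, mul_inv_cancel_right]
  obtain ⟨x, hx, x0⟩ := SetLike.exists_of_lt (lt_of_le_of_ne (q.P_le h c) fun e => by
    have k4 := (h.c3_card rfl c).1
    have := q.q_ge h c
    rw [e, k1] at k4
    nlinarith [Nat.pow_le_pow_left this 2])
  have k4 : ⁅x, t⁆ ∈ Q := by
    rw [commutatorElement_def, mul_assoc, mul_assoc, ← mul_assoc t]
    exact mul_mem hx (conj_mem tN (inv_mem hx))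
  obtain ⟨b, hb, ob⟩ := H10.exists_orderOf_eq_of_ne_bot ((pg_iff.1 (q.pg h c)).to_le (zpowers_le.2 k4))
    (zpowers_ne_bot.2 fun e => x0 (q.inf.le ⟨hx, mem_centralizer_singleton_iff.2
      (commutatorElement_eq_one_iff_mul_comm.1 e)⟩))
  have bi := J8f.inv_zp (inv_comm ot x) hb
  replace hb := zpowers_le.2 k4 hb
  obtain ⟨a, ha, a1⟩ := exists_ne_one (q.P_ne h c)
  have a3 := (q.P_ea h c).2 a ha
  have b3 : b ^ 3 = 1 := ob ▸ pow_orderOf_eq_one b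
  have ac : a * t = t * a := mem_centralizer_singleton_iff.1 (q.inf.ge ha).2
  replace ha := q.P_le h c ha
  have cab : Commute a b := hc hb a ha
  have o : ∀ {x : G}, x ^ 3 = 1 → x = x⁻¹ → x = 1 := fun k e => by
    rwa [pow_succ, sq, mul_eq_one_iff_eq_inv.2 e, one_mul] at k
  have e : t * (a * b) * t⁻¹ = a * b⁻¹ := by rw [← bi, ← mul_assoc t, ← ac]; group
  have b1 := H10.ne_one_of_orderOf_eq ob
  rcases key _ (mul_mem ha hb) (fun k => a1 (o a3 (by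
    rw [k, ← eq_inv_of_mul_eq_one_left k, mul_one, mul_inv_cancel] at e; exact eq_inv_of_mul_eq_one_left e.symm)))
    (by rw [cab.mul_pow, a3, b3, one_mul]) with k | k <;> rw [e] at k
  · exact b1 (o b3 (mul_left_cancel k).symm)
  · rw [cab.eq, mul_inv_rev] at k
    exact a1 (o a3 (mul_right_cancel k))

theorem JR.isoJ1_of_comm [Finite G] (h : JR S p n ρ τ f) (hc : ∀ Q : Sylow 3 G, IsMulCommutative Q) :
    Spor.IsoJ1 G := by
  rcases h.three_or with rfl | rfl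
  · obtain ⟨t, ht, h1⟩ := h.exists_inv
    obtain ⟨s, P, Y, c⟩ := h.exists_c3 rfl ht h1
    obtain ⟨Q, B, q⟩ := h.exists_uq c
    obtain ⟨R, hR⟩ := (pg_iff.1 (q.pg h c)).exists_le_sylow
    exact (q.not_comm h c (hR.trans ((comm_iff.1 (hc R)).trans (cent_anti hR)))).elim
  · exact h.isoJ1

end H26.J
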