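import Cfsg.Agent.H25.BW2
import Cfsg.Agent.H25.Tri4

/-! Arithmetic of the characters of a group with a Sylow `3`-normaliser `3² : D₈`. -/

set_option autoImplicit false
set_option linter.unusedSectionVars false

namespace H25

open Finset

variable {ι : Type*} [Fintype ι] [DecidableEq ι] {x d U V : ι → ℤ} {o : ι}

theorem three_pos (d0 : ∀ i, 0 < d i) (sd : ∑ i, x i * d i = 0) (sU : ∑ i, x i * U i = 0)
    (sV : ∑ i, x i * V i = 0) {α β γ : ℚ} (hU : ∑ i, (U i * U i * x i : ℚ) / d i = α)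
    (hUV : ∑ i, (U i * V i * x i : ℚ) / d i = β) (hV : ∑ i, (V i * V i * x i : ℚ) / d i = γ) (a0 : 0 < α)
    (det : β ^ 2 < α * γ) : ∃ p q r, p ≠ q ∧ p ≠ r ∧ q ≠ r ∧ 0 < x p ∧ 0 < x q ∧ 0 < x r := by
  have key : ∀ l m n : ℤ, (∀ i, 0 < x i → l * U i + m * V i + n * d i = 0) → l = 0 ∧ m = 0 := fun l m n h => by
    have e : (l : ℚ) ^ 2 * α + 2 * l * m * β + m ^ 2 * γ + 2 * n * l * (∑ i, x i * U i : ℤ) +
        2 * n * m * (∑ i, x i * V i : ℤ) + n ^ 2 * (∑ i, x i * d i : ℤ) =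
        ∑ i, ((l * U i + m * V i + n * d i : ℤ) ^ 2 * x i : ℚ) / d i := by
      rw [← hU, ← hUV, ← hV]
      push_cast
      simp only [mul_sum, ← sum_add_distrib]
      refine sum_congr rfl fun i _ => ?_
      have : (d i : ℚ) ≠ 0 := by exact_mod_cast (d0 i).ne'
      field_simp
      ring
    have k : ∑ i, ((l * U i + m * V i + n * d i : ℤ) ^ 2 * x i : ℚ) / d i ≤ 0 := sum_nonpos fun i _ => by
      rcases lt_or_ge 0 (x i) with k | k
      · simp [h i k]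
      · exact div_nonpos_of_nonpos_of_nonneg (mul_nonpos_of_nonneg_of_nonpos (sq_nonneg _) (by exact_mod_cast k))
          (by exact_mod_cast (d0 i).le)
    rw [← e, sd, sU, sV] at k
    have k1 : (l * α + m * β) ^ 2 + m ^ 2 * (α * γ - β ^ 2) ≤ 0 := by push_cast at k; nlinarith
    have k2 : (m : ℚ) = 0 := by
      by_contra k2
      have := mul_pos (sq_pos_of_ne_zero k2) (sub_pos.2 det)
      nlinarith [sq_nonneg (l * α + m * β)]
    rw [k2] at k1
    have k3 : (l : ℚ) * α = 0 := by nlinarith [sq_nonneg (l * α)]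
    exact ⟨by exact_mod_cast (mul_eq_zero.1 k3).resolve_right a0.ne', by exact_mod_cast k2⟩
  by_contra! hc
  obtain ⟨p, hp⟩ : ∃ p, 0 < x p := by
    by_contra! k
    exact one_ne_zero (key 1 0 0 fun i hi => absurd hi (k i).not_gt).1
  obtain ⟨q, hq⟩ : ∃ q, ∀ i, 0 < x i → i = p ∨ i = q := by
    by_cases k : ∃ q, q ≠ p ∧ 0 < x q
    · obtain ⟨q, h1, h2⟩ := k
      refine ⟨q, fun i hi => by_contra fun k => ?_⟩
      rw [not_or] at k
      exact (hc p q i h1.symm (Ne.symm k.1) (Ne.symm k.2) hp h2).not_gt hi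
    · exact ⟨p, fun i hi => Or.inl (by_contra fun e => k ⟨i, e, hi⟩)⟩
  obtain ⟨k1, k2⟩ := key (V p * d q - V q * d p) (d p * U q - d q * U p) (U p * V q - U q * V p) fun i hi => by
    rcases hq i hi with rfl | rfl <;> ring
  refine (d0 p).ne' (key (d p) 0 (-U p) fun i hi => ?_).1
  rcases hq i hi with rfl | rfl
  · ring
  · linear_combination k2

/-- a vector with entries `1, 1, 1, -1` -/
structure Sg (x d : ι → ℤ) : Prop where
  val : ∀ i, x i = 0 ∨ x i = 1 ∨ x i = -1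
  sum : ∑ i, x i = 2
  uq : ∀ i j, x i = -1 → x j = -1 → i = j
  deg : ∀ o, (∀ i, i ≠ o → x i ≠ 0 → 4 ≤ d i) → ∀ i, x i = -1 → 9 ≤ d i

theorem Sg.of (d0 : ∀ i, 0 < d i) (sd : ∑ i, x i * d i = 0) (sx : ∑ i, x i ^ 2 = 4)
    (h : ∃ p q r, p ≠ q ∧ p ≠ r ∧ q ≠ r ∧ 0 < x p ∧ 0 < x q ∧ 0 < x r) : Sg x d := by
  obtain ⟨p, q, r, pq, pr, qr, hp, hq, hr⟩ := h
  obtain ⟨m, hm⟩ : ∃ m, x m < 0 := by
    by_contra! k
    have := single_le_sum (f := fun i => x i * d i) (fun i _ => mul_nonneg (k i) (d0 i).le) (mem_univ p)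
    nlinarith [mul_pos hp (d0 p)]
  have mp : m ≠ p := by rintro rfl; omega
  have mq : m ≠ q := by rintro rfl; omega
  have mr : m ≠ r := by rintro rfl; omega
  have s4 : ∀ F : ι → ℤ, ∑ i ∈ {m, p, q, r}, F i = F m + F p + F q + F r := fun F => by
    rw [sum_insert (by simp [mp, mq, mr]), sum_insert (by simp [pq, pr]), sum_pair qr]; ring
  have le : ∑ i ∈ {m, p, q, r}, x i ^ 2 ≤ 4 := sx ▸ sum_le_sum_of_subset_of_nonneg (subset_univ _) fun _ _ _ => sq_nonneg _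
  rw [s4] at le
  have e1 : x m = -1 := by nlinarith
  have e2 : x p = 1 := by nlinarith
  have e3 : x q = 1 := by nlinarith
  have e4 : x r = 1 := by nlinarith
  have z : ∀ i, i ∉ ({m, p, q, r} : Finset ι) → x i = 0 := fun i hi =>
    sq_supp (by rw [s4, sx, e1, e2, e3, e4]; norm_num) hi
  have c : ∀ i, i = m ∨ (x i = 0 ∨ x i = 1) := fun i => by
    by_cases k : i ∈ ({m, p, q, r} : Finset ι)
    · simp only [mem_insert, mem_singleton] at k
      rcases k with rfl | rfl | rfl | rfl <;> simp [*]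
    · simp [z i k]
  refine ⟨fun i => ?_, ?_, fun i j hi hj => ?_, fun o ho i hi => ?_⟩
  · rcases c i with rfl | k <;> omega
  · rw [sum_supp z, s4]; omega
  · rw [(c i).resolve_right (by omega), (c j).resolve_right (by omega)]
  · rw [sum_supp (A := {m, p, q, r}) fun i hi => by rw [z i hi, zero_mul], s4, e1, e2, e3, e4] at sd
    rw [(c i).resolve_right (by omega)]
    have := d0 p
    have := d0 q
    have := d0 r
    have := fun k => ho p k (by omega)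
    have := fun k => ho q k (by omega)
    have := fun k => ho r k (by omega)
    by_cases k : p = o
    · subst k; grind
    by_cases k : q = o
    · subst k; grind
    grind

theorem no_two (d0 : ∀ i, 0 < d i) (sd : ∑ i, x i * d i = 0) (sx : ∑ i, x i ^ 2 = 4) (i : ι) :
    -1 ≤ x i ∧ x i ≤ 1 := by
  by_contra k
  have k1 : 4 ≤ x i ^ 2 := by
    rcases lt_or_ge (x i) 0 with h | h
    · nlinarith [show x i ≤ -2 by omega]
    · nlinarith [show 2 ≤ x i by omega]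
  rw [sum_supp (A := {i}) fun j hj => by rw [sq_supp (m := x) (A := {i}) (by rw [sx, sum_singleton]; exact k1) hj, zero_mul],
    sum_singleton] at sd
  rcases mul_eq_zero.1 sd with e | e
  · omega
  · exact (d0 i).ne' e

theorem seven (sd : ∑ i, x i * d i = 0) (sx : ∑ i, x i ^ 2 = 4) (s0 : ∑ i, x i = 0) (xo : x o = 1) (od : d o = 1)
    (h4 : ∀ i, i ≠ o → x i ≠ 0 → 4 ≤ d i) {i : ι} (io : i ≠ o) (hi : x i = 1) : 7 ≤ d i := by
  have nn : ∀ j, 0 ≤ x j ^ 2 + x j := fun j => by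
    rcases lt_or_ge (x j) 0 with h | h <;> nlinarith
  have k : ∀ j, j ≠ o → j ≠ i → x j ≤ 0 := fun j jo ji => by
    have := sum_le_sum_of_subset_of_nonneg (f := fun j => x j ^ 2 + x j) (subset_univ {j, o, i}) fun j _ _ => nn j
    rw [sum_insert (by simp [jo, ji]), sum_pair io.symm, sum_add_distrib, sx, s0, xo, hi] at this
    nlinarith
  have := sum_le_sum_of_subset_of_nonneg (f := fun j => x j * 4 - x j * d j) (subset_univ {o, i}) fun j _ hj => by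
    simp only [mem_insert, mem_singleton, not_or] at hj
    by_cases e : x j = 0
    · simp [e]
    · nlinarith [k j hj.1 hj.2, h4 j hj.1 e]
  rw [sum_pair io.symm, sum_sub_distrib, ← sum_mul, s0, sd, xo, hi, od] at this
  omega

theorem lp_sum {n K c : ℤ} {C Φ : ι → ℤ} (n0 : 0 < n) (d0 : ∀ i, 0 < d i) (od : d o = 1)
    (h : ∀ i, i ≠ o → Φ i * d i ≤ K * C i) (e : (n : ℚ) * ∑ i, (C i : ℚ) / d i = c) :
    n * (K * C o - Φ o + ∑ i, Φ i) ≤ K * c := by
  have := sum_le_sum_of_subset_of_nonneg (f := fun i => K * ((C i : ℚ) / d i) - Φ i) (subset_univ {o}) fun i _ hi => by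
    have : (0 : ℚ) < d i := by exact_mod_cast d0 i
    rw [sub_nonneg, ← mul_div_assoc, le_div_iff₀ this]
    exact_mod_cast h i (by simpa using hi)
  rw [sum_singleton, sum_sub_distrib, ← mul_sum, od] at this
  have n0' : (0 : ℚ) < n := by exact_mod_cast n0
  have := mul_le_mul_of_nonneg_left this n0'.le
  have : (n : ℚ) * (K * C o - Φ o + ∑ i, Φ i) ≤ K * c := by
    rw [← e]
    push_cast at this ⊢
    linarith
  exact_mod_cast this

theorem d8_pt {a b c e d A C : ℤ} {m : ℕ} (ha : a = 0 ∨ a = 1 ∨ a = -1) (hb : b = 0 ∨ b = 1 ∨ b = -1)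
    (hc : c = 0 ∨ c = 1 ∨ c = -1) (he : e = 0 ∨ e = 1 ∨ e = -1) (hA : A = 2 * (c + e) - (a + b))
    (hC : C = 2 * (a + b) - (c + e)) (hm : d + 4 * A + 4 * C = 9 * m) (hne : A ≠ d) (d0 : 0 < d)
    (k1 : -1 ≤ a - e ∧ a - e ≤ 1) (k2 : -1 ≤ c - b ∧ c - b ≤ 1) (k3 : -1 ≤ a - c ∧ a - c ≤ 1)
    (k4 : -1 ≤ b - e ∧ b - e ≤ 1) (k5 : -1 ≤ a + b - c - e ∧ a + b - c - e ≤ 1) :
    (a ≠ 0 ∨ b ≠ 0 ∨ c ≠ 0 ∨ e ≠ 0 → 4 ≤ d) ∧ ((a = -1 → 9 ≤ d) → (b = -1 → 9 ≤ d) → (c = -1 → 9 ≤ d) →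
      (e = -1 → 9 ≤ d) → (a - e = 1 → 7 ≤ d) → (c - b = 1 → 7 ≤ d) →
      (a ≠ -1 → b ≠ -1 → c ≠ -1 → e ≠ -1 → 0 ≤ a * d - 10 * a + 5 * (a * b) + 5 * (a * c)) ∧
      ((a = -1 → 25 ≤ d) → ((-27) * a ^ 2 + (-80) * (a * b) + 60 * (a * c) + 110 * (a * e) + (-117) * b ^ 2 +
        110 * (b * c) + 160 * (b * e) + (-45) * c ^ 2 + (-140) * (c * e) + (-95) * e ^ 2 + (-3) * a + 37 * b + 15 * c +
        15 * e) * d ≤ 200 * (A * C * (A + C))) ∧
      (¬ (a = -1 ∧ b = -1 ∧ c = -1 ∧ e = -1) → ((-22) * a ^ 2 + (-32) * (a * b) + 0 * (a * c) + 44 * (a * e) +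
        (-43) * b ^ 2 + 44 * (b * c) + 64 * (b * e) + (-6) * c ^ 2 + (-32) * (c * e) + (-27) * e ^ 2 + 10 * a + 11 * b +
        (-6) * c + (-5) * e) * d ≤ 80 * (A * C * (A + C)))) := by
  subst hA hC
  rcases ha with rfl | rfl | rfl <;> rcases hb with rfl | rfl | rfl <;> rcases hc with rfl | rfl | rfl <;>
    rcases he with rfl | rfl | rfl <;> omega

theorem d8_arith {x1 x2 x3 x4 A C : ι → ℤ} {n : ℕ} {m : ι → ℕ} (n0 : 0 < n) (d0 : ∀ i, 0 < d i) (od : d o = 1)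
    (o1 : x1 o = 1) (o2 : x2 o = 0) (o3 : x3 o = 1) (o4 : x4 o = 0)
    (hA : ∀ i, A i = 2 * (x3 i + x4 i) - (x1 i + x2 i)) (hC : ∀ i, C i = 2 * (x1 i + x2 i) - (x3 i + x4 i))
    (hm : ∀ i, d i + 4 * A i + 4 * C i = 9 * m i) (hne : ∀ i, i ≠ o → A i ≠ d i)
    (s11 : ∑ i, x1 i ^ 2 = 4) (s22 : ∑ i, x2 i ^ 2 = 4) (s33 : ∑ i, x3 i ^ 2 = 4) (s44 : ∑ i, x4 i ^ 2 = 4)
    (s12 : ∑ i, x1 i * x2 i = 1) (s13 : ∑ i, x1 i * x3 i = 2) (s14 : ∑ i, x1 i * x4 i = 2)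
    (s23 : ∑ i, x2 i * x3 i = 2) (s24 : ∑ i, x2 i * x4 i = 2) (s34 : ∑ i, x3 i * x4 i = 1)
    (d1 : ∑ i, x1 i * d i = 0) (d2 : ∑ i, x2 i * d i = 0) (d3 : ∑ i, x3 i * d i = 0) (d4 : ∑ i, x4 i * d i = 0)
    (g1 : Sg x1 d) (g2 : Sg x2 d) (g3 : Sg x3 d) (g4 : Sg x4 d)
    (e : (n : ℚ) * ∑ i, ((A i * C i * (A i + C i) : ℤ) : ℚ) / d i = (1296 : ℤ)) (sd : ∑ i, d i ^ 2 = n)
    (dv : ∀ i, d i ∣ n) (hn : n % 648 = 72) : n < 2016 := by
  have df : ∀ {a b : ι → ℤ}, ∑ i, a i ^ 2 = 4 → ∑ i, b i ^ 2 = 4 → ∑ i, a i * b i = 2 → ∑ i, a i * d i = 0 →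
      ∑ i, b i * d i = 0 → ∑ i, (a i - b i) ^ 2 = 4 ∧ ∑ i, (a i - b i) * d i = 0 := fun h1 h2 h3 h4 h5 => by
    simp only [sub_sq, sub_mul, sum_add_distrib, sum_sub_distrib, mul_assoc, ← mul_sum, h1, h2, h3, h4, h5]
    norm_num
  have s32 : ∑ i, x3 i * x2 i = 2 := by simpa only [mul_comm] using s23
  have f14 := df s11 s44 s14 d1 d4
  have f32 := df s33 s22 s32 d3 d2
  have f13 := df s11 s33 s13 d1 d3
  have f24 := df s22 s44 s24 d2 d4
  have k1 := no_two d0 f14.2 f14.1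
  have k2 := no_two d0 f32.2 f32.1
  have k3 := no_two d0 f13.2 f13.1
  have k4 := no_two d0 f24.2 f24.1
  have k5 := no_two (x := fun i => x1 i + x2 i - x3 i - x4 i) d0
    (by simp only [sub_mul, add_mul, sum_add_distrib, sum_sub_distrib, d1, d2, d3, d4]; norm_num) (by
      rw [sum_congr rfl fun i _ => show (x1 i + x2 i - x3 i - x4 i) ^ 2 = x1 i ^ 2 + x2 i ^ 2 + x3 i ^ 2 + x4 i ^ 2 +
        2 * (x1 i * x2 i) + 2 * (x3 i * x4 i) - 2 * (x1 i * x3 i) - 2 * (x1 i * x4 i) - 2 * (x2 i * x3 i) -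
        2 * (x2 i * x4 i) by ring]
      simp only [sum_add_distrib, sum_sub_distrib, ← mul_sum, *]
      norm_num)
  have pt := fun i io => d8_pt (g1.val i) (g2.val i) (g3.val i) (g4.val i) (hA i) (hC i) (hm i) (hne i io) (d0 i) (k1 i)
    (k2 i) (k3 i) (k4 i) (k5 i)
  have h4 := fun i io => (pt i io).1
  have n1 := g1.deg o fun i io k => h4 i io (by omega)
  have n2 := g2.deg o fun i io k => h4 i io (by omega)
  have n3 := g3.deg o fun i io k => h4 i io (by omega)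
  have n4 := g4.deg o fun i io k => h4 i io (by omega)
  have v1 := fun i => seven (i := i) f14.2 f14.1 (by rw [sum_sub_distrib, g1.sum, g4.sum]; rfl) (by rw [o1, o4]; rfl) od
    fun i io k => h4 i io (by omega)
  have v2 := fun i => seven (i := i) f32.2 f32.1 (by rw [sum_sub_distrib, g3.sum, g2.sum]; rfl) (by rw [o3, o2]; rfl) od
    fun i io k => h4 i io (by omega)
  replace pt := fun i io => (pt i io).2 (n1 i) (n2 i) (n3 i) (n4 i) (v1 i io) (v2 i io)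
  have lp : ∀ K a b c e f g h j k l p q r s : ℤ, (∀ i, i ≠ o → (a * x1 i ^ 2 + b * (x1 i * x2 i) + c * (x1 i * x3 i) +
      e * (x1 i * x4 i) + f * x2 i ^ 2 + g * (x2 i * x3 i) + h * (x2 i * x4 i) + j * x3 i ^ 2 + k * (x3 i * x4 i) +
      l * x4 i ^ 2 + p * x1 i + q * x2 i + r * x3 i + s * x4 i) * d i ≤ K * (A i * C i * (A i + C i))) →
      n * (K * 2 + (3 * a + b + c + 2 * e + 4 * f + 2 * g + 2 * h + 3 * j + k + 4 * l + p + 2 * q + r + 2 * s)) ≤
        K * 1296 := fun K a b c e' f g h j k l p q r s hp => by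
    have := lp_sum (by exact_mod_cast n0) d0 od hp e
    simp only [sum_add_distrib, ← mul_sum, s11, s22, s33, s44, s12, s13, s14, s23, s24, s34, g1.sum, g2.sum, g3.sum,
      g4.sum, hA o, hC o, o1, o2, o3, o4] at this
    linarith
  by_cases hr : ∃ r, x1 r = -1 ∧ x2 r = -1 ∧ x3 r = -1 ∧ x4 r = -1
  · obtain ⟨r, r1, r2, r3, r4⟩ := hr
    have ro : r ≠ o := by rintro rfl; omega
    have h25 : 25 ≤ d r := by
      have := sum_le_sum_of_subset_of_nonneg (subset_univ {o, r})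
        (f := fun i => x1 i * d i - 10 * x1 i + 5 * (x1 i * x2 i) + 5 * (x1 i * x3 i)) fun i _ hi => by
        simp only [mem_insert, mem_singleton, not_or] at hi
        exact (pt i hi.1).1 (fun k => hi.2 (g1.uq _ _ k r1)) (fun k => hi.2 (g2.uq _ _ k r2))
          (fun k => hi.2 (g3.uq _ _ k r3)) fun k => hi.2 (g4.uq _ _ k r4)
      simp only [sum_pair ro.symm, sum_add_distrib, sum_sub_distrib, ← mul_sum, d1, g1.sum, s12, s13, o1, o2, o3, od,
        r1, r2, r3] at this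
      have := hm r
      have := hA r
      have := hC r
      omega
    have := lp _ _ _ _ _ _ _ _ _ _ _ _ _ _ _ fun i io => (pt i io).2.1 fun k => g1.uq _ _ k r1 ▸ h25
    have k6 : d r ^ 2 ≤ n := sd ▸ single_le_sum (f := fun i => d i ^ 2) (fun _ _ => sq_nonneg _) (mem_univ r)
    have k7 : d r < 71 := by nlinarith
    have k9 : n < 2016 ∨ n = 2016 ∨ n = 2664 ∨ n = 3312 ∨ n = 3960 ∨ n = 4608 := by omega
    have := hm r
    have := hA r
    have := hC r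
    have := dv r
    have k8 : d r = 25 ∨ d r = 34 ∨ d r = 43 ∨ d r = 52 ∨ d r = 61 ∨ d r = 70 := by omega
    rcases k8 with k | k | k | k | k | k <;> rw [k] at this <;> omega
  · have := lp _ _ _ _ _ _ _ _ _ _ _ _ _ _ _ fun i io => (pt i io).2.2 fun k => hr ⟨i, k⟩
    omega

end H25
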