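import Cfsg.Agent.H5.T8a
import Cfsg.Agent.H25.Tri5

/-! Models of the normaliser of an elementary abelian `3`-subgroup. -/

set_option autoImplicit false
set_option linter.unusedSectionVars false

namespace H25

open Cfsg H17 H19 Subgroup

/-- affine groups -/
@[ext] structure Aff (K V : Type) where
  v : V
  k : K
  deriving DecidableEq

namespace Aff

variable {K V : Type} [Group K] [AddCommGroup V] [DistribMulAction K V]

instance : Mul (Aff K V) := ⟨fun x y => ⟨x.v + x.k • y.v, x.k * y.k⟩⟩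
instance : One (Aff K V) := ⟨⟨0, 1⟩⟩
instance : Inv (Aff K V) := ⟨fun x => ⟨-(x.k⁻¹ • x.v), x.k⁻¹⟩⟩

theorem mul_def (x y : Aff K V) : x * y = ⟨x.v + x.k • y.v, x.k * y.k⟩ := rfl

instance : Group (Aff K V) := Group.ofLeftAxioms
  (fun _ _ _ => by simp only [mul_def, smul_add, mul_smul, add_assoc, mul_assoc])
  (fun _ => Aff.ext ((zero_add _).trans (one_smul _ _)) (one_mul _))
  fun _ => Aff.ext (neg_add_cancel _) (inv_mul_cancel _)

instance [Fintype K] [Fintype V] : Fintype (Aff K V) :=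
  Fintype.ofEquiv (V × K) ⟨fun x => ⟨x.1, x.2⟩, fun x => ⟨x.1, x.2⟩, fun _ => rfl, fun _ => rfl⟩

/-- translations -/
def tr (v : V) : Aff K V := ⟨v, 1⟩

variable {G : Type*} [Group G] {f : V → G} {N : Subgroup G} (h : T3 f N) (w : K →* G)
  (hw : ∀ k v, w k * f v * (w k)⁻¹ = f (k • v))

/-- the homomorphism given by a complement -/
def lift : Aff K V →* G := MonoidHom.mk' (fun x => f x.v * w x.k) fun x y => by
  rw [mul_def, h.add, map_mul, ← hw]
  group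

theorem lift_tr (v : V) : lift h w hw (tr v) = f v := by simp [lift, tr]

theorem lift_inj (fa : ∀ k : K, (∀ v : V, k • v = v) → k = 1) : Function.Injective (lift h w hw) :=
  (injective_iff_map_eq_one _).2 fun x hx => by
    have e : w x.k = (f x.v)⁻¹ := eq_inv_of_mul_eq_one_right hx
    have k := fa x.k fun v => h.inj (by rw [← hw, e, inv_inv, (h.comm x.v v).inv_left.eq, inv_mul_cancel_right])
    rw [k, map_one, eq_comm, inv_eq_one, ← h.zero] at e
    exact Aff.ext (h.inj e) k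

theorem lift_le : (lift h w hw).range ≤ N := by
  rintro _ ⟨x, rfl⟩
  exact mul_mem (h.mem _) (h.nrm _ fun v => ⟨_, (hw _ v).symm⟩)

end Aff

variable {G : Type*} [Group G] {V : Type} [AddCommGroup V] {M : Type} [Group M] [Fintype M] [DecidableEq M]

/-- the normaliser is the image of the model -/
structure L3 (φ : M →* G) (ι : V → M) : Prop where
  inj : Function.Injective φ
  t3 : T3 (fun v => φ (ι v)) φ.range

/-- elements with a non-trivial power in the normal subgroup -/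
def Sing (ι : V → M) (q : M) : Prop := ∃ k : Fin 7, ∃ v, v ≠ 0 ∧ q ^ k.1 = ι v

instance [Fintype V] [DecidableEq V] (ι : V → M) : DecidablePred (Sing ι) := fun _ => by unfold Sing; infer_instance

namespace L3

variable {φ : M →* G} {ι : V → M} (h : L3 φ ι) {q q' s t : M} {g : G}
include h

theorem conj_in (e : Sing ι q) (hg : g * φ q * g⁻¹ = φ q') : ∃ p, φ p = g ∧ p * q * p⁻¹ = q' := by
  obtain ⟨k, v, hv, e⟩ := e
  have e1 : g * φ (ι v) * g⁻¹ = φ (q' ^ k.1) := by rw [← e, map_pow, ← conj_pow, hg, map_pow]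
  obtain ⟨w, hw⟩ := h.t3.sc v _ ⟨_, rfl⟩ (isConj_iff.2 ⟨g, e1⟩)
  obtain ⟨p, rfl⟩ := h.t3.fus hv (e1.trans hw.symm)
  exact ⟨p, rfl, h.inj (by simpa using hg)⟩

theorem conj_iff (e : Sing ι q) : IsConj (φ q) (φ q') ↔ ∃ p, p * q * p⁻¹ = q' :=
  ⟨fun k => let ⟨_, hg⟩ := isConj_iff.1 k; let ⟨p, _, k⟩ := h.conj_in e hg; ⟨p, k⟩,
    fun k => φ.map_isConj (isConj_iff.2 k)⟩

theorem cz_eq {n : ℕ} (hn : Sing ι q ∧ (Finset.univ.filter fun p => p * q = q * p).card = n) : cz (φ q) = n := by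
  have : centralizer {φ q} = (centralizer {q}).map φ := by
    ext g
    simp only [mem_map, mem_centralizer_singleton_iff]
    refine ⟨fun hg => ?_, by rintro ⟨p, hp, rfl⟩; rw [← map_mul, hp, map_mul]⟩
    obtain ⟨p, rfl, hp⟩ := h.conj_in hn.1 (g := g) (by rw [hg, mul_inv_cancel_right])
    exact ⟨p, mul_inv_eq_iff_eq_mul.1 hp, rfl⟩
  rw [cz, this, card_map_of_injective h.inj, ← hn.2, ← Fintype.card_subtype, ← Nat.card_eq_fintype_card]
  exact Nat.card_congr (Equiv.subtypeEquivRight fun p => mem_centralizer_singleton_iff)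

theorem ncl_eq {R R' : M → Prop} [DecidablePred R] [DecidablePred R'] (hR : ∀ y, IsConj (φ s) (φ y) ↔ R y)
    (hR' : ∀ y, IsConj (φ t) (φ y) ↔ R' y) {n : ℕ} (hn : s * s = 1 ∧ t * t = 1 ∧ Sing ι q ∧
      (Finset.univ.filter fun p => R p ∧ R' (p⁻¹ * q)).card = n) : ncl (φ s) (φ t) (φ q) = n := by
  have inv : ∀ {s : M} {g : G}, s * s = 1 → IsConj (φ s) g → g⁻¹ = g := fun {s g} hs hg => by
    obtain ⟨c, rfl⟩ := isConj_iff.1 hg
    rw [conj_inv, ← map_inv, inv_eq_of_mul_eq_one_right hs]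
  rw [ncl, ← hn.2.2.2, ← Set.ncard_coe_finset]
  symm
  refine Set.ncard_congr (fun p _ => (φ p, φ (p⁻¹ * q))) (fun p hp => ?_)
    (fun p p' _ _ e => h.inj (congrArg Prod.fst e)) ?_
  · simp only [Finset.coe_filter, Finset.mem_univ, true_and, Set.mem_ofPred_eq] at hp
    exact ⟨(hR _).2 hp.1, (hR' _).2 hp.2, by simp⟩
  · rintro ⟨v, w⟩ ⟨h1, h2, h3⟩
    obtain ⟨p, rfl, -⟩ := h.conj_in (q' := q⁻¹) (g := v) hn.2.2.1 (by
      rw [map_inv, ← h3, mul_inv_rev, inv hn.2.1 h2, ← mul_assoc]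
      nth_rewrite 1 [← show v⁻¹ = v from inv hn.1 h1]
      rw [inv_mul_cancel, one_mul])
    obtain rfl : w = φ (p⁻¹ * q) := by rw [map_mul, map_inv, ← h3, inv_mul_cancel_left]
    exact ⟨p, by simpa using ⟨(hR _).1 h1, (hR' _).1 h2⟩, rfl⟩

theorem conj_cent [Finite G] (hb : ∀ v, ¬ T3Bad (fun v => φ (ι v)) φ.range v) {u v : V} (hu : u ≠ 0) (hv : v ≠ 0)
    (hs : s * ι u = ι u * s) (ht : t * ι v = ι v * t) (hc : IsConj (φ s) (φ t)) : ∃ p, p * s * p⁻¹ = t := by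
  classical
  obtain ⟨g, hg⟩ := isConj_iff.1 hc
  have pg : ∀ x : centralizer {φ t}, x ^ 3 = 1 → ∃ P : Sylow 3 (centralizer {φ t}), x ∈ P.1 := fun x hx => by
    obtain ⟨P, hP⟩ := (IsPGroup.of_card (G := zpowers x) (p := 3) (n := if x = 1 then 0 else 1) (by
      split_ifs with k
      · simp [k]
      · rw [Nat.card_zpowers, orderOf_eq_prime hx k, pow_one])).exists_le_sylow
    exact ⟨P, hP (mem_zpowers x)⟩
  obtain ⟨P, hP⟩ := pg ⟨φ (ι v), mem_centralizer_singleton_iff.2 (by rw [← map_mul, ← ht, map_mul])⟩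
    (Subtype.ext (h.t3.cube v))
  obtain ⟨Q, hQ⟩ := pg ⟨g * φ (ι u) * g⁻¹, mem_centralizer_singleton_iff.2 (by
    rw [← hg, conj_mul, conj_mul, ← map_mul, ← hs, map_mul])⟩
    (Subtype.ext ((conj_pow ..).trans (by rw [h.t3.cube, mul_one, mul_inv_cancel]; rfl)))
  obtain ⟨x, rfl⟩ := MulAction.exists_smul_eq (centralizer {φ t}) Q P
  have : Nontrivial (x • Q : Sylow 3 _).1 := ⟨⟨⟨_, hP⟩, 1, fun e => h.t3.ne_one hv
    (congrArg (fun y => y.1.1) e)⟩⟩
  have := (x • Q).isPGroup'.center_nontrivial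
  obtain ⟨z, hz⟩ := exists_prime_orderOf_dvd_card' (G := center (x • Q : Sylow 3 _).1) 3
    (((x • Q).isPGroup'.to_subgroup _).nontrivial_iff_card.1 this |>.elim fun n k => k.2 ▸ dvd_pow_self 3 k.1.ne')
  have cz : ∀ y (hy : y ∈ (x • Q : Sylow 3 _).1), Commute y.1 z.1.1.1 := fun y hy =>
    congrArg (fun y : (x • Q : Sylow 3 _).1 => y.1.1) (mem_center_iff.1 z.2 ⟨y, hy⟩)
  obtain ⟨w, hw⟩ : ∃ w, φ (ι w) = z.1.1.1 := by
    by_contra! k
    exact hb v ⟨_, h.t3.cent v hv _ (cz _ hP).symm, congrArg (fun y => y.1.1.1) (hz ▸ pow_orderOf_eq_one z), k,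
      (cz _ hP).symm⟩
  obtain ⟨y, hy⟩ := h.t3.cent w (by
    rintro rfl
    rw [h.t3.zero] at hw
    rw [show z = 1 from Subtype.ext (Subtype.ext (Subtype.ext hw.symm)), orderOf_one] at hz
    omega) _ (hw ▸ cz _ ⟨_, hQ, rfl⟩)
  obtain ⟨w', hw'⟩ := h.t3.sc u _ ⟨y, rfl⟩ (isConj_iff.2 ⟨x.1 * g, hy ▸ by simp [mul_assoc]⟩)
  obtain ⟨p, hp⟩ := h.t3.fus (g := x.1 * g) hu (v := w') (by rw [hw', hy]; simp [mul_assoc])
  refine ⟨p, h.inj ?_⟩
  rw [map_mul, map_mul, map_inv, hp]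
  calc _ = x.1 * (g * φ s * g⁻¹) * x.1⁻¹ := by group
    _ = _ := by rw [hg, mem_centralizer_singleton_iff.1 x.2, mul_inv_cancel_right]

end L3

/-- Powers of an element as a homomorphism from a cyclic group. -/
def powHomN {M : Type*} [Monoid M] {n : ℕ} [NeZero n] {a : M} (h : a ^ n = 1) : Multiplicative (ZMod n) →* M where
  toFun k := a ^ k.toAdd.val
  map_one' := by simp
  map_mul' i j := by rw [toAdd_mul, ZMod.val_add, ← pow_eq_pow_mod _ h, pow_add]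

theorem iv_six [Finite G] {g : G} (h6 : g ^ 6 = 1) (hr : IsConj g g⁻¹) (χ : IrrCharacter G) :
    ∃ m : ℤ, iv χ g + iv χ (g ^ 2) = 2 * m := by
  obtain ⟨ω, hω⟩ := exists_omega
  obtain ⟨m, hm⟩ := sum_hom_nat (powHomN h6) χ.2.isCharacter (powHomN (n := 6) (a := ω) (by
    linear_combination (ω ^ 4 - ω ^ 3 + ω - 1) * hω))
  obtain ⟨k, hk⟩ := sum_hom_nat (powHomN (n := 2) (a := g ^ 3) (by rw [← pow_mul, h6])) χ.2.isCharacter 1
  have r2 : IsConj (g ^ 2) (g ^ 2)⁻¹ := by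
    obtain ⟨c, hc⟩ := isConj_iff.1 hr
    exact isConj_iff.2 ⟨c, by rw [← conj_pow, hc, inv_pow]⟩
  have e4 : g ^ 4 = (g ^ 2)⁻¹ := eq_inv_of_mul_eq_one_left (by rw [← pow_add, h6])
  have e5 : g ^ 5 = g⁻¹ := eq_inv_of_mul_eq_one_left (by rw [← pow_succ, h6])
  have q1 := ratE_of_six h6 hr
  have q2 := ratE_of_three (by rw [← pow_mul, h6]) r2
  have q3 : RatE (g ^ 3) := ratE_of_two (by rw [← pow_mul, h6])
  change ∑ i : Fin 6, (χ : G → ℂ) (g ^ i.1) * ω ^ i.1 = (6 : ℕ) * m at hm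
  change ∑ i : Fin 2, (χ : G → ℂ) ((g ^ 3) ^ i.1) * 1 = (2 : ℕ) * k at hk
  simp only [Fin.sum_univ_succ, Fin.sum_univ_zero, Fin.val_succ, Fin.val_zero, zero_add, pow_zero, pow_one,
    Nat.reduceAdd, e4, e5, q1.inv, q2.inv] at hm hk
  rw [← q1.cast, ← q2.cast] at hm
  refine ⟨k - 3 * m, ?_⟩
  have : (iv χ g + iv χ (g ^ 2) : ℂ) = 2 * (k - 3 * m) := by
    push_cast at hm hk
    linear_combination hk - hm + ((χ : G → ℂ) (g ^ 3) * (ω - 1) + iv χ g * (ω ^ 3 - ω ^ 2 + 1) +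
      iv χ (g ^ 2) * (ω ^ 2 - ω + 1)) * hω
  exact_mod_cast this

end H25
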