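import Cfsg.Agent.H5.T8b
import Cfsg.Agent.S0496

/-! A simple group has no strongly `3`-embedded Sylow normaliser `3² : D₈`. -/

set_option autoImplicit false
set_option linter.unusedSectionVars false

namespace H25

open Cfsg H17 H19 Subgroup DihedralGroup

section arith
open Finset
variable {ι : Type*} [Fintype ι] [DecidableEq ι] {x y d U V A B C E : ι → ℤ}

theorem Sg.main {n k k' : ℕ} (n0 : 0 < n) (k0 : 0 < k) (k0' : 0 < k') {q1 q2 q3 : ℚ} (d0 : ∀ i, 0 < d i)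
    (sd : ∑ i, x i * d i = 0) (sU : ∑ i, x i * U i = 0) (sV : ∑ i, x i * V i = 0) (sx : ∑ i, x i ^ 2 = 4)
    (hU : n * ∑ i, (U i * U i * x i : ℚ) / d i = k * k * q1) (hUV : n * ∑ i, (U i * V i * x i : ℚ) / d i = k * k' * q2)
    (hV : n * ∑ i, (V i * V i * x i : ℚ) / d i = k' * k' * q3) (h : 0 < q1 ∧ q2 ^ 2 < q1 * q3) : Sg x d := by
  have n1 : (n : ℚ) ≠ 0 := by positivity
  refine .of d0 sd sx (three_pos d0 sd sU sV (eq_div_of_mul_eq n1 ((mul_comm _ _).trans hU))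
    (eq_div_of_mul_eq n1 ((mul_comm _ _).trans hUV)) (eq_div_of_mul_eq n1 ((mul_comm _ _).trans hV))
    (by have := h.1; positivity) ?_)
  have := mul_lt_mul_of_pos_left h.2 (show (0 : ℚ) < (k * k' / n) ^ 2 by positivity)
  exact lt_of_eq_of_lt (by ring) (this.trans_eq (by ring))

theorem lin6 {n a b c e : ℚ} (h : ∀ i, 6 * (x i : ℚ) = a * A i + b * B i + c * C i + e * E i) :
    n * ∑ i, (U i * V i * x i : ℚ) / d i = (a * (n * ∑ i, (U i * V i * A i : ℚ) / d i) +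
      b * (n * ∑ i, (U i * V i * B i : ℚ) / d i) + c * (n * ∑ i, (U i * V i * C i : ℚ) / d i) +
      e * (n * ∑ i, (U i * V i * E i : ℚ) / d i)) / 6 := by
  simp only [mul_sum, ← sum_add_distrib, sum_div]
  refine sum_congr rfl fun i _ => ?_
  linear_combination n * U i * V i / d i / 6 * h i

theorem orth6 {a b c e : ℤ} (h : ∀ i, 6 * x i = a * A i + b * B i + c * C i + e * E i) :
    6 * ∑ i, x i * y i = a * ∑ i, A i * y i + b * ∑ i, B i * y i + c * ∑ i, C i * y i + e * ∑ i, E i * y i := by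
  simp only [mul_sum, ← sum_add_distrib]
  exact sum_congr rfl fun i _ => by linear_combination y i * h i

end arith

/-- rotations of the plane -/
def rot9 (i : Fin 4) (v : V9) : V9 := ![v, (-v.2, v.1), -v, (v.2, -v.1)] i

instance : SMul (DihedralGroup 4) V9 := ⟨fun
  | r i, v => rot9 i v
  | sr i, v => ((rot9 i v).1, -(rot9 i v).2)⟩

instance : DistribMulAction (DihedralGroup 4) V9 where
  one_smul := by decide +kernel
  mul_smul := by decide +kernel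
  smul_zero := by decide +kernel
  smul_add := by decide +kernel

/-- the group `3² : D₈` -/
abbrev M72 := Aff (DihedralGroup 4) V9

/-- class representatives -/
def r72 : Fin 7 → M72 := ![.tr (1, 0), ⟨(2, 0), sr 0⟩, .tr (1, 1), ⟨(2, 2), sr 3⟩, ⟨0, sr 0⟩, ⟨0, sr 3⟩, ⟨0, r 2⟩]

/-- the fused classes of involutions -/
def R72 (i : ZMod 4) (ζ : Bool) (y : M72) : Prop := y * y = 1 ∧ (y.k = sr i ∨ y.k = sr (i + 2)) ∨ ζ ∧ y.k = r 2

instance (i : ZMod 4) (ζ : Bool) : DecidablePred (R72 i ζ) := fun _ => by unfold R72; infer_instance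

set_option synthInstance.maxSize 2000 in
theorem cls72 : ∀ y : M72, (y * y ≠ 1 ∨ y = 1 ∨ R72 0 false y ∨ R72 3 false y ∨ y.k = r 2) ∧
    (R72 0 false y → ¬ R72 3 true y ∧ ∃ p, p * r72 4 * p⁻¹ = y) ∧
    (R72 3 false y → ¬ R72 0 true y ∧ ∃ p, p * r72 5 * p⁻¹ = y) ∧ (y.k = r 2 → ∃ p, p * r72 6 * p⁻¹ = y) := by
  decide +kernel

variable {G : Type*} [Group G] [Finite G] {φ : M72 →* G}

theorem L3.not_simple (h : L3 φ .tr) (hb : ∀ v, ¬ T3Bad (fun v => φ (.tr v)) φ.range v) : ¬ IsSimpleGroup G := by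
  classical
  intro hs
  have hN : Nat.card φ.range = 72 := by
    rw [← Nat.card_congr (MonoidHom.ofInjective h.inj).toEquiv, Nat.card_eq_fintype_card]; rfl
  have hr : ∀ a b : V9, a ≠ 0 → (IsConj (φ (.tr a)) (φ (.tr b)) ↔ rC4 a b) := fun a b ha => by
    rw [h.conj_iff ⟨1, a, ha, pow_one _⟩]
    revert a b
    decide +kernel
  have n45 : ¬ IsConj (φ (r72 4)) (φ (r72 5)) := fun k =>
    absurd (h.conj_cent hb (u := (1, 0)) (v := (1, 1)) (by decide) (by decide) (by decide) (by decide) k) (by decide +kernel)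
  have sq : ∀ {s y : M72}, IsConj (φ s) (φ y) → s * s = 1 ∧ s ≠ 1 → y * y = 1 ∧ y ≠ 1 := fun {s y} k hs => by
    obtain ⟨g, hg⟩ := isConj_iff.1 k
    refine ⟨h.inj (by rw [map_mul, ← hg, conj_mul, ← map_mul, hs.1]; simp), fun e => hs.2 (h.inj ?_)⟩
    rwa [e, map_one, conj_eq_one_iff, ← map_one φ] at hg
  have cj : ∀ {s y : M72}, (∃ p, p * s * p⁻¹ = y) → IsConj (φ s) (φ y) := fun k => φ.map_isConj (isConj_iff.2 k)
  have c4 : ∀ y, IsConj (φ (r72 4)) (φ y) ↔ R72 0 (decide (IsConj (φ (r72 4)) (φ (r72 6)))) y := fun y => by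
    obtain ⟨k1, k2, k3, k4⟩ := cls72 y
    refine ⟨fun k => ?_, fun k => k.elim (fun k => cj (k2 (.inl k)).2) fun k => (of_decide_eq_true k.1).trans (cj (k4 k.2))⟩
    obtain ⟨a, b⟩ := sq k (by decide)
    rcases (k1.resolve_left (· a)).resolve_left b with e | e | e
    · exact .inl (e.resolve_right (by simp))
    · exact absurd (k.trans (cj (k3 e).2).symm) n45
    · exact .inr ⟨decide_eq_true (k.trans (cj (k4 e)).symm), e⟩
  have c5 : ∀ y, IsConj (φ (r72 5)) (φ y) ↔ R72 3 (decide (IsConj (φ (r72 5)) (φ (r72 6)))) y := fun y => by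
    obtain ⟨k1, k2, k3, k4⟩ := cls72 y
    refine ⟨fun k => ?_, fun k => k.elim (fun k => cj (k3 (.inl k)).2) fun k => (of_decide_eq_true k.1).trans (cj (k4 k.2))⟩
    obtain ⟨a, b⟩ := sq k (by decide)
    rcases (k1.resolve_left (· a)).resolve_left b with e | e | e
    · exact absurd ((cj (k2 e).2).trans k.symm) n45
    · exact .inl (e.resolve_right (by simp))
    · exact .inr ⟨decide_eq_true (k.trans (cj (k4 e)).symm), e⟩
  have nb : ¬ (decide (IsConj (φ (r72 4)) (φ (r72 6))) = true ∧ decide (IsConj (φ (r72 5)) (φ (r72 6))) = true) :=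
    fun k => n45 ((of_decide_eq_true k.1).trans (of_decide_eq_true k.2).symm)
  generalize decide (IsConj (φ (r72 4)) (φ (r72 6))) = ζ at *
  generalize decide (IsConj (φ (r72 5)) (φ (r72 6))) = ξ at *
  have rl : ∀ i, IsConj (φ (r72 i)) (φ (r72 i))⁻¹ := fun i => map_inv φ _ ▸ cj (by revert i; decide +kernel)
  have rat : ∀ i, RatE (φ (r72 i)) := fun i => ratE_of_six (by rw [← map_pow, show r72 i ^ 6 = 1 by revert i; decide,
    map_one]) (rl i)
  have rat' : ∀ v, v ≠ 0 → RatE (φ (.tr v)) := fun v hv =>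
    ratE_of_three (h.t3.cube v) (by rw [← h.t3.neg, hr _ _ hv]; revert v; decide)
  have nc : ∀ i j : Fin 7, i.1 < 4 ∧ i ≠ j → ∑ χ : IrrCharacter G, iv χ (φ (r72 i)) * iv χ (φ (r72 j)) = 0 :=
    fun i j k => sum_iv_ne (rat i) (rat j) (by
      rw [h.conj_iff (by revert i j; decide +kernel)]; revert i j; decide +kernel)
  have nd : ∀ i : Fin 7, ∑ χ : IrrCharacter G, iv χ (φ (r72 i)) * iv χ 1 = 0 := fun i => sum_iv_ne (rat i) ratE_one
    fun k => absurd (h.inj ((isConj_one_left.1 k).trans (map_one φ).symm)) (by clear k; revert i; decide)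
  have ns : ∀ (i : Fin 7) (n : ℕ), cz (φ (r72 i)) = n →
      ∑ χ : IrrCharacter G, iv χ (φ (r72 i)) * iv χ (φ (r72 i)) = n := fun i n k => by
    simpa only [pow_two, k] using sum_iv_self (rat i)
  have z0 := h.cz_eq (q := r72 0) (n := 18) (by decide +kernel)
  have z2 := h.cz_eq (q := r72 2) (n := 18) (by decide +kernel)
  have s0 := ns 0 _ z0
  have s1 := ns 1 _ (h.cz_eq (n := 6) (by decide +kernel))
  have s2 := ns 2 _ z2
  have s3 := ns 3 _ (h.cz_eq (n := 6) (by decide +kernel))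
  have p6 : ∀ i χ, ∃ m : ℤ, iv χ (φ (r72 i)) + iv χ (φ (r72 i ^ 2)) = 2 * m := fun i χ => map_pow φ _ _ ▸
    iv_six (by rw [← map_pow, show r72 i ^ 6 = 1 by revert i; decide, map_one]) (rl i) χ
  have hx : ∀ χ : IrrCharacter G, ∃ x1 x2 x3 x4 : ℤ,
      6 * x1 = 1 * iv χ (φ (r72 0)) + 3 * iv χ (φ (r72 1)) + 2 * iv χ (φ (r72 2)) + 0 * iv χ (φ (r72 3)) ∧
      6 * x2 = 1 * iv χ (φ (r72 0)) + (-3) * iv χ (φ (r72 1)) + 2 * iv χ (φ (r72 2)) + 0 * iv χ (φ (r72 3)) ∧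
      6 * x3 = 2 * iv χ (φ (r72 0)) + 0 * iv χ (φ (r72 1)) + 1 * iv χ (φ (r72 2)) + 3 * iv χ (φ (r72 3)) ∧
      6 * x4 = 2 * iv χ (φ (r72 0)) + 0 * iv χ (φ (r72 1)) + 1 * iv χ (φ (r72 2)) + (-3) * iv χ (φ (r72 3)) := fun χ => by
    obtain ⟨a, ha⟩ := p6 1 χ
    obtain ⟨b, hb⟩ := p6 3 χ
    obtain ⟨c, hc⟩ := h.t3.mod_three (rat 0) (rat 2) χ
    rw [show r72 1 ^ 2 = r72 0 by decide] at ha
    rw [show r72 3 ^ 2 = r72 2 by decide] at hb
    change iv χ (φ (r72 0)) = iv χ (φ (r72 2)) + _ at hc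
    exact ⟨a - c, iv χ (φ (r72 0)) - a - c, b + c, iv χ (φ (r72 2)) - b + c, by omega⟩
  choose x1 x2 x3 x4 e1 e2 e3 e4 using hx
  have gr : ∀ {x : IrrCharacter G → ℤ} {a b c e : ℤ}, (∀ χ, 6 * x χ = a * iv χ (φ (r72 0)) + b * iv χ (φ (r72 1)) +
      c * iv χ (φ (r72 2)) + e * iv χ (φ (r72 3))) → (∑ χ, iv χ (φ (r72 0)) * x χ = 3 * a ∧
      ∑ χ, iv χ (φ (r72 1)) * x χ = b ∧ ∑ χ, iv χ (φ (r72 2)) * x χ = 3 * c ∧ ∑ χ, iv χ (φ (r72 3)) * x χ = e) ∧
      ∑ χ, x χ * iv χ 1 = 0 ∧ ∑ χ, x χ * iv χ (φ (r72 4)) = 0 ∧ ∑ χ, x χ * iv χ (φ (r72 5)) = 0 := fun {x a b c e} k => by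
    have k0 := orth6 (y := fun χ => iv χ (φ (r72 0))) k
    have k1 := orth6 (y := fun χ => iv χ (φ (r72 1))) k
    have k2 := orth6 (y := fun χ => iv χ (φ (r72 2))) k
    have k3 := orth6 (y := fun χ => iv χ (φ (r72 3))) k
    have k4 := orth6 (y := fun χ => iv χ (φ (r72 4))) k
    have k5 := orth6 (y := fun χ => iv χ (φ (r72 5))) k
    have k6 := orth6 (y := fun χ => iv χ 1) k
    simp (disch := decide) only [s0, s1, s2, s3, nc, nd] at k0 k1 k2 k3 k4 k5 k6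
    simp only [mul_comm _ (x _)]
    omega
  have g1 := gr e1
  have g2 := gr e2
  have g3 := gr e3
  have g4 := gr e4
  have f : ∀ {x y : IrrCharacter G → ℤ} {a b c e a' b' c' e' : ℤ}, (∀ χ, 6 * x χ = a * iv χ (φ (r72 0)) +
      b * iv χ (φ (r72 1)) + c * iv χ (φ (r72 2)) + e * iv χ (φ (r72 3))) → (∑ χ, iv χ (φ (r72 0)) * y χ = 3 * a' ∧
      ∑ χ, iv χ (φ (r72 1)) * y χ = b' ∧ ∑ χ, iv χ (φ (r72 2)) * y χ = 3 * c' ∧ ∑ χ, iv χ (φ (r72 3)) * y χ = e') →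
      ∑ χ, x χ * y χ = (a * (3 * a') + b * b' + c * (3 * c') + e * e') / 6 := fun {x y a b c e a' b' c' e'} k k' => by
    have := orth6 (y := y) k
    rw [k'.1, k'.2.1, k'.2.2.1, k'.2.2.2] at this
    omega
  have s11 : ∑ χ, x1 χ ^ 2 = 4 := by simpa [pow_two] using f e1 g1.1
  have s22 : ∑ χ, x2 χ ^ 2 = 4 := by simpa [pow_two] using f e2 g2.1
  have s33 : ∑ χ, x3 χ ^ 2 = 4 := by simpa [pow_two] using f e3 g3.1
  have s44 : ∑ χ, x4 χ ^ 2 = 4 := by simpa [pow_two] using f e4 g4.1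
  have st : ∀ (i j : Fin 7) (R R' : M72 → Prop) [DecidablePred R] [DecidablePred R'] (n : Fin 7 → ℕ),
      (∀ y, IsConj (φ (r72 i)) (φ y) ↔ R y) → (∀ y, IsConj (φ (r72 j)) (φ y) ↔ R' y) →
      (∀ k : Fin 7, k.1 < 4 → r72 i * r72 i = 1 ∧ r72 j * r72 j = 1 ∧ Sing .tr (r72 k) ∧
        (Finset.univ.filter fun p => R p ∧ R' (p⁻¹ * r72 k)).card = n k) →
      ∀ {x : IrrCharacter G → ℤ} {a b c e : ℤ}, (∀ χ, 6 * x χ = a * iv χ (φ (r72 0)) + b * iv χ (φ (r72 1)) +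
        c * iv χ (φ (r72 2)) + e * iv χ (φ (r72 3))) →
      (Nat.card G : ℚ) * ∑ χ, (iv χ (φ (r72 i)) * iv χ (φ (r72 j)) * x χ : ℚ) / iv χ 1 =
        cz (φ (r72 i)) * cz (φ (r72 j)) * ((a * n 0 + b * n 1 + c * n 2 + e * n 3) / 6) :=
    fun i j R R' _ _ n hR hR' hn x a b c e k => by
    rw [lin6 (a := a) (b := b) (c := c) (e := e) fun χ => by exact_mod_cast k χ]
    simp only [struct_iv (rat _) (rat _) (rat _), h.ncl_eq hR hR' (hn 0 (by decide)), h.ncl_eq hR hR' (hn 1 (by decide)),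
      h.ncl_eq hR hR' (hn 2 (by decide)), h.ncl_eq hR hR' (hn 3 (by decide))]
    ring
  have t1 := @st 4 4 _ _ _ _ ![3 + 9 * ζ.toNat, 6 * ζ.toNat, 9 * ζ.toNat, 0, 0, 0, 0] c4 c4 (by
    clear * -; revert ζ; decide +kernel)
  have t2 := @st 4 5 _ _ _ _ ![0, 3 * ξ.toNat, 0, 3 * ζ.toNat, 0, 0, 0] c4 c5 (by
    clear * - nb; revert ζ ξ; decide +kernel)
  have t3 := @st 5 5 _ _ _ _ ![9 * ξ.toNat, 0, 3 + 9 * ξ.toNat, 6 * ξ.toNat, 0, 0, 0] c5 c5 (by
    clear * -; revert ξ; decide +kernel)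
  have sg : ∀ {x : IrrCharacter G → ℤ} {a b c e : ℤ} (k : ∀ χ, 6 * x χ = a * iv χ (φ (r72 0)) + b * iv χ (φ (r72 1)) +
      c * iv χ (φ (r72 2)) + e * iv χ (φ (r72 3))), ∑ χ, x χ ^ 2 = 4 → _ → Sg x fun χ => iv χ 1 := fun k s =>
    Sg.main Nat.card_pos Nat.card_pos Nat.card_pos iv_one_pos (gr k).2.1 (gr k).2.2.1 (gr k).2.2.2 s (t1 k) (t2 k) (t3 k)
  have aac := h.t3.st hb hr rat' (1, 0) (1, 0) (1, 1) 2 (by decide)
  have cca := h.t3.st hb hr rat' (1, 1) (1, 1) (1, 0) 2 (by decide)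
  choose m hm using h.t3.nine hr rat'
  have di : 9 ∣ φ.range.index - 1 := by simpa using h.t3.dvd_index
  have im := φ.range.index_mul_card
  have i0 := Nat.pos_of_ne_zero φ.range.index_ne_zero_of_finite
  rw [hN] at im
  have ot := e1 (triv G)
  have ot := e2 (triv G)
  have ot := e3 (triv G)
  have ot := e4 (triv G)
  simp only [iv_triv] at *
  have lt := d8_arith (o := triv G) (A := fun χ => iv χ (φ (r72 0))) (C := fun χ => iv χ (φ (r72 2))) Nat.card_pos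
    iv_one_pos (iv_triv _) (by omega) (by omega) (by omega) (by omega)
    (fun χ => by have := e3 χ; have := e4 χ; have := e1 χ; have := e2 χ; omega)
    (fun χ => by have := e3 χ; have := e4 χ; have := e1 χ; have := e2 χ; omega) hm
    (fun χ k => iv_ne_of_simple k (rat 0) (h.t3.ne_one (v := (1, 0)) (by decide))) s11 s22 s33 s44
    (f e1 g2.1) (f e1 g3.1) (f e1 g4.1) (f e2 g3.1) (f e2 g4.1) (f e3 g4.1) g1.2.1 g2.2.1 g3.2.1 g4.2.1
    (sg e1 s11 (by cases ζ <;> cases ξ <;> simp at nb ⊢ <;> norm_num))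
    (sg e2 s22 (by cases ζ <;> cases ξ <;> simp at nb ⊢ <;> norm_num))
    (sg e3 s33 (by cases ζ <;> cases ξ <;> simp at nb ⊢ <;> norm_num))
    (sg e4 s44 (by cases ζ <;> cases ξ <;> simp at nb ⊢ <;> norm_num))
    (by
      change _ = (cz (φ (r72 0)) : ℚ) * cz (φ (r72 0)) * _ at aac
      change _ = (cz (φ (r72 2)) : ℚ) * cz (φ (r72 2)) * _ at cca
      rw [z0] at aac
      rw [z2] at cca
      refine Eq.trans ?_ ((congrArg₂ (· + ·) aac cca).trans (by norm_num))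
      rw [← mul_add, ← Finset.sum_add_distrib]
      congr 1
      refine Finset.sum_congr rfl fun χ _ => ?_
      push_cast
      change _ = (iv χ (φ (r72 0)) * iv χ (φ (r72 0)) * iv χ (φ (r72 2)) : ℚ) / _ +
        (iv χ (φ (r72 2)) * iv χ (φ (r72 2)) * iv χ (φ (r72 0)) : ℚ) / _
      ring) sum_iv_one iv_dvd (by omega)
  have hG : ¬ IsMulCommutative G := H2.sm_noncomm_of_card fun hp => by
    rcases (Nat.dvd_prime hp).1 (show 2 ∣ Nat.card G by omega) with h | h <;> omega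
  by_cases k : Nat.card G ≤ 1092
  · rcases Cfsg.Agent.S0496.result hG k with e | e | e | e | e | e <;> omega
  have : Fact (Nat.Prime 19) := ⟨by norm_num⟩
  obtain ⟨P⟩ : Nonempty (Sylow 19 G) := inferInstance
  have k1 : Nat.card G = 1368 := by omega
  have k2 := H2.sm_sylow_prime (by omega) (by omega) P
  have k3 := P.card_dvd_index
  have k4 := card_sylow_modEq_one 19 G
  have k5 := P.1.index_mul_card
  rw [k2] at k5
  rw [show P.1.index = 72 by omega] at k3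
  have k6 := Nat.le_of_dvd (by norm_num) k3
  refine H2.sm_sylow_normalizer_ne_top hG P (by omega) (index_eq_one.1 ?_)
  rw [← H2.sm_card_sylow]
  unfold Nat.ModEq at k4
  have : Nat.card (Sylow 19 G) = 1 ∨ Nat.card (Sylow 19 G) = 20 ∨ Nat.card (Sylow 19 G) = 39 ∨
    Nat.card (Sylow 19 G) = 58 := by omega
  rcases this with e | e | e | e <;> rw [e] at k3 ⊢ <;> omega

end H25
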