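import Cfsg.Agent.H5.T8c

/-! Construction of the model `3² : D₈` of a Sylow normaliser. -/

set_option autoImplicit false
set_option linter.unusedSectionVars false

namespace H25

open Cfsg H17 H19 Subgroup DihedralGroup

variable {G : Type*} [Group G] [Finite G]

theorem exists_basis9 {P : Subgroup G} (h9 : Nat.card P = 9) :
    ∃ a ∈ P, ∃ b ∈ P, a ≠ 1 ∧ b ≠ 1 ∧ b ≠ a ∧ b ≠ a⁻¹ := by
  obtain ⟨a, ha, a1⟩ : ∃ a ∈ P, a ≠ 1 := by
    by_contra! hc
    rw [(eq_bot_iff_forall _).2 hc] at h9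
    simp at h9
  by_contra! hc
  have : (P : Set G) ⊆ {1, a, a⁻¹} := fun b hb => by
    by_cases e1 : b = 1
    · simp [e1]
    by_cases e2 : b = a
    · simp [e2]
    simp [hc a ha b hb a1 e1 e2]
  have l := (Set.ncard_le_ncard this (Set.toFinite _)).trans (Set.ncard_insert_le _ _)
  have l2 := Set.ncard_insert_le a {a⁻¹}
  rw [Set.ncard_singleton] at l2
  have : (P : Set G).ncard = 9 := h9
  omega

/-- the standing hypotheses on the Sylow `3`-subgroup -/
structure Hyp9 (P : Sylow 3 G) : Prop where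
  card : Nat.card (P : Subgroup G) = 9
  cube : ∀ m ∈ (P : Subgroup G), m ^ 3 = 1
  cent : centralizer ((P : Subgroup G) : Set G) = P
  loc : ∀ g ∈ (P : Subgroup G), g ≠ 1 → centralizer {g} ≤ normalizer ((P : Subgroup G) : Set G)

/-- a parametrisation of the Sylow `3`-subgroup -/
structure Par9 (P : Sylow 3 G) (f : V9 → G) : Prop where
  t3 : T3 f (normalizer ((P : Subgroup G) : Set G))
  bad : ∀ v, ¬ T3Bad f (normalizer ((P : Subgroup G) : Set G)) v
  sur : ∀ g, g ∈ (P : Subgroup G) ↔ ∃ v, f v = g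

namespace Hyp9

variable {P : Sylow 3 G} (h : Hyp9 P) {f : V9 → G}
include h

theorem par {a b : G} (ha : a ∈ (P : Subgroup G)) (hb : b ∈ (P : Subgroup G)) (k : a ≠ 1 ∧ b ≠ 1 ∧ b ≠ a ∧ b ≠ a⁻¹) :
    Par9 P (md2 a b) := by
  have cm : Commute a b := (h.cent.ge hb) a ha
  have inj := md2_inj (h.cube a ha) (h.cube b hb) cm k.1 k.2.1 k.2.2.1 k.2.2.2
  have sur := md2_surj inj h.card ha hb
  obtain ⟨k1, k2⟩ := T3.of_sylow P (md2_add (h.cube a ha) (h.cube b hb) cm) inj (by decide) sur h.loc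
  exact ⟨k1, k2, sur⟩

theorem triv (hf : Par9 P f) {g : G} (hg : ∀ u, g * f u * g⁻¹ = f u) : g ∈ (P : Subgroup G) := by
  rw [← h.cent, mem_centralizer_iff]
  intro x hx
  obtain ⟨u, rfl⟩ := (hf.sur x).1 hx
  exact (mul_inv_eq_iff_eq_mul.1 (hg u)).symm

theorem pow72 {g : G} (hg : g ∈ normalizer ((P : Subgroup G) : Set G)) : g ^ 72 = 1 := by
  obtain ⟨a, ha, b, hb, k⟩ := exists_basis9 h.card
  have hf := h.par ha hb k
  obtain ⟨p, q, e⟩ := hf.t3.exists_lin hg
  have k1 : ∀ n u, g ^ n * md2 a b u * (g ^ n)⁻¹ = md2 a b ((lin9 p q)^[n] u) := fun n => by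
    induction n with
    | zero => simp
    | succ n ih => exact fun u => by rw [Function.iterate_succ_apply', ← e, ← ih, pow_succ']; group
  have nz : ∀ u, lin9 p q u = 0 → u = 0 := fun u k => by
    have := e u
    rw [k, hf.t3.zero, conj_eq_one_iff, ← hf.t3.zero] at this
    exact hf.t3.inj this
  rw [show 72 = 24 * 3 from rfl, pow_mul]
  refine h.cube _ (h.triv hf fun u => (k1 24 u).trans (congrArg _ ?_))
  clear k1 e
  revert p q u
  decide +kernel

theorem range_eq {H : Subgroup G} (hH : H ≤ normalizer ((P : Subgroup G) : Set G)) {m : ℕ} (hc : Nat.card H = 9 * m)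
    (hm : ∀ S : Sylow 2 (normalizer ((P : Subgroup G) : Set G)), Nat.card S.1 = m) :
    H = normalizer ((P : Subgroup G) : Set G) := by
  refine hH.antisymm (relIndex_eq_one.1 (by_contra fun k => ?_))
  have e : H.relIndex (normalizer ((P : Subgroup G) : Set G)) * (9 * m) = Nat.card (normalizer ((P : Subgroup G) : Set G)) := by
    rw [← hc, ← Nat.card_congr (subgroupOfEquivOfLe hH).toEquiv, relIndex, index_mul_card]
  obtain ⟨p, hp, c, hc⟩ := Nat.exists_prime_and_dvd k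
  have : Fact p.Prime := ⟨hp⟩
  obtain ⟨g, hg⟩ := exists_prime_orderOf_dvd_card' (G := normalizer ((P : Subgroup G) : Set G)) p
    (e ▸ hc ▸ (dvd_mul_right _ _).mul_right _)
  have k1 : p ∣ 2 ^ 3 * 3 ^ 2 := hg ▸ orderOf_dvd_of_pow_eq_one (Subtype.ext (h.pow72 g.2))
  rcases (Nat.Prime.dvd_mul hp).1 k1 with k1 | k1
  · obtain rfl := (Nat.prime_dvd_prime_iff_eq hp Nat.prime_two).1 (hp.dvd_of_dvd_pow k1)
    obtain ⟨S⟩ : Nonempty (Sylow 2 (normalizer ((P : Subgroup G) : Set G))) := inferInstance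
    have k2 := S.1.index_mul_card
    have k3 : 0 < Nat.card S.1 := Nat.card_pos
    rw [hm, ← e, ← mul_assoc] at k2
    rw [hm] at k3
    exact S.not_dvd_index ⟨c * 9, by rw [Nat.eq_of_mul_eq_mul_right k3 k2, hc, mul_assoc]⟩
  · obtain rfl := (Nat.prime_dvd_prime_iff_eq hp Nat.prime_three).1 (hp.dvd_of_dvd_pow k1)
    have k2 := P.1.index_mul_card
    obtain ⟨d, hd⟩ := card_subgroup_dvd_card (normalizer ((P : Subgroup G) : Set G))
    rw [h.card, hd, ← e, hc] at k2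
    exact P.not_dvd_index ⟨c * m * d, by linarith⟩

omit h in
set_option synthInstance.maxSize 2000 in
theorem d8_lin : ∀ p q p' q' : V9, (∀ u, lin9 p q (lin9 p q (lin9 p q (lin9 p q u))) = u) →
    (¬ ∀ u, lin9 p q (lin9 p q u) = u) → (∀ u, lin9 p' q' (lin9 p' q' u) = u) →
    (∀ u, lin9 p' q' (lin9 p q (lin9 p' q' (lin9 p q u))) = u) → ∃ u, (u ≠ 0 ∧ lin9 p q u ≠ 0 ∧ lin9 p q u ≠ u ∧
      lin9 p q u ≠ -u) ∧ lin9 p q (lin9 p q u) = -u ∧ lin9 p' q' u = u ∧ lin9 p' q' (lin9 p q u) = -lin9 p q u := by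
  decide +kernel

theorem model72 (w : DihedralGroup 4 →* G) (wi : Function.Injective w)
    (wn : ∀ k, w k ∈ normalizer ((P : Subgroup G) : Set G))
    (hm : ∀ S : Sylow 2 (normalizer ((P : Subgroup G) : Set G)), Nat.card S.1 = 8) :
    ∃ φ : M72 →* G, Function.Injective φ ∧ φ.range = normalizer ((P : Subgroup G) : Set G) ∧
      Par9 P fun v => φ (.tr v) := by
  obtain ⟨a, ha, b, hb, k⟩ := exists_basis9 h.card
  have hf := h.par ha hb k
  generalize md2 a b = f at hf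
  obtain ⟨p, q, e⟩ := hf.t3.exists_lin (wn (r 1))
  obtain ⟨p', q', e'⟩ := hf.t3.exists_lin (wn (sr 0))
  have ml : ∀ (k l : DihedralGroup 4) (g : G), w k * (w l * g * (w l)⁻¹) * (w k)⁻¹ = w (k * l) * g * (w (k * l))⁻¹ :=
    fun k l g => by rw [map_mul]; group
  obtain ⟨u, hu, h1, h2, h3⟩ := d8_lin p q p' q'
    (fun u => hf.t3.inj (by simp only [← e, ml]; rw [show r 1 * _ = 1 by decide]; simp))
    (fun k => by
      have := h.cube _ (h.triv hf (g := w (r 1 * r 1)) fun u => by rw [← ml, e, e, k])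
      rw [← map_pow, ← map_one w] at this
      exact absurd (wi this) (by decide))
    (fun u => hf.t3.inj (by simp only [← e', ml]; rw [show sr 0 * _ = 1 by decide]; simp))
    (fun u => hf.t3.inj (by simp only [← e, ← e', ml]; rw [show sr 0 * _ = 1 by decide]; simp))
  have hg := h.par ((hf.sur _).2 ⟨u, rfl⟩) ((hf.sur _).2 ⟨lin9 p q u, rfl⟩) ⟨hf.t3.ne_one hu.1, hf.t3.ne_one hu.2.1,
    fun k => hu.2.2.1 (hf.t3.inj k), fun k => hu.2.2.2 (hf.t3.inj (k.trans (hf.t3.neg u).symm))⟩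
  have l1 := hg.t3.conj_lin (g := w (r 1)) (p := (0, 1)) (q := -(1, 0)) (by rw [md2_a, md2_b, e])
    (by rw [hg.t3.neg, md2_a, md2_b, e, h1, hf.t3.neg])
  have l2 := hg.t3.conj_lin (g := w (sr 0)) (p := (1, 0)) (q := -(0, 1)) (by rw [md2_a, e', h2])
    (by rw [hg.t3.neg, md2_b, e', h3, hf.t3.neg])
  generalize md2 (f u) (f (lin9 p q u)) = g at hg l1 l2
  have hw : ∀ k v, w k * g v * (w k)⁻¹ = g (k • v) := fun k v => by
    have m1 : ∀ v, w (r 1) * g v * (w (r 1))⁻¹ = g ((r 1 : DihedralGroup 4) • v) := fun v =>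
      (l1 v).trans (congrArg g (by revert v; decide))
    have m2 : ∀ v, w (sr 0) * g v * (w (sr 0))⁻¹ = g ((sr 0 : DihedralGroup 4) • v) := fun v =>
      (l2 v).trans (congrArg g (by revert v; decide))
    have : k = r 1 ∨ k = r 1 * r 1 ∨ k = r 1 * (r 1 * r 1) ∨ k = sr 0 * sr 0 ∨ k = sr 0 ∨ k = sr 0 * r 1 ∨
      k = sr 0 * (r 1 * r 1) ∨ k = r 1 * sr 0 := by revert k; decide
    rcases this with rfl | rfl | rfl | rfl | rfl | rfl | rfl | rfl <;> simp only [← ml, m1, m2, mul_smul]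
  have inj := Aff.lift_inj hg.t3 w hw (by decide)
  refine ⟨Aff.lift hg.t3 w hw, inj, h.range_eq (Aff.lift_le _ _ _) ?_ hm, by simpa only [Aff.lift_tr] using hg⟩
  rw [← Nat.card_congr (MonoidHom.ofInjective inj).toEquiv, Nat.card_eq_fintype_card]
  rfl

theorem model72' (hS : ∀ S : Sylow 2 (normalizer ((P : Subgroup G) : Set G)), Nonempty (S.1 ≃* DihedralGroup 4)) :
    ∃ φ : M72 →* G, L3 φ .tr ∧ φ.range = normalizer ((P : Subgroup G) : Set G) ∧ Par9 P fun v => φ (.tr v) := by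
  obtain ⟨S⟩ : Nonempty (Sylow 2 (normalizer ((P : Subgroup G) : Set G))) := inferInstance
  obtain ⟨e⟩ := hS S
  obtain ⟨φ, k1, k2, k3⟩ := h.model72 (((Subgroup.subtype _).comp S.1.subtype).comp e.symm.toMonoidHom)
    ((Subtype.val_injective.comp Subtype.val_injective).comp e.symm.injective) (fun k => (e.symm k).1.2) fun S => by
      obtain ⟨e⟩ := hS S
      rw [Nat.card_congr e.toEquiv, DihedralGroup.nat_card]
  exact ⟨φ, ⟨k1, k2 ▸ k3.t3⟩, k2, k3⟩

theorem not_simple (hS : ∀ S : Sylow 2 (normalizer ((P : Subgroup G) : Set G)), Nonempty (S.1 ≃* DihedralGroup 4)) :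
    ¬ IsSimpleGroup G :=
  let ⟨_, k1, k2, k3⟩ := h.model72' hS
  k1.not_simple (k2 ▸ k3.bad)

end Hyp9

end H25
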