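import Cfsg.Agent.H5.T8d
import Cfsg.Agent.H6.ZS4b
import Cfsg.Agent.S0058
import Cfsg.Agent.S3341

/-! Groups with a strongly `3`-embedded Sylow normaliser `3² : D₈`. -/

set_option autoImplicit false
set_option linter.unusedSectionVars false

namespace H25

open Cfsg H17 H19 Subgroup DihedralGroup Equiv

variable {G : Type*} [Group G] [Finite G]

theorem s6_of_a6 {M : Subgroup G} [M.Normal] (e : M ≃* alternatingGroup (Fin 6))
    (hC : ∀ g : G, (∀ x ∈ M, x * g = g * x) → g = 1) {a c : M} (ha : a * a * a = 1 ∧ a ≠ 1) (hc : c * c * c = 1 ∧ c ≠ 1)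
    (hac : ¬ IsConj (a : G) c) (hne : M ≠ ⊤) : Nonempty (G ≃* Perm (Fin 6)) := by
  let β : G →* MulAut (alternatingGroup (Fin 6)) := (MulAut.congr e).toMonoidHom.comp (MulAut.conjNormal (H := M))
  let γ : Perm (Fin 6) →* MulAut (alternatingGroup (Fin 6)) := MulAut.conjNormal
  have hβ : ∀ g (m : M), β g (e m) = e (MulAut.conjNormal g m) := fun g m => by simp [β]
  have hγ : Function.Injective γ := (injective_iff_map_eq_one _).mpr fun σ k =>
    H7.eq_one_of_comm_alt (by simp) fun g hg => by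
      have := congrArg Subtype.val (MulEquiv.congr_fun k ⟨g, hg⟩)
      simpa [γ, mul_inv_eq_iff_eq_mul] using this
  have hd : ∀ x : M, x * x * x = 1 ∧ x ≠ 1 → ¬ (e x : Perm (Fin 6)).IsThreeCycle →
      IsConj (⟨H6.ZS4.d6, Perm.mem_alternatingGroup.2 (by decide +kernel)⟩ : alternatingGroup (Fin 6)) (e x) := by
    intro x k1 k3
    rcases H6.ZS4.ord3_six (e x) (congrArg Subtype.val (show e x * e x * e x = 1 by
      rw [← map_mul, ← map_mul, k1.1, map_one])) with k | ⟨g, k⟩ | ⟨g, k, k'⟩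
    · exact absurd (e.injective ((Subtype.ext k).trans (map_one e).symm)) k1.2
    · exact absurd (by rw [Perm.IsThreeCycle, ← k, Perm.cycleType_conj]; exact H6.ZS4.c6_three) k3
    · exact isConj_iff.mpr ⟨⟨g, Perm.mem_alternatingGroup.2 k'⟩, Subtype.ext k⟩
  have up : ∀ {x y : M}, IsConj (e x) (e y) → IsConj (x : G) y := fun k => by
    simpa using (M.subtype.comp e.symm.toMonoidHom).map_isConj k
  have hr : ∀ g, β g ∈ γ.range := fun g => by
    obtain ⟨σ, k⟩ := H7.exists_conj_of_three (by simp) ((alternatingGroup (Fin 6)).subtype.comp (β g).toMonoidHom)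
      (Subtype.val_injective.comp (β g).injective) fun y hy => by
      obtain ⟨y, rfl⟩ := e.surjective y
      show (β g (e y) : Perm (Fin 6)).IsThreeCycle
      rw [hβ]
      by_contra k'
      have k1 := hd (MulAut.conjNormal g y) ⟨by
        rw [← map_mul, ← map_mul, map_eq_one_iff _ (MulEquiv.injective _), ← map_eq_one_iff e e.injective, map_mul,
          map_mul]
        have := pow_orderOf_eq_one (e y : Perm (Fin 6))
        rw [hy.orderOf, pow_succ, pow_two] at this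
        exact Subtype.ext this, fun k => by
        rw [map_eq_one_iff _ (MulEquiv.injective _)] at k
        have := hy.orderOf
        simp [k] at this⟩ k'
      have k2 : ∀ x : M, x * x * x = 1 ∧ x ≠ 1 → IsConj (y : G) x := fun x hx => by
        by_cases k : (e x : Perm (Fin 6)).IsThreeCycle
        · exact up (alternatingGroup.isThreeCycle_isConj (by simp) hy k)
        · exact (isConj_iff.2 ⟨g, rfl⟩).trans (up (k1.symm.trans (hd x hx k)))
      exact hac ((k2 a ha).symm.trans (k2 c hc))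
    exact ⟨σ, by ext1 a; exact Subtype.ext (k a).symm⟩
  let ψ : G →* Perm (Fin 6) := (MonoidHom.ofInjective hγ).symm.toMonoidHom.comp (β.codRestrict _ hr)
  have hψ : Function.Injective ψ := (injective_iff_map_eq_one _).2 fun g hg => hC g fun x hx => by
    have k1 : β g = 1 := congrArg Subtype.val ((MonoidHom.ofInjective hγ).symm.injective (hg.trans (map_one _).symm))
    have k2 := hβ g ⟨x, hx⟩
    rw [k1] at k2
    exact eq_mul_inv_iff_mul_eq.1 (congrArg Subtype.val (e.injective k2))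
  refine ⟨MulEquiv.ofBijective ψ ((Nat.bijective_iff_injective_and_card _).mpr ⟨hψ, ?_⟩)⟩
  have k1 := Nat.card_le_card_of_injective _ hψ
  have k2 := M.index_mul_card
  have k3 := mt index_eq_one.1 hne
  have k4 := M.index_ne_zero_of_finite
  rw [Nat.card_congr e.toEquiv, H18.card_a6] at k2
  rw [Nat.card_perm, Nat.card_fin, show Nat.factorial 6 = 720 from rfl] at k1 ⊢
  omega

namespace Hyp9

variable {P : Sylow 3 G} (h : Hyp9 P)
include h

theorem comm : IsMulCommutative (P : Subgroup G) := ⟨⟨fun a b => Subtype.ext ((h.cent.ge b.2) a a.2)⟩⟩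

theorem meet (L : Subgroup G) [hn : L.Normal] (hL : L ≠ ⊥) : ∃ s ∈ (P : Subgroup G), s ≠ 1 ∧ s ∈ L := by
  by_contra! k
  by_cases k3 : 3 ∣ Nat.card L
  · obtain ⟨x, hx⟩ := exists_prime_orderOf_dvd_card' 3 k3
    obtain ⟨y, h1, h2, h3⟩ := H2.sm_exists_conj_mem P ((orderOf_coe x).trans hx)
    obtain ⟨g, rfl⟩ := isConj_iff.1 h3
    exact k _ h1 h2 (hn.conj_mem _ x.2 g)
  have := h.comm
  have k0 : ∀ s ∈ (P : Subgroup G), s ∈ L → s = 1 := fun s h1 h2 => by_contra fun e => k s h1 e h2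
  refine hL (eq_bot_iff.2 ((Cfsg.Agent.S0058.result P L (fun hc => ?_) le_normalizer_of_normal ?_).ge.trans
    (iSup₂_le fun a ha g hg => k0 g (h.cent.le fun x hx => ?_) hg.1)))
  · obtain ⟨g, hg⟩ := IsCyclic.exists_ofOrder_eq_natCard (α := (P : Subgroup G))
    have := orderOf_dvd_of_pow_eq_one (Subtype.ext (h.cube g g.2) : g ^ 3 = 1)
    rw [hg, h.card] at this
    omega
  · rw [h.card]
    exact ((Nat.Prime.coprime_iff_not_dvd Nat.prime_three).2 k3).pow_left 2
  · have := k0 (g * x * g⁻¹ * x⁻¹) (mul_mem ((mem_normalizer_iff.1 (h.loc a ha.1 ha.2 hg.2) x).1 hx) (inv_mem hx))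
      (by simpa only [mul_assoc] using L.mul_mem hg.1 (hn.conj_mem _ (L.inv_mem hg.1) x))
    exact (mul_inv_eq_iff_eq_mul.1 (mul_inv_eq_one.1 this)).symm

theorem sub {K : Subgroup G} (hK : (P : Subgroup G) ≤ K) : Hyp9 (P.subtype hK) where
  card := (Nat.card_congr (subgroupOfEquivOfLe hK).toEquiv).trans h.card
  cube m hm := Subtype.ext (h.cube _ hm)
  cent := le_antisymm (fun g hg => h.cent.le fun x hx => congrArg Subtype.val (hg ⟨x, hK hx⟩ hx))
    fun g hg x hx => Subtype.ext (h.cent.ge hg _ hx)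
  loc g hg g1 x hx := by
    rw [Sylow.coe_subtype, ← subgroupOf_normalizer_eq hK]
    exact h.loc _ hg (fun e => g1 (Subtype.ext e))
      (mem_centralizer_singleton_iff.2 (congrArg Subtype.val (mem_centralizer_singleton_iff.1 hx)))

end Hyp9

/-- the four-subgroups -/
def Rv (i : ZMod 4) (k : DihedralGroup 4) : Prop := k = 1 ∨ k = r 2 ∨ k = sr i ∨ k = sr (i + 2)

instance (i : ZMod 4) : DecidablePred (Rv i) := fun _ => by unfold Rv; infer_instance

/-- adapted bases -/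
def Bv (i : ZMod 4) (v : V9) : V9 := if i = 0 ∨ i = 2 then v else lin9 (1, 1) (1, 2) v

theorem Hyp9.s6 {P : Sylow 3 G} (h : Hyp9 P)
    (hS : ∀ S : Sylow 2 (normalizer ((P : Subgroup G) : Set G)), Nonempty (S.1 ≃* DihedralGroup 4)) :
    (P : Subgroup G).Normal ∨ Nonempty (G ≃* Perm (Fin 6)) := by
  classical
  obtain ⟨φ, hφ, hN, hp⟩ := h.model72' hS
  rw [or_iff_not_imp_left, ← normalizer_eq_top_iff]
  intro hn
  have span : ∀ {L : Subgroup G} {v : V9}, v ≠ 0 → φ (.tr v) ∈ L → φ (.tr ((r 1 : DihedralGroup 4) • v)) ∈ L →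
      (P : Subgroup G) ≤ L := fun {L v} hv h1 h2 x hx => by
    obtain ⟨w, rfl⟩ := (hp.sur x).1 hx
    obtain ⟨i, j, rfl⟩ : ∃ i j : Fin 3, w = i.1 • v + j.1 • ((r 1 : DihedralGroup 4) • v) := by
      clear * - hv; revert v w; decide
    rw [hp.t3.add, hp.t3.nsmul, hp.t3.nsmul]
    exact mul_mem (pow_mem h1 _) (pow_mem h2 _)
  have rot : ∀ v, φ ⟨0, r 1⟩ * φ (.tr v) * (φ ⟨0, r 1⟩)⁻¹ = φ (.tr ((r 1 : DihedralGroup 4) • v)) := fun v => by
    rw [← map_inv, ← map_mul, ← map_mul]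
    exact congrArg φ (by revert v; decide)
  have nz : ∀ {v : V9}, φ (.tr v) ≠ 1 → v ≠ 0 := fun k e => k (e ▸ hp.t3.zero)
  have hL : ∀ L : Subgroup G, L.Normal → L ≠ ⊥ → (P : Subgroup G) ≤ L := fun L hL k => by
    obtain ⟨s, h1, h2, h3⟩ := h.meet L k
    obtain ⟨v, rfl⟩ := (hp.sur s).1 h1
    exact span (nz h2) h3 (rot v ▸ hL.conj_mem _ h3 _)
  set K := normalClosure ((P : Subgroup G) : Set G) with hKd
  have hK : (P : Subgroup G) ≤ K := le_normalClosure
  have fr : normalizer ((P : Subgroup G) : Set G) ⊔ K = ⊤ := Sylow.normalizer_sup_eq_top' P hK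
  have nK : ¬ K ≤ normalizer ((P : Subgroup G) : Set G) := fun k => hn (by rwa [sup_eq_left.2 k] at fr)
  have mv : ∀ v, φ (.tr v) ∈ K := fun v => hK ((hp.sur _).2 ⟨v, rfl⟩)
  have mk : ∀ p : M72, φ p ∈ K ↔ φ ⟨0, p.k⟩ ∈ K := fun p => by
    rw [← mul_mem_cancel_left (y := φ ⟨0, p.k⟩) (mv p.v), ← map_mul,
      show Aff.tr p.v * ⟨0, p.k⟩ = p by revert p; decide +kernel]
  have nt : K ≠ ⊤ := fun k => h.not_simple hS (@IsSimpleGroup.mk _ _ ((nontrivial_iff_exists_ne 1).2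
    ⟨_, hp.t3.ne_one (v := (1, 0)) (by decide)⟩) fun L hl => or_iff_not_imp_left.2 fun e =>
      eq_top_iff.2 (k.ge.trans (normalClosure_le_normal (hL L hl e))))
  have h' := h.sub hK
  have nn : normalizer ((P.subtype hK : Subgroup K) : Set K) = φ.range.subgroupOf K := by
    rw [Sylow.coe_subtype, ← subgroupOf_normalizer_eq hK, hN]
  by_cases hi : ∃ i, φ ⟨0, sr i⟩ ∈ K
  · obtain ⟨i, hi⟩ := hi
    have k1 : φ ⟨0, sr (i + 2)⟩ ∈ K := by
      have := normalClosure_normal.conj_mem _ hi (φ ⟨0, r 1⟩)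
      rwa [← map_inv, ← map_mul, ← map_mul, show (⟨0, r 1⟩ * ⟨0, sr i⟩ * ⟨0, r 1⟩⁻¹ : M72) = ⟨0, sr (i + 2)⟩ by
        clear * -; revert i; decide] at this
    have k2 : ∀ p : M72, Rv i p.k → φ p ∈ K := fun p k => (mk p).2 (by
      rcases k with k | k | k | k <;> rw [k]
      · exact mv 0
      · have := mul_mem hi k1
        rwa [← map_mul, show (⟨0, sr i⟩ * ⟨0, sr (i + 2)⟩ : M72) = ⟨0, r 2⟩ by clear * -; revert i; decide] at this
      exacts [hi, k1])
    have k3 : ∀ p : M72, φ p ∈ K ↔ Rv i p.k := fun p => ⟨fun k => by_contra fun k' => nt (by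
      rw [← fr, eq_comm, sup_eq_right, ← hN]
      rintro _ ⟨q, rfl⟩
      rcases (show ∀ (i : ZMod 4) a b, ¬ Rv i a → Rv i b ∨ Rv i (a⁻¹ * b) by decide) i _ q.k k' with e | e
      · exact k2 q e
      · simpa using mul_mem k (k2 (p⁻¹ * q) e)), k2 p⟩
    have hB : (∀ u v, Bv i (u + v) = Bv i u + Bv i v) ∧ (∀ u v, Bv i u = Bv i v → u = v) ∧ ∀ v, ∃ u, Bv i u = v := by
      clear * -; revert i; decide +kernel
    obtain ⟨t, b⟩ := T3.of_sylow (P.subtype hK) (f := fun v => ⟨φ (.tr (Bv i v)), mv _⟩)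
      (fun u v => Subtype.ext (by rw [hB.1]; exact hp.t3.add _ _))
      (fun u v k => hB.2.1 _ _ (hp.t3.inj (congrArg Subtype.val k))) (by decide)
      (fun g => (hp.sur g.1).trans ⟨fun ⟨v, k⟩ => let ⟨u, e⟩ := hB.2.2 v; ⟨u, Subtype.ext (e ▸ k)⟩,
        fun ⟨v, k⟩ => ⟨_, congrArg Subtype.val k⟩⟩) h'.loc
    refine (nK (hN ▸ subgroupOf_eq_top.1 (nn ▸ t.v4_top b (fun u v hu => ?_) ?_))).elim
    · refine Iff.trans ⟨fun k => ?_, fun ⟨p, k, e⟩ => isConj_iff.2 ⟨⟨φ p, k2 p k⟩, Subtype.ext ?_⟩⟩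
        (show (∃ p : M72, Rv i p.k ∧ p * .tr (Bv i u) * p⁻¹ = .tr (Bv i v)) ↔ _ by
          clear * - hu; revert i u v; decide +kernel)
      · obtain ⟨g, hg⟩ := isConj_iff.1 k
        obtain ⟨p, e, k⟩ := hφ.conj_in (g := g.1) ⟨1, Bv i u, by clear * - hu; revert i u; decide, pow_one _⟩
          (congrArg Subtype.val hg)
        exact ⟨p, (k3 p).1 (e ▸ g.2), k⟩
      · simp [← e]
    · change Nat.card (normalizer ((P.subtype hK : Subgroup K) : Set K)) = 36
      rw [nn, ← card_subtype, subgroupOf_map_subtype, ← map_comap_eq, card_map_of_injective hφ.inj]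
      refine (Nat.card_congr (Equiv.subtypeEquivRight k3)).trans (Nat.card_eq_fintype_card.trans ?_)
      clear * -; revert i; decide +kernel
  have cs : ∀ s ∈ (P.subtype hK : Subgroup K), s ≠ 1 → centralizer {s} = (P.subtype hK : Subgroup K) := fun s hs s1 => by
    refine le_antisymm (fun g hg => ?_) fun g hg => mem_centralizer_singleton_iff.2 (h'.cent.ge hs _ hg)
    obtain ⟨v, e⟩ := (hp.sur s.1).1 hs
    have hv := nz fun k => s1 (Subtype.ext (e.symm.trans k))
    obtain ⟨p, e1, k⟩ := hφ.conj_in (g := g.1) (q' := .tr v) ⟨1, v, hv, pow_one _⟩ (mul_inv_eq_iff_eq_mul.2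
      (e ▸ congrArg Subtype.val (mem_centralizer_singleton_iff.1 hg)))
    have : p = .tr p.v ∨ ∃ i, p.k = sr i := by clear * - hv k; revert p v; decide +kernel
    exact (hp.sur g.1).2 ⟨p.v, e1 ▸ congrArg φ (this.resolve_right fun ⟨i, k⟩ => hi ⟨i, k ▸ (mk p).1 (e1 ▸ g.2)⟩).symm⟩
  have o3 : ∀ v, v ≠ 0 → orderOf (⟨φ (.tr v), mv v⟩ : K) = 3 := fun v hv =>
    orderOf_eq_prime (Subtype.ext (hp.t3.cube v)) fun k => hp.t3.ne_one hv (congrArg Subtype.val k)
  have ac : ¬ IsConj (φ (.tr (1, 0))) (φ (.tr (1, 1))) := by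
    rw [hφ.conj_iff (by decide +kernel)]; decide +kernel
  have : IsSimpleGroup K := @IsSimpleGroup.mk _ _ ((nontrivial_iff_ne_bot _).2 fun k => nK (k ▸ bot_le))
    fun L hl => or_iff_not_imp_left.2 fun e => by
    let L' := L.comap (MulAut.conjNormal (H := K) (φ ⟨0, r 1⟩)).toMonoidHom
    by_cases k : L ⊓ L' = ⊥
    · obtain ⟨s, h1, h2, h3⟩ := h'.meet L' fun k => e (comap_injective (MulEquiv.surjective _)
        (k.trans ((MonoidHom.ker_eq_bot_iff _).2 (MulEquiv.injective _)).symm))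
      obtain ⟨s', h1', h2', h3'⟩ := h'.meet L e
      refine (nK fun g hg => ?_).elim
      obtain ⟨v, e1⟩ := (hp.sur s'.1).1 h1'
      obtain ⟨w, e2⟩ := (hp.sur _).1 ((cs s h1 h2).le (mem_centralizer_singleton_iff.2 (commute_of_normal_of_disjoint L L'
        hl inferInstance (disjoint_iff.2 k) _ _ (hl.conj_mem _ h3' ⟨g, hg⟩) h3)))
      exact hp.t3.fus (nz fun k => h2' (Subtype.ext (e1.symm.trans k))) (v := w) (by rw [e1, e2]; rfl)
    obtain ⟨s, h1, h2, h3⟩ := h'.meet _ k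
    obtain ⟨v, e1⟩ := (hp.sur s.1).1 h1
    have k1 := span (L := L.map K.subtype) (nz fun k => h2 (Subtype.ext (e1.symm.trans k))) ⟨s, h3.1, e1.symm⟩
      ⟨_, h3.2, by rw [← rot, e1]; rfl⟩
    refine map_injective K.subtype_injective (le_antisymm (map_mono le_top) ?_)
    rw [← MonoidHom.range_eq_map, range_subtype]
    refine (closure_le _).2 fun x hx => ?_
    obtain ⟨y, hy, k2⟩ := Group.mem_conjugatesOfSet_iff.1 hx
    obtain ⟨g, rfl⟩ := isConj_iff.1 k2
    obtain ⟨a, ha, b, hb, rfl⟩ := mem_sup_of_normal_left.1 ((sup_comm K _).trans fr ▸ mem_top g)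
    obtain ⟨z, hz, k3⟩ := k1 ((mem_normalizer_iff.1 hb y).1 hy)
    exact ⟨_, hl.conj_mem _ hz ⟨a, ha⟩, by simp [show (z : G) = _ from k3, mul_assoc]⟩
  obtain ⟨e⟩ := Cfsg.Agent.S3341.result (P.subtype hK) _ rfl h'.comm h'.cube h'.card
    ⟨_, _, o3 (1, 0) (by decide), o3 (1, 1) (by decide), fun g k => ac (isConj_iff.2 ⟨g.1, congrArg Subtype.val k⟩)⟩ cs
  have c3 : ∀ v, v ≠ 0 → (⟨φ (.tr v), mv v⟩ : K) * ⟨φ (.tr v), mv v⟩ * ⟨φ (.tr v), mv v⟩ = 1 ∧
      (⟨φ (.tr v), mv v⟩ : K) ≠ 1 := fun v hv => ⟨by rw [← pow_two, ← pow_succ]; exact Subtype.ext (hp.t3.cube v),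
    fun k => hp.t3.ne_one hv (congrArg Subtype.val k)⟩
  refine s6_of_a6 e (fun g hg => by_contra fun k => nK fun x hx => h.cent.le.trans le_normalizer fun y hy => ?_)
    (c3 (1, 0) (by decide)) (c3 (1, 1) (by decide)) ac nt
  exact (hL (centralizer K) inferInstance (fun e => k (mem_bot.1 (e.le hg))) hy x hx).symm

end H25
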