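import Cfsg.Agent.H11.QPe
/-! Quadratic pairs: transitivity on the normalized partners of a quadratic element. -/
set_option autoImplicit false
set_option linter.unusedSimpArgs false
namespace H5TR
open Subgroup Cfsg H16 H16.H11 Module

theorem conj_odd {G : Type*} [Group G] {a b : G} (ha : a * a = 1) (hb : b * b = 1) {n : ℕ} (hn : Odd n)
    (h : (a * b) ^ n = 1) : ∃ k : ℕ, (a * b) ^ k * b * ((a * b) ^ k)⁻¹ = a := by
  obtain ⟨m, rfl⟩ := hn
  refine ⟨m + 1, ?_⟩
  have ib : b⁻¹ = b := inv_eq_of_mul_eq_one_left hb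
  have ia : a⁻¹ = a := inv_eq_of_mul_eq_one_left ha
  have c : b * (a * b)⁻¹ * b⁻¹ = a * b := by
    rw [mul_inv_rev, ib, ia, ← mul_assoc, hb, one_mul]
  have c2 : b * ((a * b) ^ (m + 1))⁻¹ = (a * b) ^ (m + 1) * b := by
    rw [← inv_pow, ← mul_inv_eq_iff_eq_mul, ← conj_pow, c]
  rw [mul_assoc, c2, ← mul_assoc, ← pow_add, show m + 1 + (m + 1) = 2 * m + 1 + 1 by ring,
    pow_succ, h, one_mul, mul_assoc, hb, mul_one]

section
variable {k M : Type*} [Field k] [AddCommGroup M] [Module k M] {L : Subgroup (GLm k M)} {s t w N : End k M}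

theorem pow3 (h : N * (N * N) = 0) (n : ℕ) : (1 + N) ^ n = 1 + (n : k) • N + (n.choose 2 : k) • (N * N) := by
  induction n with
  | zero => simp
  | succ n ih =>
    rw [pow_succ', ih, Nat.choose_succ_succ' n 1, Nat.choose_one_right]
    simp only [mul_add, add_mul, mul_smul_comm, h, one_mul, mul_one, smul_zero]
    push_cast
    module

theorem nm (h : NP s t) (hs : QS L s) (ht : QS L t) {c : k} (c0 : c ≠ 0) :
    ∃ g ∈ L, g.1 = 1 - (s * t + t * s) + (c • s - c⁻¹ • t) := by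
  obtain ⟨a, ha, e1⟩ := hs.2 c
  obtain ⟨b, hb, e2⟩ := ht.2 (-c⁻¹)
  refine ⟨a * b * a, mul_mem (mul_mem ha hb) ha, ?_⟩
  rw [Units.val_mul, Units.val_mul, e1, e2]
  simp only [mul_add, add_mul, mul_smul_comm, smul_mul_assoc, mul_assoc, hs.1, h.1, mul_one, one_mul, smul_zero, smul_smul,
    mul_neg, neg_mul, mul_inv_cancel₀ c0, inv_mul_cancel₀ c0, inv_mul_cancel_left₀ c0, mul_inv_cancel_left₀ c0]
  match_scalars <;> field_simp <;> ring

theorem hh (h : NP s t) (hs : QS L s) (ht : QS L t) {a b : k} (a0 : a ≠ 0) (b0 : b ≠ 0) :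
    ∃ g ∈ L, g.1 = 1 - (s * t + t * s) + (-(a * b⁻¹) • (s * t) - (a⁻¹ * b) • (t * s)) := by
  obtain ⟨x, hx, e1⟩ := nm h hs ht a0
  obtain ⟨y, hy, e2⟩ := nm h hs ht b0
  refine ⟨x * y, mul_mem hx hy, ?_⟩
  rw [Units.val_mul, e1, e2]
  simp only [mul_add, add_mul, mul_sub, sub_mul, mul_smul_comm, smul_mul_assoc, mul_assoc, hs.1, ht.1, h.1, h.2, mul_one,
    one_mul, smul_zero, mul_mul_zero hs.1, mul_mul_zero ht.1, h.l, h.symm.l, mul_zero]
  module

end

variable {p : ℕ} [Fact p.Prime] (h5 : 5 ≤ p) {M : Type*} [AddCommGroup M] [Module (ZMod p) M]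
  {G : Subgroup (GLm (ZMod p) M)} {s t w : End (ZMod p) M}
include h5

theorem ne2 : (2 : ZMod p) ≠ 0 := fun e => by
  have := Nat.le_of_dvd (by norm_num) ((ZMod.natCast_eq_zero_iff 2 p).1 (by exact_mod_cast e)); omega

theorem ne3 : (3 : ZMod p) ≠ 0 := fun e => by
  have := Nat.le_of_dvd (by norm_num) ((ZMod.natCast_eq_zero_iff 3 p).1 (by exact_mod_cast e)); omega

theorem tr2 (hs : QS G s) (ht : QS G t) (hw : QS G w) (h : NP s t) (h' : NP s w) (e : s * w + w * s = s * t + t * s) :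
    ∃ u ∈ G, u.1 * s * u⁻¹.1 = s ∧ u.1 * t * u⁻¹.1 = w := by
  have n2 := ne2 h5
  obtain ⟨a, ha, e1⟩ := hh h' hs hw n2 (neg_ne_zero.2 one_ne_zero)
  obtain ⟨b, hb, e2⟩ := hh h hs ht one_ne_zero (neg_ne_zero.2 n2)
  have w1 : w * (s * t) + w * (t * s) = w := by
    rw [← mul_add, ← e, mul_add, h'.2, mul_mul_zero hw.1, add_zero]
  have w2 : s * (t * w) + t * (s * w) = w := by
    rw [← mul_assoc, ← mul_assoc, ← add_mul, ← e, add_mul, mul_assoc, mul_assoc, h'.2, hw.1, mul_zero, zero_add]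
  have t1 : s * (w * t) + w * (s * t) = t := by
    rw [← mul_assoc, ← mul_assoc, ← add_mul, e, add_mul, mul_assoc, mul_assoc, h.2, ht.1, mul_zero, zero_add]
  obtain ⟨y, hy⟩ : ∃ y, y = s * t - s * w := ⟨_, rfl⟩
  have y2 : y = w * s - t * s := by rw [hy, sub_eq_sub_iff_add_eq_add, ← e, add_comm]
  have sy : s * y = 0 := by rw [hy, mul_sub, mul_mul_zero hs.1, mul_mul_zero hs.1, sub_zero]
  have ys : y * s = 0 := by rw [hy, sub_mul, mul_assoc, mul_assoc, h.1, h'.1, sub_self]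
  have yy : y * y = 0 := by conv_lhs => rw [hy, mul_sub, ← mul_assoc, ← mul_assoc, ← hy, ys]
                            simp
  have k1 : s * (w * (t * s)) = -y := by
    rw [eq_sub_of_add_eq' w1, mul_sub, h'.l, hy, neg_sub]
  have ab : (a * b).1 = 1 + (-3 : ZMod p) • y := by
    have f1 : ∀ x, (1 - (s * t + t * s)) * (s * x) = 0 := fun x => by
      simp [sub_mul, add_mul, mul_assoc, h.l, mul_mul_zero hs.1]
    have f2 : (1 - (s * t + t * s)) * (t * s) = 0 := by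
      simp [sub_mul, add_mul, mul_assoc, h.symm.l, mul_mul_zero ht.1]
    have f3 : (w * s) * (1 - (s * t + t * s)) = 0 := by
      simp [mul_sub, mul_add, mul_assoc, h.1, mul_mul_zero hs.1]
    have f4 : (s * w) * (1 - (s * t + t * s)) = 0 := by
      rw [← e]; simp [mul_sub, mul_add, mul_assoc, h'.2, mul_mul_zero hw.1]
    have f5 := h.idem hs.1 ht.1
    have f6 : (1 - (s * t + t * s)) * (1 - (s * t + t * s)) = 1 - (s * t + t * s) := by
      rw [mul_sub, sub_mul, sub_mul, f5]; simp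
    rw [Units.val_mul, e1, e2, e]
    generalize hf : 1 - (s * t + t * s) = f at f1 f2 f3 f4 f6
    simp only [mul_add, add_mul, mul_sub, sub_mul, mul_smul_comm, smul_mul_assoc, f1, f2, f3, f4, f6, smul_zero]
    simp only [mul_assoc, k1, h'.l, mul_mul_zero hs.1, h.1, mul_zero, smul_zero]
    rw [← hf, eq_add_of_sub_eq y2.symm]
    have i2 : (2 : ZMod p) * 2⁻¹ = 1 := mul_inv_cancel₀ n2
    match_scalars
    · rfl
    · simp [n2]
    · simp [n2]
    · simp [n2]; linear_combination i2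
  have ab2 : ((a * b) ^ ((-3 : ZMod p)⁻¹).val).1 = 1 + (1 : ZMod p) • y := by
    rw [Units.val_pow_eq_pow_val, ab, pow3 (by simp [yy]), ZMod.natCast_zmod_val, smul_smul,
      inv_mul_cancel₀ (neg_ne_zero.2 (ne3 h5))]
    simp [yy]
  refine ⟨_, pow_mem (mul_mem ha hb) ((-3 : ZMod p)⁻¹).val, ?_, ?_⟩ <;> rw [inv_val yy ab2, ab2, one_smul]
  · simp [mul_sub, add_mul, sy, ys]
  · have yt : y * t = -(s * (w * t)) := by rw [hy, sub_mul, mul_assoc, ht.1, mul_zero, zero_sub, mul_assoc]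
    have ty : t * y = t * (w * s) := by rw [y2, mul_sub, mul_mul_zero ht.1, sub_zero]
    have z1 : w * (s * (t * (w * s))) = -(w * (t * s)) := by
      rw [← mul_assoc t, ← mul_assoc s, eq_sub_of_add_eq w2, sub_mul, mul_sub, mul_mul_zero hw.1, mul_assoc, mul_assoc, h'.1,
        zero_sub]
    rw [add_mul, one_mul, yt, eq_sub_of_add_eq t1, neg_sub, add_sub_cancel, mul_sub, mul_one, mul_assoc, mul_assoc, ty, z1,
      sub_neg_eq_add, w1]

theorem tr1 (hs : QS G s) (ht : QS G t) (hw : QS G w) (h : NP s t) (h' : NP s w) :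
    ∃ u ∈ G, u.1 * s * u⁻¹.1 = s ∧ u.1 * t * u⁻¹.1 = w := by
  have hp : p.Prime := Fact.out
  have n2 := ne2 h5
  obtain ⟨a, ha, e1⟩ := h.inv_mem hs ht
  obtain ⟨b, hb, e2⟩ := h'.inv_mem hs hw
  replace ha : a ∈ G := (sup_le RG_le RG_le : _ ≤ G) ha
  replace hb : b ∈ G := (sup_le RG_le RG_le : _ ≤ G) hb
  have sq : ∀ (c : GLm (ZMod p) M) (f : End (ZMod p) M), f * f = f → c.1 = 1 - (2 : ZMod p) • f → c * c = 1 := fun c f x y =>
    Units.ext (by
      rw [Units.val_mul, y]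
      simp only [mul_sub, sub_mul, mul_smul_comm, smul_mul_assoc, x, mul_one, one_mul, Units.val_one]
      module)
  obtain ⟨N, hN⟩ : ∃ N, N = (a * b).1 - 1 := ⟨_, rfl⟩
  have hN' : N = s * ((2 : ZMod p) • (w - t)) + ((2 : ZMod p) • (t - w) + (4 : ZMod p) • (s * (t * w))) * s := by
    rw [hN, Units.val_mul, e1, e2]
    simp only [mul_add, add_mul, mul_sub, sub_mul, mul_smul_comm, smul_mul_assoc, mul_assoc, mul_one, one_mul, h.l, h'.1,
      mul_mul_zero hs.1, mul_zero]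
    module
  have Ns : N * s = 0 := by
    rw [hN']; simp [add_mul, mul_assoc, hs.1, sub_mul, mul_sub, h.1, h'.1]
  have sN : s * N = 0 := by
    rw [hN']; simp [mul_add, add_mul, mul_assoc, mul_mul_zero hs.1, sub_mul, mul_sub, h.1, h'.1]
  have N3 : N * (N * N) = 0 := by
    conv_lhs => enter [2, 1]; rw [hN']
    rw [add_mul, mul_assoc, mul_assoc, sN, mul_zero, add_zero, mul_mul_zero Ns]
  have ab : (a * b).1 = 1 + N := by rw [hN]; abel
  obtain ⟨n, hn⟩ := conj_odd (sq a _ (h.idem hs.1 ht.1) e1) (sq b _ (h'.idem hs.1 hw.1) e2) (hp.odd_of_ne_two (by omega))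
    (Units.ext (by
      rw [Units.val_pow_eq_pow_val, ab, pow3 N3, (ZMod.natCast_eq_zero_iff _ p).2 (hp.dvd_choose_self (by norm_num) (by omega))]
      simp))
  have uG := pow_mem (mul_mem ha hb) n
  have us : ((a * b) ^ n).1 * s = s * ((a * b) ^ n).1 := by
    rw [Units.val_pow_eq_pow_val, ab]
    exact (Commute.pow_left (by simp [Commute, SemiconjBy, add_mul, mul_add, Ns, sN]) n).eq
  generalize (a * b) ^ n = u at hn uG us
  have us' : u.1 * s * u⁻¹.1 = s := by rw [us]; simp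
  have cm : ∀ x y : End (ZMod p) M, u.1 * x * u⁻¹.1 * (u.1 * y * u⁻¹.1) = u.1 * (x * y) * u⁻¹.1 := fun x y => by
    simp [mul_assoc]
  obtain ⟨v, hv, v1, v2⟩ := tr2 h5 hs ht (hw.conj uG) h
    ⟨by conv_lhs => rw [← us', cm, cm, h'.1, us'], by conv_lhs => rw [← us', cm, cm, h'.2]⟩ (by
      have := congrArg Units.val hn
      rw [Units.val_mul, Units.val_mul, e1, e2, mul_sub, sub_mul, mul_one, Units.mul_inv, sub_right_inj, mul_smul_comm,
        smul_mul_assoc] at this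
      rw [← smul_right_injective _ n2 this, mul_add, add_mul, ← cm, ← cm, us'])
  refine ⟨u⁻¹ * v, mul_mem (inv_mem uG) hv, ?_, ?_⟩
  · calc _ = u⁻¹.1 * (v.1 * s * v⁻¹.1) * u.1 := by simp [mul_assoc]
      _ = s := by rw [v1, mul_assoc, ← us]; simp
  · calc _ = u⁻¹.1 * (v.1 * t * v⁻¹.1) * u.1 := by simp [mul_assoc]
      _ = w := by rw [v2]; simp [mul_assoc]

theorem tr [Finite M] (hs : QS G s) (ht : QS G t) (hw : QS G w) (h : NP s t) (h' : NP s w) :
    ∃ u ∈ RG G s ⊔ RG G t ⊔ RG G w, u.1 * s * u⁻¹.1 = s ∧ u.1 * t * u⁻¹.1 = w := by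
  have k : ∀ x, QS G x → QS (RG G x) x := fun x hx => ⟨hx.1, fun c => ⟨_, ex_mem (Submodule.smul_mem _ c hx.mem), rfl⟩⟩
  exact tr1 h5 ((k s hs).mono (le_sup_left.trans le_sup_left)) ((k t ht).mono (le_sup_right.trans le_sup_left))
    ((k w hw).mono le_sup_right) h h'

end H5TR
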